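import Cfsg.Agent.Lib.SC2.Ind
import Cfsg.Agent.Lib.SC.Solv
import Cfsg.Agent.Lib.CI.Core

/-!
# Sylow 2-subgroups of type `L₃(4)`: coordinates
-/

set_option autoImplicit false
set_option linter.unusedSectionVars false

namespace Cfsg.Lib.L34
open Subgroup Cfsg.Lib Cfsg.Lib.FT

section F4
variable {F : Type*} [Field F] (hF : Nat.card F = 4)
include hF

theorem f_fin : Finite F := Nat.finite_of_card_ne_zero (by omega)

theorem f_pow (x : F) : x ^ 4 = x := by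
  have := f_fin hF
  have := Fintype.ofFinite F
  have h := FiniteField.pow_card x
  rwa [← Nat.card_eq_fintype_card, hF] at h

theorem f_two : (2 : F) = 0 := by
  have := f_fin hF
  have := Fintype.ofFinite F
  have h := FiniteField.cast_card_eq_zero F
  rw [← Nat.card_eq_fintype_card, hF] at h
  exact pow_eq_zero_iff (n := 2) (by norm_num) |>.1 (by rw [← h]; norm_num)

theorem f_cube {x : F} (hx : x ≠ 0) : x ^ 3 = 1 :=
  mul_left_cancel₀ hx (by linear_combination f_pow hF x)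

theorem f_om : ∃ w : F, w ^ 2 + w + 1 = 0 := by
  have := f_fin hF
  have := Fintype.ofFinite F
  classical
  obtain ⟨w, hw⟩ : ∃ w : F, w ∉ ({0, 1} : Finset F) := by
    by_contra! h
    have := Finset.card_le_card (s := Finset.univ) (t := ({0, 1} : Finset F)) fun x _ => h x
    have h2 := Finset.card_le_two (a := (0 : F)) (b := 1)
    rw [Finset.card_univ, ← Nat.card_eq_fintype_card, hF] at this
    omega
  simp only [Finset.mem_insert, Finset.mem_singleton, not_or] at hw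
  exact ⟨w, mul_left_cancel₀ (sub_ne_zero.2 hw.2) (by linear_combination f_cube hF hw.1)⟩

theorem f_cases {w : F} (hw : w ^ 2 + w + 1 = 0) (x : F) : x = 0 ∨ x = 1 ∨ x = w ∨ x = w + 1 := by
  have h : x * ((x - 1) * ((x - w) * (x - (w + 1)))) = 0 := by
    linear_combination f_pow hF x + (x ^ 2 - x) * hw - (x ^ 3 * (w + 1) - x ^ 2 * w - x) * f_two hF
  simpa only [mul_eq_zero, sub_eq_zero] using h

end F4

/-- coordinates on a Sylow 2-subgroup -/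
structure UT (F : Type*) [Field F] (G : Type*) [Group G] where
  u : F → F → F → G
  mul : ∀ a b c a' b' c', u a b c * u a' b' c' = u (a + a') (b + b') (c + c' + a * b')
  inj1 : ∀ a b c, u a b c = 1 → a = 0 ∧ b = 0 ∧ c = 0
  hF : Nat.card F = 4
  max : ∀ P : Subgroup G, IsPGroup 2 P → (∀ a b c, u a b c ∈ P) → ∀ x ∈ P, ∃ a b c, u a b c = x

variable {F : Type*} [Field F] {G : Type*} [Group G]

namespace UT
variable (U : UT F G)

include U in
theorem two : (2 : F) = 0 := f_two U.hF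

theorem u_congr {a b c a' b' c' : F} (h1 : a = a') (h2 : b = b') (h3 : c = c') :
    U.u a b c = U.u a' b' c' := by rw [h1, h2, h3]

@[simp] theorem u_zero : U.u 0 0 0 = 1 := by simpa using U.mul 0 0 0 0 0 0

theorem u_inv (a b c : F) : (U.u a b c)⁻¹ = U.u a b (c + a * b) :=
  inv_eq_of_mul_eq_one_right (by
    rw [U.mul, ← U.u_zero]
    exact U.u_congr (by linear_combination a * U.two) (by linear_combination b * U.two)
      (by linear_combination (c + a * b) * U.two))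

theorem u_inj {a b c a' b' c' : F} : U.u a b c = U.u a' b' c' ↔ a = a' ∧ b = b' ∧ c = c' := by
  refine ⟨fun h => ?_, fun ⟨h1, h2, h3⟩ => U.u_congr h1 h2 h3⟩
  have := mul_inv_eq_one.2 h
  rw [U.u_inv, U.mul] at this
  obtain ⟨h1, h2, h3⟩ := U.inj1 _ _ _ this
  refine ⟨by linear_combination h1 - a' * U.two, by linear_combination h2 - b' * U.two, ?_⟩
  linear_combination h3 - b' * h1 - c' * U.two

theorem u_eq_one {a b c : F} : U.u a b c = 1 ↔ a = 0 ∧ b = 0 ∧ c = 0 := by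
  rw [← U.u_zero, U.u_inj]

theorem u_conj (a b c a' b' c' : F) :
    U.u a b c * U.u a' b' c' * (U.u a b c)⁻¹ = U.u a' b' (c' + a * b' + a' * b) := by
  rw [U.u_inv, U.mul, U.mul]
  exact U.u_congr (by linear_combination a * U.two) (by linear_combination b * U.two)
    (by linear_combination (c + a * b) * U.two)

theorem u_comm {a b c a' b' c' : F} :
    U.u a b c * U.u a' b' c' = U.u a' b' c' * U.u a b c ↔ a * b' = a' * b := by
  rw [U.mul, U.mul, U.u_inj]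
  exact ⟨fun h => by linear_combination h.2.2, fun h => ⟨add_comm _ _, add_comm _ _,
    by linear_combination h⟩⟩

theorem u_sq (a b c : F) : U.u a b c * U.u a b c = U.u 0 0 (a * b) := by
  rw [U.mul]
  exact U.u_congr (by linear_combination a * U.two) (by linear_combination b * U.two)
    (by linear_combination c * U.two)

/-- the Sylow subgroup -/
def S : Subgroup G where
  carrier := {x | ∃ a b c, U.u a b c = x}
  one_mem' := ⟨0, 0, 0, U.u_zero⟩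
  mul_mem' := by rintro _ _ ⟨a, b, c, rfl⟩ ⟨a', b', c', rfl⟩; exact ⟨_, _, _, (U.mul ..).symm⟩
  inv_mem' := by rintro _ ⟨a, b, c, rfl⟩; exact ⟨_, _, _, (U.u_inv ..).symm⟩

/-- the first `E₁₆` -/
def A : Subgroup G where
  carrier := {x | ∃ a c, U.u a 0 c = x}
  one_mem' := ⟨0, 0, U.u_zero⟩
  mul_mem' := by rintro _ _ ⟨a, c, rfl⟩ ⟨a', c', rfl⟩; exact ⟨_, _, by rw [U.mul, add_zero]⟩
  inv_mem' := by rintro _ ⟨a, c, rfl⟩; exact ⟨_, _, (U.u_inv ..).symm⟩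

/-- the second `E₁₆` -/
def B : Subgroup G where
  carrier := {x | ∃ b c, U.u 0 b c = x}
  one_mem' := ⟨0, 0, U.u_zero⟩
  mul_mem' := by rintro _ _ ⟨a, c, rfl⟩ ⟨a', c', rfl⟩; exact ⟨_, _, by rw [U.mul, add_zero]⟩
  inv_mem' := by rintro _ ⟨a, c, rfl⟩; exact ⟨_, _, (U.u_inv ..).symm⟩

/-- the center -/
def Z : Subgroup G where
  carrier := {x | ∃ c, U.u 0 0 c = x}
  one_mem' := ⟨0, U.u_zero⟩
  mul_mem' := by rintro _ _ ⟨c, rfl⟩ ⟨c', rfl⟩; exact ⟨_, by rw [U.mul, add_zero]⟩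
  inv_mem' := by rintro _ ⟨c, rfl⟩; exact ⟨_, (U.u_inv ..).symm⟩

theorem mem_S {x : G} : x ∈ U.S ↔ ∃ a b c, U.u a b c = x := Iff.rfl
theorem mem_A {x : G} : x ∈ U.A ↔ ∃ a c, U.u a 0 c = x := Iff.rfl
theorem mem_B {x : G} : x ∈ U.B ↔ ∃ b c, U.u 0 b c = x := Iff.rfl
theorem mem_Z {x : G} : x ∈ U.Z ↔ ∃ c, U.u 0 0 c = x := Iff.rfl

@[simp] theorem uS (a b c : F) : U.u a b c ∈ U.S := ⟨_, _, _, rfl⟩
@[simp] theorem uA {a b c : F} : U.u a b c ∈ U.A ↔ b = 0 :=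
  ⟨fun ⟨_, _, h⟩ => (U.u_inj.1 h).2.1.symm, fun h => ⟨a, c, by rw [h]⟩⟩
@[simp] theorem uB {a b c : F} : U.u a b c ∈ U.B ↔ a = 0 :=
  ⟨fun ⟨_, _, h⟩ => (U.u_inj.1 h).1.symm, fun h => ⟨b, c, by rw [h]⟩⟩
@[simp] theorem uZ {a b c : F} : U.u a b c ∈ U.Z ↔ a = 0 ∧ b = 0 :=
  ⟨fun ⟨_, h⟩ => ⟨(U.u_inj.1 h).1.symm, (U.u_inj.1 h).2.1.symm⟩, fun h => ⟨c, by rw [h.1, h.2]⟩⟩

theorem A_le : U.A ≤ U.S := by rintro _ ⟨a, c, rfl⟩; simp
theorem B_le : U.B ≤ U.S := by rintro _ ⟨a, c, rfl⟩; simp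
theorem Z_leA : U.Z ≤ U.A := by rintro _ ⟨c, rfl⟩; simp
theorem Z_leB : U.Z ≤ U.B := by rintro _ ⟨c, rfl⟩; simp
theorem Z_le : U.Z ≤ U.S := U.Z_leA.trans U.A_le

theorem mem_Z_of {x : G} (h1 : x ∈ U.A) (h2 : x ∈ U.B) : x ∈ U.Z := by
  obtain ⟨a, c, rfl⟩ := h1; simpa using h2

theorem inf_eq : U.A ⊓ U.B = U.Z :=
  le_antisymm (fun _ h => U.mem_Z_of h.1 h.2) (le_inf U.Z_leA U.Z_leB)

theorem sup_eq : U.A ⊔ U.B = U.S := by
  refine le_antisymm (sup_le U.A_le U.B_le) ?_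
  rintro _ ⟨a, b, c, rfl⟩
  have : U.u a b c = U.u a 0 (c - a * b) * U.u 0 b 0 := by rw [U.mul]; simp
  rw [this]
  exact mul_mem (mem_sup_left (by simp)) (mem_sup_right (by simp))

/-- interchange `A` and `B` -/
def swap : UT F G where
  u a b c := U.u b a (c + a * b)
  mul a b c a' b' c' := by
    rw [U.mul]; exact U.u_congr rfl rfl (by linear_combination -(a * b') * U.two)
  inj1 a b c h := by
    obtain ⟨h1, h2, h3⟩ := U.inj1 _ _ _ h
    exact ⟨h2, h1, by simpa [h1] using h3⟩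
  hF := U.hF
  max P hP h x hx := by
    obtain ⟨a, b, c, rfl⟩ := U.max P hP (fun a b c => by simpa using h b a (c - b * a)) x hx
    exact ⟨b, a, c - b * a, by simp⟩

@[simp] theorem swap_S : U.swap.S = U.S := by
  ext x
  exact ⟨fun ⟨a, b, c, h⟩ => ⟨_, _, _, h⟩, fun ⟨a, b, c, h⟩ => ⟨b, a, c - b * a, by simpa [swap] using h⟩⟩
@[simp] theorem swap_A : U.swap.A = U.B := by
  ext x
  exact ⟨fun ⟨a, c, h⟩ => ⟨_, _, h⟩, fun ⟨a, c, h⟩ => ⟨a, c, by simpa [swap] using h⟩⟩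
@[simp] theorem swap_B : U.swap.B = U.A := by
  ext x
  exact ⟨fun ⟨a, c, h⟩ => ⟨_, _, h⟩, fun ⟨a, c, h⟩ => ⟨a, c, by simpa [swap] using h⟩⟩
@[simp] theorem swap_Z : U.swap.Z = U.Z := by
  ext x
  exact ⟨fun ⟨c, h⟩ => ⟨_, h⟩, fun ⟨c, h⟩ => ⟨c, by simpa [swap] using h⟩⟩

theorem p_S : IsPGroup 2 U.S := by
  rintro ⟨_, a, b, c, rfl⟩
  refine ⟨2, Subtype.ext ?_⟩
  change U.u a b c ^ 4 = 1
  rw [show U.u a b c ^ 4 = (U.u a b c * U.u a b c) * (U.u a b c * U.u a b c) by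
    simp only [pow_succ, pow_zero, one_mul, mul_assoc], U.u_sq, U.u_sq]
  simp

theorem syl : IsSylowIn 2 U.S ⊤ :=
  ⟨le_top, U.p_S, fun R hR _ h => le_antisymm (U.max R hR fun a b c => h (U.uS a b c)) h⟩

theorem sylIn {M : Subgroup G} (h : U.S ≤ M) : IsSylowIn 2 U.S M := U.syl.mono h le_top

theorem sqA {x : G} (h : x ∈ U.A) : x * x = 1 := by
  obtain ⟨a, c, rfl⟩ := h; simp [U.u_sq]
theorem commA {x y : G} (hx : x ∈ U.A) (hy : y ∈ U.A) : x * y = y * x := by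
  obtain ⟨a, c, rfl⟩ := hx; obtain ⟨a', c', rfl⟩ := hy; simp [U.u_comm]
theorem sqB {x : G} (h : x ∈ U.B) : x * x = 1 := U.swap.sqA (by simpa)
theorem commB {x y : G} (hx : x ∈ U.B) (hy : y ∈ U.B) : x * y = y * x :=
  U.swap.commA (by simpa) (by simpa)
theorem commZ {x y : G} (hx : x ∈ U.S) (hy : y ∈ U.Z) : x * y = y * x := by
  obtain ⟨a, b, c, rfl⟩ := hx; obtain ⟨c', rfl⟩ := hy; simp [U.u_comm]

theorem eaA : IsElementaryAbelian 2 U.A :=
  ⟨⟨⟨fun x y => Subtype.ext (U.commA x.2 y.2)⟩⟩, fun x hx => by rw [sq, U.sqA hx]⟩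
theorem eaB : IsElementaryAbelian 2 U.B := by simpa using U.swap.eaA
theorem p_A : IsPGroup 2 U.A := U.p_S.to_le U.A_le
theorem p_B : IsPGroup 2 U.B := U.p_S.to_le U.B_le
theorem p_Z : IsPGroup 2 U.Z := U.p_S.to_le U.Z_le
theorem A_le_C : U.A ≤ C[U.A] := fun _ hx _ hy => U.commA hy hx
theorem A_le_C1 {x : G} (h : x ∈ U.A) : U.A ≤ C1[x] := U.A_le_C.trans (centralizer_le_singleton h)
theorem S_le_C : U.S ≤ C[U.Z] := fun _ hx _ hy => (U.commZ hx hy).symm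
theorem S_le_C1 {z : G} (h : z ∈ U.Z) : U.S ≤ C1[z] := U.S_le_C.trans (centralizer_le_singleton h)

theorem invol {x : G} (h : x ∈ U.S) (h2 : x * x = 1) : x ∈ U.A ∨ x ∈ U.B := by
  obtain ⟨a, b, c, rfl⟩ := h
  simpa [U.u_sq, U.u_eq_one, or_comm] using h2

theorem mem_A_of_comm {x y : G} (hx : x ∈ U.A) (hZ : x ∉ U.Z) (hy : y ∈ U.S) (h : x * y = y * x) :
    y ∈ U.A := by
  obtain ⟨a, c, rfl⟩ := hx; obtain ⟨a', b', c', rfl⟩ := hy
  simp only [uZ, and_true] at hZ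
  simpa [U.u_comm, hZ] using h

theorem mem_Z_of_comm {x y : G} (hx : x ∈ U.A) (hy : y ∈ U.S) (hyA : y ∉ U.A) (h : x * y = y * x) :
    x ∈ U.Z := by_contra fun hZ => hyA (U.mem_A_of_comm hx hZ hy h)

theorem conj_mem_A {x y : G} (hx : x ∈ U.S) (hy : y ∈ U.A) : x * y * x⁻¹ ∈ U.A := by
  obtain ⟨a, b, c, rfl⟩ := hx; obtain ⟨a', c', rfl⟩ := hy; simp [U.u_conj]

theorem exists_A : ∃ a ∈ U.A, a ∉ U.Z := ⟨U.u 1 0 0, by simp, by simp⟩
theorem exists_B : ∃ a ∈ U.B, a ∉ U.Z := ⟨U.u 0 1 0, by simp, by simp⟩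
theorem exists_Z : ∃ a ∈ U.Z, a ≠ 1 := ⟨U.u 0 0 1, by simp, by simp [U.u_eq_one]⟩
theorem A_ne_B : U.A ≠ U.B := fun e => by
  obtain ⟨a, h1, h2⟩ := U.exists_A
  exact h2 (U.mem_Z_of h1 (e ▸ h1))

/-- `S` is transitive on the cosets of `Z` in `A` -/
theorem exists_conj_coset {x z : G} (hx : x ∈ U.A) (hZ : x ∉ U.Z) (hz : z ∈ U.Z) :
    ∃ s ∈ U.B, s * x * s⁻¹ = x * z := by
  obtain ⟨a, c, rfl⟩ := hx; obtain ⟨c', rfl⟩ := hz
  simp only [uZ, and_true] at hZ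
  refine ⟨U.u 0 (c' / a) 0, by simp, ?_⟩
  rw [U.u_conj, U.mul]
  exact U.u_congr (by simp) (by simp) (by field_simp; simp)

theorem card_A : Nat.card U.A = 16 := by
  rw [Nat.card_congr (Equiv.ofBijective (fun p : F × F => (⟨U.u p.1 0 p.2, by simp⟩ : U.A))
    ⟨fun p q h => by simpa [U.u_inj, Prod.ext_iff] using h, by
      rintro ⟨_, a, c, rfl⟩; exact ⟨(a, c), rfl⟩⟩).symm, Nat.card_prod, U.hF]
theorem card_B : Nat.card U.B = 16 := by simpa using U.swap.card_A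
theorem card_Z : Nat.card U.Z = 4 := by
  rw [Nat.card_congr (Equiv.ofBijective (fun p : F => (⟨U.u 0 0 p, by simp⟩ : U.Z))
    ⟨fun p q h => by simpa [U.u_inj] using h, by rintro ⟨_, c, rfl⟩; exact ⟨c, rfl⟩⟩).symm, U.hF]
theorem card_S : Nat.card U.S = 64 := by
  rw [Nat.card_congr (Equiv.ofBijective (fun p : F × F × F => (⟨U.u p.1 p.2.1 p.2.2, by simp⟩ : U.S))
    ⟨fun p q h => by simpa [U.u_inj, Prod.ext_iff] using h, by
      rintro ⟨_, a, b, c, rfl⟩; exact ⟨(a, b, c), rfl⟩⟩).symm, Nat.card_prod, Nat.card_prod, U.hF]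

section map
variable {G' : Type*} [Group G'] (f : G →* G') (h1 : ∀ x ∈ U.S, f x = 1 → x = 1)
  (h2 : IsSylowIn 2 (U.S.map f) ⊤)

/-- image of coordinates -/
def map : UT F G' where
  u a b c := f (U.u a b c)
  mul a b c a' b' c' := by rw [← map_mul, U.mul]
  inj1 a b c h := U.inj1 _ _ _ (h1 _ (U.uS ..) h)
  hF := U.hF
  max P hP h x hx := by
    obtain ⟨_, ⟨a, b, c, rfl⟩, rfl⟩ := (h2.maximal P hP le_top (by
      rintro _ ⟨_, ⟨a, b, c, rfl⟩, rfl⟩; exact h a b c)).le hx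
    exact ⟨a, b, c, rfl⟩

theorem map_S : (U.map f h1 h2).S = U.S.map f := by
  ext x
  exact ⟨fun ⟨a, b, c, h⟩ => ⟨_, U.uS .., h⟩, by rintro ⟨_, ⟨a, b, c, rfl⟩, rfl⟩; exact ⟨a, b, c, rfl⟩⟩
theorem map_A : (U.map f h1 h2).A = U.A.map f := by
  ext x
  exact ⟨fun ⟨a, c, h⟩ => ⟨_, by simp, h⟩, by rintro ⟨_, ⟨a, c, rfl⟩, rfl⟩; exact ⟨a, c, rfl⟩⟩
theorem map_B : (U.map f h1 h2).B = U.B.map f := by
  ext x
  exact ⟨fun ⟨a, c, h⟩ => ⟨_, by simp, h⟩, by rintro ⟨_, ⟨a, c, rfl⟩, rfl⟩; exact ⟨a, c, rfl⟩⟩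
theorem map_Z : (U.map f h1 h2).Z = U.Z.map f := by
  ext x
  exact ⟨fun ⟨c, h⟩ => ⟨_, by simp, h⟩, by rintro ⟨_, ⟨c, rfl⟩, rfl⟩; exact ⟨c, rfl⟩⟩

end map

/-- conjugate coordinates -/
def conj (g : G) : UT F G :=
  U.map (MulAut.conj g).toMonoidHom (fun x _ h => by simpa using h) (by
    simpa only [conj_top] using U.syl.map_conj g)

@[simp] theorem conj_S (g : G) : (U.conj g).S = g •ᶜ U.S := U.map_S ..
@[simp] theorem conj_A (g : G) : (U.conj g).A = g •ᶜ U.A := U.map_A ..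
@[simp] theorem conj_B (g : G) : (U.conj g).B = g •ᶜ U.B := U.map_B ..
@[simp] theorem conj_Z (g : G) : (U.conj g).Z = g •ᶜ U.Z := U.map_Z ..
theorem conj_u (g : G) (a b c : F) : (U.conj g).u a b c = g * U.u a b c * g⁻¹ := rfl

section sub
variable (H : Subgroup G) (hH : U.S ≤ H)

/-- restriction to a subgroup -/
def sub : UT F H where
  u a b c := ⟨U.u a b c, hH (U.uS ..)⟩
  mul a b c a' b' c' := Subtype.ext (U.mul ..)
  inj1 a b c h := U.inj1 _ _ _ (congrArg Subtype.val h)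
  hF := U.hF
  max P hP h x hx := by
    obtain ⟨a, b, c, e⟩ := U.max (P.map H.subtype) (hP.map _) (fun a b c => ⟨_, h a b c, rfl⟩) x
      ⟨x, hx, rfl⟩
    exact ⟨a, b, c, Subtype.ext e⟩

theorem sub_S : (U.sub H hH).S = U.S.subgroupOf H := by
  ext x; exact ⟨fun ⟨a, b, c, h⟩ => ⟨a, b, c, congrArg Subtype.val h⟩, fun ⟨a, b, c, h⟩ =>
    ⟨a, b, c, Subtype.ext h⟩⟩
theorem sub_A : (U.sub H hH).A = U.A.subgroupOf H := by
  ext x; exact ⟨fun ⟨a, c, h⟩ => ⟨a, c, congrArg Subtype.val h⟩, fun ⟨a, c, h⟩ => ⟨a, c, Subtype.ext h⟩⟩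
theorem sub_B : (U.sub H hH).B = U.B.subgroupOf H := by
  ext x; exact ⟨fun ⟨a, c, h⟩ => ⟨a, c, congrArg Subtype.val h⟩, fun ⟨a, c, h⟩ => ⟨a, c, Subtype.ext h⟩⟩
theorem sub_Z : (U.sub H hH).Z = U.Z.subgroupOf H := by
  ext x; exact ⟨fun ⟨c, h⟩ => ⟨c, congrArg Subtype.val h⟩, fun ⟨c, h⟩ => ⟨c, Subtype.ext h⟩⟩

end sub

variable [Finite G]

omit U in
theorem mem_N_of_le {A : Subgroup G} {g : G} (h : g •ᶜ A ≤ A) : g ∈ N[A] :=
  conj_eq_iff_mem_normalizer.1 (eq_of_le_of_card_ge h (card_conj _ _).ge)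

theorem S_le_NA : U.S ≤ N[U.A] := fun x hx =>
  mem_N_of_le (by rintro _ ⟨y, hy, rfl⟩; exact U.conj_mem_A hx hy)
theorem S_le_NB : U.S ≤ N[U.B] := by simpa using U.swap.S_le_NA

theorem ker_inj {G' : Type*} [Group G'] {f : G →* G'} (hk : ¬ 2 ∣ Nat.card f.ker) (x : G)
    (hx : x ∈ U.S) (h : f x = 1) : x = 1 := by
  by_contra h1
  obtain ⟨k, hk'⟩ := (U.p_S.to_le (zpowers_le.2 hx)).exists_card_eq
  refine hk (dvd_trans ?_ (card_dvd_of_le (zpowers_le.2 (show x ∈ f.ker from h))))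
  rw [hk']
  refine dvd_pow_self 2 fun e => h1 ?_
  rwa [e, pow_zero, card_eq_one, zpowers_eq_bot] at hk'

/-- image modulo a normal subgroup of odd order -/
def quo {G' : Type*} [Group G'] (f : G →* G') (hs : Function.Surjective f)
    (hk : ¬ 2 ∣ Nat.card f.ker) : UT F G' :=
  U.map f (U.ker_inj hk) (by simpa only [map_top_of_surjective _ hs] using U.syl.map f)

end UT

end Cfsg.Lib.L34
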