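import Cfsg.Agent.Lib.L34.Two
import Cfsg.Agent.Lib.Walter.List
import Cfsg.Agent.Lib.FT.GW.L2
import Cfsg.Agent.Lib.FT.GW.Cor

/-!
# Counting involutions in groups with a Sylow four-group
-/

set_option autoImplicit false
set_option linter.unusedSectionVars false

namespace Cfsg.Lib.L34
open Subgroup Cfsg.Lib Cfsg.Lib.FT Cfsg.Lib.GW

section
variable {α β : Type*} [Finite α] [Finite β] {s : Set α} {t : Set β} (R : β → Set α) {k n : ℕ}

theorem cnt_le (h : ∀ x ∈ s, ∃ b ∈ t, x ∈ R b) (hn : ∀ b ∈ t, k * (R b).ncard ≤ n) :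
    k * s.ncard ≤ n * t.ncard := by
  classical
  have h1 : s.toFinite.toFinset ⊆ t.toFinite.toFinset.biUnion fun b => (R b).toFinite.toFinset :=
    fun x hx => by simpa using h x (by simpa using hx)
  rw [Set.ncard_eq_toFinset_card s, Set.ncard_eq_toFinset_card t, mul_comm n, ← smul_eq_mul _ n]
  refine (Nat.mul_le_mul_left k ((Finset.card_le_card h1).trans Finset.card_biUnion_le)).trans ?_
  rw [Finset.mul_sum]
  exact Finset.sum_le_card_nsmul _ _ _ fun b hb => by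
    rw [← Set.ncard_eq_toFinset_card]; exact hn b (by simpa using hb)

theorem cnt_ge (h : ∀ b ∈ t, R b ⊆ s) (hd : ∀ b ∈ t, ∀ c ∈ t, ∀ x ∈ R b, x ∈ R c → b = c)
    (hn : ∀ b ∈ t, n ≤ k * (R b).ncard) : n * t.ncard ≤ k * s.ncard := by
  classical
  have h1 : (t.toFinite.toFinset.biUnion fun b => (R b).toFinite.toFinset) ⊆ s.toFinite.toFinset :=
    fun x hx => by
      obtain ⟨b, hb, h2⟩ := Finset.mem_biUnion.1 hx
      simpa using h b (by simpa using hb) (by simpa using h2)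
  rw [Set.ncard_eq_toFinset_card s, Set.ncard_eq_toFinset_card t, mul_comm n, ← smul_eq_mul _ n]
  refine le_trans ?_ (Nat.mul_le_mul_left k (Finset.card_le_card h1))
  rw [Finset.card_biUnion fun b hb c hc hne => Finset.disjoint_left.2 fun x h1 h2 =>
    hne (hd b (by simpa using hb) c (by simpa using hc) x (by simpa using h1) (by simpa using h2)),
    Finset.mul_sum]
  exact Finset.card_nsmul_le_sum _ _ _ fun b hb => by
    rw [← Set.ncard_eq_toFinset_card]; exact hn b (by simpa using hb)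

end

variable {G : Type*} [Group G] [Finite G]

theorem ncard_conj_le {s t : Set G} (g : G) (h : ∀ x ∈ s, g * x * g⁻¹ ∈ t) : s.ncard ≤ t.ncard :=
  Set.ncard_le_ncard_of_injOn _ h fun x _ y _ e => by simpa using e

theorem gw_core (hO : pPrimeCore 2 G = ⊥) {V : Subgroup G} (hV : IsSylowIn 2 V ⊤)
    (h2 : ∀ v ∈ V, v * v = 1) (h4 : Nat.card V = 4) (h1 : OneClass G) (hns : ¬ Group.IsSolvable G)
    {t : G} (ht : orderOf t = 2) :
    {d : G | orderOf d = 2}.ncard < 3 * {d : G | orderOf d = 2 ∧ Odd (orderOf (t * d))}.ncard := by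
  obtain ⟨L, hL, hs, hp, h7⟩ := (Wal.dih2_of_four hV h2 h4).exists_almS hO hns
  have hL2 : IsL2 L := h7.resolve_right fun ⟨e⟩ => by
    have h8 : 8 ∣ Nat.card G := by
      refine Dvd.dvd.trans ?_ (card_subgroup_dvd_card L)
      rw [Nat.card_congr e.toEquiv, nat_card_alternatingGroup]; simp [Nat.factorial]
    have := hV.card_eq
    rw [h4, card_top] at this
    have h9 := (Nat.prime_two.pow_dvd_iff_le_factorization (k := 3) Nat.card_pos.ne').1 h8
    have := Nat.pow_le_pow_right two_pos h9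
    omega
  have hall : ∀ d : G, orderOf d = 2 → d ∈ L := by
    have : 2 ∣ Nat.card L := by_contra fun h => by
      have h3 := isSolvable_of_not_two_dvd h
      refine (commutator_lt_of_isSolvable h3 ?_).ne hp
      rintro rfl
      exact not_nontrivial_iff_subsingleton.2 inferInstance hs.toNontrivial
    obtain ⟨x, hx⟩ := exists_prime_orderOf_dvd_card' 2 this
    intro d hd
    obtain ⟨g, rfl⟩ := isConj_iff.1 (h1 x d (by rwa [orderOf_coe]) hd)
    exact hL.normal.conj_mem _ x.2 g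
  have h5 := (l2_count hL hL2 ht (hall t ht)).2
  have e1 : invs L = {d : G | orderOf d = 2} := Set.ext fun d => ⟨fun h => h.2, fun h => ⟨hall d h, h⟩⟩
  rw [e1] at h5
  have tt := h9_orderOf_eq_two_iff.1 ht
  have h6 := cnt_le (s := {d : G | orderOf d = 2 ∧ Even (orderOf (t * d))}) (t := cinvs L t)
    (fun u => cinvs L u \ {t}) (k := 1) (n := (cinvs L t).ncard - 1) (fun d hd => by
      have dd := h9_orderOf_eq_two_iff.1 hd.1
      obtain ⟨m, h3, h6, h8, h9⟩ := h9_central_invol_of_even tt.2 dd.2 hd.2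
      have k : t * d = d * t → (t * d) ^ m = t * d := fun e => by
        have : orderOf (t * d) ∣ 2 := orderOf_dvd_of_pow_eq_one (by
          rw [sq, mul_assoc, ← mul_assoc d, ← e, mul_assoc, dd.2, mul_one, tt.2])
        have h10 := Nat.le_of_dvd two_pos this
        have h11 := orderOf_pos (t * d)
        rw [show m = 1 by omega, pow_one]
      refine ⟨_, ⟨hall _ h6, h6, fun e => dd.1 ?_, h8.eq⟩, ⟨hall _ hd.1, hd.1, fun e => tt.1 ?_,
        h9.eq.symm⟩, fun e => ?_⟩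
      · simpa [e] using (k (by simpa [e] using h9.eq)).symm
      · simpa [← e] using (k (by simpa [← e] using h8.eq.symm)).symm
      · obtain rfl : d = t := e
        simpa [dd.2] using hd.2)
    (fun u hu => by
      obtain ⟨g, rfl⟩ := isConj_iff.1 (h1 u t hu.2.1 ht)
      rw [one_mul, Set.ncard_diff_singleton_of_mem
        (show _ ∈ cinvs L u from ⟨hall _ ht, ht, hu.2.2.1.symm, hu.2.2.2.symm⟩)]
      refine Nat.sub_le_sub_right (ncard_conj_le g fun x hx => ?_) 1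
      exact ⟨hL.normal.conj_mem _ hx.1 g, (h9_orderOf_of_isConj (isConj_iff.2 ⟨g, rfl⟩)).trans hx.2.1,
        by simpa using hx.2.2.1, by rw [conj_mul, conj_mul, hx.2.2.2]⟩)
  have h8 : {d : G | orderOf d = 2}.ncard ≤ {d : G | orderOf d = 2 ∧ Odd (orderOf (t * d))}.ncard +
      {d : G | orderOf d = 2 ∧ Even (orderOf (t * d))}.ncard :=
    le_trans (Set.ncard_le_ncard fun d hd => (Nat.even_or_odd _).symm.imp (⟨hd, ·⟩) (⟨hd, ·⟩))
      (Set.ncard_union_le _ _)
  by_contra! h9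
  have h10 : {d : G | orderOf d = 2}.ncard ≤ 3 := by
    generalize (cinvs L t).ncard = c at h5 h6
    rcases c with _ | c
    · omega
    rw [show 2 * (c + 1) - 1 = 2 * c + 1 by omega] at h5
    rw [Nat.add_sub_cancel] at h5 h6
    have : c ≤ 1 := by nlinarith
    nlinarith
  have h11 : (V : Set G) \ {1} = {d : G | orderOf d = 2} := Set.eq_of_subset_of_ncard_le
    (fun x hx => h9_orderOf_eq_two_iff.2 ⟨hx.2, h2 x hx.1⟩) (by
      rw [Set.ncard_diff_singleton_of_mem V.one_mem, ← Nat.card_coe_set_eq (V : Set G),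
        SetLike.coe_sort_coe, h4]
      exact h10)
  refine hns (sc_solv_of_normal_sup hV ?_)
  rw [oddCore, hO, sup_bot_eq]
  refine ⟨fun x hx g => ?_⟩
  by_cases h0 : x = 1
  · simp [h0]
  exact (h11.ge ((h9_orderOf_of_isConj (isConj_iff.2 ⟨g, rfl⟩)).trans (h11.le ⟨hx, h0⟩))).1

theorem gw_top {V : Subgroup G} (hV : IsSylowIn 2 V ⊤) (h2 : ∀ v ∈ V, v * v = 1)
    (h4 : Nat.card V = 4) (h1 : OneClass G) (hns : ¬ Group.IsSolvable G) {t : G}
    (ht : orderOf t = 2) :
    {d : G | orderOf d = 2}.ncard < 3 * {d : G | orderOf d = 2 ∧ Odd (orderOf (t * d))}.ncard := by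
  have hO := pPrimeCore_quotient_pPrimeCore (p := 2) (G := G)
  have hs := QuotientGroup.mk'_surjective (pPrimeCore 2 G)
  have hk := UT.core_ker (G := G)
  have hns' : ¬ Group.IsSolvable (G ⧸ pPrimeCore 2 G) := fun h =>
    hns (isSolvable_of_normal_quotient _ sc_solv_oddCore h)
  generalize QuotientGroup.mk' (pPrimeCore 2 G) = f at hs hk
  have o2 : ∀ d, orderOf d = 2 → orderOf (f d) = 2 := fun d hd => by
    refine h9_orderOf_eq_two_iff.2 ⟨fun e => hk ?_, by
      rw [← map_mul, (h9_orderOf_eq_two_iff.1 hd).2, map_one]⟩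
    exact (dvd_of_eq hd.symm).trans (f.ker.orderOf_dvd_natCard e)
  have hV' : IsSylowIn 2 (V.map f) ⊤ := by simpa only [map_top_of_surjective _ hs] using hV.map f
  have o3 : ∀ d, orderOf d = 2 → ∃ g, g * f t * g⁻¹ = d := fun d hd => by
    obtain ⟨k, -, e⟩ := hV'.exists_conj_le (p_zpowers (h9_orderOf_eq_two_iff.1 hd).2) le_top
    obtain ⟨v, hv, e1⟩ := e (conj_mem_conj (mem_zpowers d) k)
    obtain ⟨g, rfl⟩ := isConj_iff.1 (h1 t v ht (h9_orderOf_eq_two_iff.2 ⟨by
      rintro rfl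
      rw [map_one, eq_comm, conj_eq_one_iff] at e1
      simp [e1] at hd, h2 v hv⟩))
    replace e1 : f g * f t * (f g)⁻¹ = k * d * k⁻¹ := by simpa using e1
    exact ⟨k⁻¹ * f g, by rw [show d = k⁻¹ * (k * d * k⁻¹) * k by group, ← e1]; group⟩
  have h5 := gw_core hO hV' (by rintro _ ⟨v, hv, rfl⟩; rw [← map_mul, h2 v hv, map_one]) (by
      have := pg_card_map_mul_card_ker f V
      rwa [h4, ((CoprimeAct.of_isPGroup hV.isPGroup hk le_normalizer_of_normal).disjoint).eq_bot,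
        card_bot, mul_one] at this)
    (fun x y hx hy => by
      obtain ⟨g, rfl⟩ := o3 x hx
      obtain ⟨k, rfl⟩ := o3 y hy
      exact (isConj_iff.2 ⟨g, rfl⟩).symm.trans (isConj_iff.2 ⟨k, rfl⟩)) hns' (o2 t ht)
  have cj : ∀ (g x : G) c, x ∈ {d : G | orderOf d = 2 ∧ f d = c} →
      g * x * g⁻¹ ∈ {d : G | orderOf d = 2 ∧ f d = f g * c * (f g)⁻¹} := fun g x c hx =>
    ⟨(h9_orderOf_of_isConj (isConj_iff.2 ⟨g, rfl⟩)).trans hx.1, by simp [← hx.2]⟩
  have h6 := cnt_le (s := {d : G | orderOf d = 2}) (t := {d | orderOf d = 2})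
    (fun c => {d : G | orderOf d = 2 ∧ f d = c}) (k := 1)
    (n := {d : G | orderOf d = 2 ∧ f d = f t}.ncard) (fun d hd => ⟨_, o2 d hd, hd, rfl⟩)
    fun c hc => by
      obtain ⟨g, rfl⟩ := o3 c hc
      obtain ⟨g, rfl⟩ := hs g
      rw [one_mul]
      exact ncard_conj_le g⁻¹ fun x hx => by simpa [mul_assoc] using cj g⁻¹ x _ hx
  have h7 := cnt_ge (s := {d : G | orderOf d = 2 ∧ Odd (orderOf (t * d))})
    (t := {d | orderOf d = 2 ∧ Odd (orderOf (f t * d))})
    (fun c => {d : G | orderOf d = 2 ∧ f d = c}) (k := 1)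
    (n := {d : G | orderOf d = 2 ∧ f d = f t}.ncard) (fun c hc d hd => ⟨hd.1, by
      have h8 : (t * d) ^ orderOf (f t * c) ∈ f.ker := by
        rw [MonoidHom.mem_ker, map_pow, map_mul, hd.2, pow_orderOf_eq_one]
      refine (hc.2.mul (Nat.not_even_iff_odd.1 fun e => hk e.two_dvd)).of_dvd_nat
        (orderOf_dvd_of_pow_eq_one ?_)
      rw [pow_mul]
      exact orderOf_dvd_iff_pow_eq_one.1 (f.ker.orderOf_dvd_natCard h8)⟩)
    (fun b _ c _ x h1 h2 => h1.2.symm.trans h2.2) fun c hc => by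
      obtain ⟨g, rfl⟩ := o3 c hc.1
      obtain ⟨g, rfl⟩ := hs g
      rw [one_mul]
      exact ncard_conj_le g fun x hx => cj g x _ hx
  have h8 : 0 < {d : G | orderOf d = 2 ∧ f d = f t}.ncard := (Set.ncard_pos (Set.toFinite _)).2 ⟨t, ht, rfl⟩
  nlinarith

theorem gw_count {Y V : Subgroup G} (hV : IsSylowIn 2 V Y) (h2 : ∀ v ∈ V, v * v = 1)
    (h4 : Nat.card V = 4) (h1 : ∀ x ∈ V, ∀ y ∈ V, x ≠ 1 → y ≠ 1 → ∃ g ∈ Y, g * x * g⁻¹ = y)
    (hns : ¬ Group.IsSolvable Y) {t : G} (ht : t ∈ V) (ht1 : t ≠ 1) :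
    {d : G | d ∈ Y ∧ orderOf d = 2}.ncard <
      3 * {d : G | d ∈ Y ∧ orderOf d = 2 ∧ Odd (orderOf (t * d))}.ncard := by
  have k : ∀ x : Y, orderOf x = 2 → ∃ g : Y, (g * x * g⁻¹ : G) = t := fun x hx => by
    rw [← orderOf_coe, h9_orderOf_eq_two_iff] at hx
    obtain ⟨k, hk, e⟩ := hV.exists_conj_le (p_zpowers hx.2) (zpowers_le.2 x.2)
    obtain ⟨g, hg, e1⟩ := h1 _ (e (conj_mem_conj (mem_zpowers _) k)) t ht (by simpa using hx.1) ht1
    exact ⟨⟨g * k, mul_mem hg hk⟩, by rw [← e1]; simp [mul_assoc]⟩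
  have := gw_top (G := Y) (V := V.subgroupOf Y)
    (by rw [← Y.subgroupOf_self, isSylowIn_subgroupOf_iff hV.le le_rfl]; exact hV)
    (fun v hv => Subtype.ext (h2 v hv)) (by rwa [Nat.card_congr (subgroupOfEquivOfLe hV.le).toEquiv])
    (fun x y hx hy => by
      obtain ⟨g, e1⟩ := k x hx
      obtain ⟨h, e2⟩ := k y hy
      exact (isConj_iff.2 ⟨g, rfl⟩).trans (isConj_iff.2 ⟨h, Subtype.ext (e2.trans e1.symm)⟩).symm)
    hns (t := ⟨t, hV.le ht⟩) (by rw [← orderOf_coe]; exact h9_orderOf_eq_two_iff.2 ⟨ht1, h2 t ht⟩)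
  rw [← Set.ncard_image_of_injective _ Y.subtype_injective,
    ← Set.ncard_image_of_injective _ Y.subtype_injective] at this
  convert this using 2
  · ext d
    exact ⟨fun h => ⟨⟨d, h.1⟩, (orderOf_coe _).symm.trans h.2, rfl⟩, by
      rintro ⟨d, h, rfl⟩; exact ⟨d.2, by simpa using h⟩⟩
  · congr 1; ext d
    exact ⟨fun h => ⟨⟨d, h.1⟩, ⟨(orderOf_coe _).symm.trans h.2.1, by
      rw [← orderOf_coe]; exact h.2.2⟩, rfl⟩, by
      rintro ⟨d, h, rfl⟩; exact ⟨d.2, (orderOf_coe _).trans h.1, by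
        have := h.2; rwa [← orderOf_coe] at this⟩⟩

end Cfsg.Lib.L34
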