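import Cfsg.Agent.Lib.L34.Plane
import Cfsg.Agent.Lib.CIT.Lin

/-!
# Sylow 2-subgroups of type `L₃(4)`: coordinates in the plane
-/

set_option autoImplicit false
set_option linter.unusedSectionVars false

namespace Cfsg.Lib.L34
open Subgroup Cfsg.Lib Cfsg.Lib.FT Matrix

variable {F : Type*} [Field F] {G : Type*} [Group G] [Finite G]

theorem gl_ne (A : GL (Fin 3) F) {x : Fin 3 → F} (hx : x ≠ 0) : A.1 *ᵥ x ≠ 0 := fun e => hx (by
  rw [← one_mulVec x, ← A.inv_mul, ← mulVec_mulVec, e, mulVec_zero])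

theorem gl_center (A : GL (Fin 3) F) (h : ∀ x : Fin 3 → F, x ≠ 0 → ∃ c : F, A.1 *ᵥ x = c • x) :
    A ∈ center _ := by
  obtain ⟨a, ha⟩ := h ![1, 0, 0] (by simp)
  obtain ⟨b, hb⟩ := h ![0, 1, 0] (by simp)
  obtain ⟨c, hc⟩ := h ![0, 0, 1] (by simp)
  obtain ⟨d, hd⟩ := h ![1, 1, 1] (by simp)
  simp only [funext_iff, Fin.forall_fin_succ, mulVec, dotProduct, Fin.sum_univ_three] at ha hb hc hd
  simp at ha hb hc hd
  refine GeneralLinearGroup.mem_center_iff_val_mem_range_scalar.2 ⟨d, ?_⟩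
  ext i j; fin_cases i <;> fin_cases j <;> simp_all

theorem exists_gl {M : Matrix (Fin 3) (Fin 3) F} (h : ∀ x, x ≠ 0 → M *ᵥ x ≠ 0) :
    ∃ A : GL (Fin 3) F, A.1 = M :=
  ⟨GeneralLinearGroup.mkOfDetNeZero M fun e =>
    let ⟨v, h1, h2⟩ := exists_mulVec_eq_zero_iff.2 e; h v h1 h2, rfl⟩

namespace UT
variable {U : UT F G}

theorem cjA {g : G} {p : Subgroup G} (h : Cj U.A p) : Cj (U.conj g).A p :=
  Cj.symm ⟨g, U.conj_A g⟩ |>.trans h
theorem cjB {g : G} {p : Subgroup G} (h : Cj U.B p) : Cj (U.conj g).B p :=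
  Cj.symm ⟨g, U.conj_B g⟩ |>.trans h

/-- homogeneous coordinates -/
structure Hom (U : UT F G) (P : (Fin 3 → F) → Subgroup G) : Prop where
  cj : ∀ x, x ≠ 0 → Cj U.A (P x)
  surj : ∀ p, Cj U.A p → ∃ x, x ≠ 0 ∧ P x = p
  eq_iff : ∀ x y, x ≠ 0 → y ≠ 0 → (P x = P y ↔ ∃ c : F, y = c • x)
  line : ∀ m, Cj U.B m → ∃ φ, φ ≠ 0 ∧ ∀ x, x ≠ 0 → (Inc (P x) m ↔ φ ⬝ᵥ x = 0)
  aff : ∀ g ∈ N[U.B], ∃ M : GL (Fin 3) F, ∀ x, x ≠ 0 → g •ᶜ P x = P (M.1 *ᵥ x)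

namespace Pl
variable (h : U.Pl)
include h

theorem card_inf {p l : Subgroup G} (hp : Cj U.A p) (hl : Cj U.B l) (hi : Inc p l) :
    Nat.card (p ⊓ l : Subgroup G) = 4 := by
  obtain ⟨g, rfl, rfl⟩ := h.flag hp hl hi
  rw [UT.inf_eq, card_Z]

theorem trans_on0 {l x y : Subgroup G} (hl : Cj U.B l) (hi : Inc U.A l) (hne : U.B ≠ l)
    (hx : Cj U.A x) (hy : Cj U.A y) (h1 : Inc x U.B) (h2 : Inc y U.B) (h3 : U.A ≠ x) (h4 : U.A ≠ y) :
    ∃ a ∈ U.A ⊓ l, a •ᶜ x = y := by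
  have k : ∀ {x}, Cj U.A x → Inc x U.B → U.A ≠ x → ∃ t, U.u 0 1 t ∈ x ⊓ U.B := fun hx h1 h3 =>
    U.compl inf_le_right (h.card_inf hx (Cj.refl _) h1)
      (fun ⟨z, z1, z2, z3⟩ => h3 (h.uniq (Cj.refl _) hx (U.Z_leA z2) z1.1 z3)) 1
  obtain ⟨t, ht⟩ := k hx h1 h3
  obtain ⟨t', ht'⟩ := k hy h2 h4
  obtain ⟨c, hc⟩ := U.swap.compl (X := U.A ⊓ l) (by simp) (h.card_inf (Cj.refl _) hl hi)
    (fun ⟨z, z1, z2, z3⟩ => hne (h.uniqB (Cj.refl _) hl (U.Z_leB (by simpa using z2)) z1.2 z3))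
    (t' - t)
  refine ⟨_, hc, h.uniq (hx.conj _) hy (mem_of_mem_of_eq (conj_mem_conj ht.1 _) ?_) ht'.1
    (by simp [U.u_eq_one])⟩
  simp [UT.swap, U.u_conj]

theorem trans_on {p m l x y : Subgroup G} (hp : Cj U.A p) (hm : Cj U.B m) (h0 : Inc p m)
    (hl : Cj U.B l) (hi : Inc p l) (hne : m ≠ l) (hx : Cj U.A x) (hy : Cj U.A y) (h1 : Inc x m)
    (h2 : Inc y m) (h3 : p ≠ x) (h4 : p ≠ y) : ∃ a ∈ p ⊓ l, a •ᶜ x = y := by
  obtain ⟨g, rfl, rfl⟩ := h.flag hp hm h0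
  exact (h.conj g).trans_on0 (cjB hl) hi hne (cjA hx) (cjA hy) h1 h2 h3 h4

theorem trans_off {x y : Subgroup G} (hx : Cj U.A x) (hy : Cj U.A y) (h1 : ¬ Inc x U.B)
    (h2 : ¬ Inc y U.B) : ∃ a ∈ U.B, a •ᶜ x = y := by
  obtain ⟨m, hm, h3, h4⟩ := h.join hx hy
  obtain ⟨p, hp, h5, h6⟩ := h.meet (Cj.refl _) hm
  obtain ⟨a, ha, e⟩ := h.trans_on hp hm h6 (Cj.refl _) h5 (fun e => h1 (e ▸ h3)) hx hy h3 h4
    (fun e => h1 (e ▸ h5)) fun e => h2 (e ▸ h5)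
  exact ⟨a, ha.2, e⟩

theorem semireg {x : Subgroup G} (hx : Cj U.A x) (h1 : ¬ Inc x U.B) {a b : G} (ha : a ∈ U.B)
    (hb : b ∈ U.B) (e : a •ᶜ x = b •ᶜ x) : a = b := by
  by_contra h2
  refine h1 (h.inc_of_mem hx (Cj.refl _) (mul_mem (inv_mem hb) ha)
    (fun e => h2 (inv_mul_eq_one.1 e).symm) (conj_eq_iff_mem_normalizer.1 ?_))
  rw [← conj_conj, e, map_conj_inv_map_conj]

omit h in
theorem inc_iff {x : Subgroup G} {g : G} (hg : g ∈ N[U.B]) : Inc (g •ᶜ x) U.B ↔ Inc x U.B := by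
  conv_lhs => rw [← conj_eq_iff_mem_normalizer.2 hg, inc_conj]

theorem pt2 {p m : Subgroup G} (hp : Cj U.A p) (hm : Cj U.B m) (h1 : Inc p U.B) (h2 : Inc p m)
    (h3 : U.B ≠ m) : ∃ o, Cj U.A o ∧ Inc o m ∧ ¬ Inc o U.B ∧ p ≠ o := by
  obtain ⟨g, rfl, rfl⟩ := h.flag hp hm h2
  obtain ⟨o, ho, h4, h5⟩ := (h.conj g).swap.exists_other
  rw [swap_B] at ho h5
  rw [swap_A] at h4
  exact ⟨o, hp.trans ho, h4.symm, fun hh =>
    (h.uniq_line hp (hp.trans ho) (Cj.refl _) hm h1 hh h2 h4.symm).elim h5 h3, h5⟩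

theorem exists_off : ∃ o, Cj U.A o ∧ ¬ Inc o U.B := by
  obtain ⟨l, hl, h4, hne⟩ := h.exists_other
  obtain ⟨o, h1, -, h2, -⟩ := h.pt2 (Cj.refl _) hl U.inc h4 hne
  exact ⟨o, h1, h2⟩

theorem exists_hom : ∃ P : (Fin 3 → F) → Subgroup G, Hom U P := by
  classical
  obtain ⟨e, he⟩ := U.exists_line h.hB
  have lin := fun g (hg : g ∈ N[U.B]) => U.lin_of_line he hg
  have two := U.two
  have hK := Cj.refl U.B
  have eqn : ∀ p, Cj U.A p → Inc p U.B → ∃ α β : F, (α ≠ 0 ∨ β ≠ 0) ∧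
      ∀ s t, U.w e s t ∈ p ↔ α * s + β * t = 0 := by
    intro p hp hi
    have h4 := h.card_inf hp hK hi
    obtain ⟨z, z1, z2, z3⟩ := hi
    obtain ⟨x, y, rfl⟩ := U.mem_B' e z2
    obtain ⟨k, -, h1⟩ := he x y
    have h2 : ∀ c, U.w e (c * x) (c * y) ∈ p := fun c =>
      h.uniq ⟨k, rfl⟩ hp (map_mono U.Z_leA (by simpa using h1 1)) z1 z3 ▸ map_mono U.Z_leA (h1 c)
    have h3 : x ≠ 0 ∨ y ≠ 0 := by simpa only [Ne, U.w_eq_one, not_and_or] using z3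
    refine ⟨y, x, h3.symm, fun s t => ⟨fun hs => ?_, fun hs => ?_⟩⟩
    · have := f_fin U.hF
      obtain ⟨c, hc⟩ := ((Nat.bijective_iff_injective_and_card
        fun c : F => (⟨_, h2 c, U.w_mem ..⟩ : (p ⊓ U.B : Subgroup G))).2 ⟨fun c c' e => by
          have := U.w_inj.1 (congrArg Subtype.val e)
          exact h3.elim (mul_right_cancel₀ · this.1) (mul_right_cancel₀ · this.2),
        by rw [h4, U.hF]⟩).2 ⟨_, hs, U.w_mem ..⟩
      obtain ⟨rfl, rfl⟩ := U.w_inj.1 (congrArg Subtype.val hc)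
      linear_combination c * x * y * two
    · rcases h3 with h3 | h3
      · convert h2 (s / x) using 2 <;> field_simp
        linear_combination hs - y * s * two
      · convert h2 (t / y) using 2 <;> field_simp
        linear_combination hs - x * t * two
  have add := U.w_add e
  have hw := U.w_mem e
  have mem := fun z (hz : z ∈ U.B) => U.mem_B' e hz
  have winj : ∀ s t s' t', U.w e s t = U.w e s' t' → s = s' ∧ t = t' := fun _ _ _ _ => U.w_inj.1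
  have w1 : ∀ s t, U.w e s t = 1 ↔ s = 0 ∧ t = 0 := fun _ _ => U.w_eq_one
  simp only [Lin] at lin
  generalize U.w e = w at *
  obtain ⟨o, ho, ho'⟩ := h.exists_off
  have : ∀ z, z ∈ U.B → ∃ p, Cj U.A p ∧ z ∈ p := fun z h1 => by
    obtain ⟨g, hg⟩ := U.exZ h.hA h.hB (U.sqB h1)
    exact ⟨_, ⟨g, U.conj_A g⟩, (U.conj g).Z_leA hg⟩
  choose! ctr c1 c2 using this
  obtain ⟨P, hP⟩ : ∃ P : (Fin 3 → F) → Subgroup G, ∀ x, P x =
    if x 2 = 0 then ctr (w (x 0) (x 1)) else w (x 0 / x 2) (x 1 / x 2) •ᶜ o := ⟨_, fun _ => rfl⟩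
  have f0 : ∀ x : Fin 3 → F, x ≠ 0 → x 2 = 0 → w (x 0) (x 1) ≠ 1 := fun x hx h2 e => hx (by
    ext i; fin_cases i <;> simp [h2, (w1 _ _).1 e])
  have cj : ∀ x, x ≠ 0 → Cj U.A (P x) := fun x hx => by
    rw [hP]; split_ifs with h2
    exacts [c1 _ (hw _ _), ho.conj _]
  have fA : ∀ x q, x ≠ 0 → x 2 = 0 → Cj U.A q → (P x = q ↔ w (x 0) (x 1) ∈ q) := by
    intro x q hx h2 hq
    have h3 := c2 _ (hw (x 0) (x 1))
    have h4 := cj x hx
    rw [hP, if_pos h2] at h4 ⊢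
    exact ⟨fun e => e ▸ h3, fun e => h.uniq h4 hq h3 e (f0 x hx h2)⟩
  have fB : ∀ x, x ≠ 0 → (Inc (P x) U.B ↔ x 2 = 0) := fun x hx =>
    ⟨fun hh => by_contra fun h2 => ho' (by
      rwa [hP, if_neg h2, inc_iff (le_normalizer (hw _ _))] at hh),
      fun h2 => ⟨_, (fA x _ hx h2 (cj x hx)).1 rfl, hw _ _, f0 x hx h2⟩⟩
  refine ⟨P, cj, fun p hp => ?_, fun x y hx hy => ?_, fun m hm => ?_, fun g hg => ?_⟩
  · by_cases hi : Inc p U.B
    · obtain ⟨z, z1, z2, hz1⟩ := hi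
      obtain ⟨s, t, rfl⟩ := mem z z2
      have : ![s, t, 0] ≠ 0 := fun e => hz1 (by
        have e0 := congrFun e 0; have e1 := congrFun e 1
        simp at e0 e1
        exact (w1 _ _).2 ⟨e0, e1⟩)
      exact ⟨_, this, (fA _ p this rfl hp).2 z1⟩
    · obtain ⟨a, ha, rfl⟩ := h.trans_off ho hp ho' hi
      obtain ⟨s, t, rfl⟩ := mem a ha
      exact ⟨![s, t, 1], by simp, by simp [hP]⟩
  · by_cases h1 : x 2 = 0
    · obtain ⟨α, β, h2, h3⟩ := eqn _ (cj x hx) ((fB x hx).2 h1)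
      have h4 := (h3 _ _).1 ((fA x _ hx h1 (cj x hx)).1 rfl)
      refine ⟨fun e => ?_, ?_⟩
      · have h5 := (fB y hy).1 (e ▸ (fB x hx).2 h1)
        exact CIT.exists_smul_of_eqn hx h1 h5 h2 h4 ((h3 _ _).1 ((fA y _ hy h5 (cj x hx)).1 e.symm))
      · rintro ⟨c, rfl⟩
        exact ((fA _ _ hy (by simp [h1]) (cj x hx)).2 ((h3 _ _).2 (by
          simp only [Pi.smul_apply, smul_eq_mul]; linear_combination c * h4))).symm
    · refine ⟨fun e => ?_, ?_⟩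
      · have h2 : y 2 ≠ 0 := fun h2 => h1 ((fB x hx).1 (e ▸ (fB y hy).2 h2))
        rw [hP, hP, if_neg h1, if_neg h2] at e
        obtain ⟨h3, h4⟩ := winj _ _ _ _ (h.semireg ho ho' (hw _ _) (hw _ _) e)
        refine ⟨y 2 / x 2, ?_⟩
        field_simp at h3 h4
        ext i; fin_cases i <;> simp <;> field_simp
        exacts [by linear_combination -h3, by linear_combination -h4]
      · rintro ⟨c, rfl⟩
        have hc : c ≠ 0 := fun e => hy (by simp [e])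
        simp [hP, h1, hc, mul_div_mul_left]
  · by_cases hne : U.B = m
    · exact ⟨![0, 0, 1], by simp, fun x hx => by
        rw [← hne, fB x hx]; simp [dotProduct, Fin.sum_univ_three]⟩
    obtain ⟨q, hq, h1, h2⟩ := h.meet hK hm
    obtain ⟨α, β, h3, h4⟩ := eqn q hq h1
    obtain ⟨p, hp, h5, h6, h7⟩ := h.pt2 hq hm h1 h2 hne
    obtain ⟨a, ha, rfl⟩ := h.trans_off ho hp ho' h6
    obtain ⟨s, t, rfl⟩ := mem a ha
    refine ⟨![α, β, α * s + β * t], fun e => ?_, fun x hx => ?_⟩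
    · have e0 := congrFun e 0; have e1 := congrFun e 1
      simp at e0 e1
      simp [e0, e1] at h3
    simp only [dotProduct, Fin.sum_univ_three, cons_val]
    by_cases h8 : x 2 = 0
    · rw [h8, mul_zero, add_zero, ← h4, ← fA x q hx h8 hq]
      exact ⟨fun hh => (h.uniq_line (cj x hx) hq hK hm ((fB x hx).2 h8) h1 hh
        h2).resolve_right hne, fun e => e ▸ h2⟩
    have e : P x = w (x 0 / x 2 + s) (x 1 / x 2 + t) •ᶜ w s t •ᶜ o := by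
      rw [hP, if_neg h8, conj_conj, ← add, add_assoc, add_assoc, ← two_mul, ← two_mul, two]; simp
    have e2 : α * x 0 + β * x 1 + (α * s + β * t) * x 2 = 0 ↔
        w (x 0 / x 2 + s) (x 1 / x 2 + t) ∈ q := by
      rw [h4, show α * x 0 + β * x 1 + (α * s + β * t) * x 2 =
        (α * (x 0 / x 2 + s) + β * (x 1 / x 2 + t)) * x 2 by field_simp; ring,
        mul_eq_zero_iff_right h8]
    rw [e2]
    refine ⟨fun hh => ?_, fun hh => ?_⟩
    · obtain ⟨b, hb, e3⟩ := h.trans_on hq hm h2 hK h1 (Ne.symm hne) hp (cj x hx) h5 hh h7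
        fun e => h8 ((fB x hx).1 (e ▸ h1))
      exact h.semireg hp h6 hb.2 (hw _ _) (e3.trans e) ▸ hb.1
    · rw [e, ← conj_eq_iff_mem_normalizer.2 (h.le_of_inc' hq hm h2 hh), inc_conj]
      exact h5
  obtain ⟨p, q, r, s, h1⟩ := lin g hg
  obtain ⟨a, ha, e1⟩ := h.trans_off ho (ho.conj g) ho' (by rwa [inc_iff hg])
  obtain ⟨a, b, rfl⟩ := mem a ha
  have h2 : ∀ x : Fin 3 → F, !![p, q, a; r, s, b; 0, 0, 1] *ᵥ x =
      ![p * x 0 + q * x 1 + a * x 2, r * x 0 + s * x 1 + b * x 2, x 2] := fun x => by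
    ext i; fin_cases i <;> simp [mulVec, dotProduct, Fin.sum_univ_three]
  have h3 : ∀ x : Fin 3 → F, x ≠ 0 → !![p, q, a; r, s, b; 0, 0, 1] *ᵥ x ≠ 0 := fun x hx e => by
    rw [h2] at e
    have e0 := congrFun e 0; have e1 := congrFun e 1; have e2 := congrFun e 2
    simp at e0 e1 e2
    simp [e2] at e0 e1
    exact f0 x hx e2 (conj_eq_one_iff.1 ((h1 _ _).trans ((w1 _ _).2 ⟨e0, e1⟩)))
  obtain ⟨M, hM⟩ := exists_gl h3
  refine ⟨M, fun x hx => ?_⟩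
  have h4 := h3 x hx
  rw [hM]
  rw [h2] at h4 ⊢
  by_cases h5 : x 2 = 0
  · refine ((fA _ _ h4 h5 ((cj x hx).conj g)).2 ?_).symm
    simpa [h1, h5] using conj_mem_conj ((fA x _ hx h5 (cj x hx)).1 rfl) g
  · rw [hP, hP, if_neg h5, if_neg (by simpa), conj_conj, ← inv_mul_cancel_right (g * _) g,
      ← conj_conj _ g, h1, ← e1, conj_conj, ← add]
    congr 3 <;> simp <;> field_simp

variable {P : (Fin 3 → F) → Subgroup G} (c : Hom U P)
include c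

theorem elat {e φ : Fin 3 → F} {m : Subgroup G} (he : e ≠ 0) (hφ : φ ≠ 0) (hm : Cj U.B m)
    (h1 : ∀ x, x ≠ 0 → (Inc (P x) m ↔ φ ⬝ᵥ x = 0)) (h2 : φ ⬝ᵥ e = 0) {z : G} (h3 : z ∈ P e)
    (h4 : z ∈ m) : ∃ a : F, ∀ x, x ≠ 0 → z •ᶜ P x = P (x + (a * φ ⬝ᵥ x) • e) := by
  have h0 : ∀ x, x ≠ 0 → φ ⬝ᵥ x = 0 → z •ᶜ P x = P x := fun x hx e =>
    conj_eq_iff_mem_normalizer.2 (h.le_of_inc (c.cj x hx) hm ((h1 x hx).2 e) h4)
  refine CIT.elation (σ := fun p => z •ᶜ p) c.eq_iff (fun _ _ => conj_inj.1) hφ he h2 h0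
    (fun x hx => ?_) fun x y x' y' a b hx hy hx' hy' hw h5 e1 e2 => ?_
  · obtain ⟨y, hy, e1⟩ := c.surj _ ((c.cj x hx).conj z)
    obtain ⟨l, hl, h5, h6⟩ := h.join (c.cj e he) (c.cj x hx)
    obtain ⟨ψ, hψ, h7⟩ := c.line l hl
    refine ⟨y, hy, e1.symm, CIT.dep_of_dot hψ ((h7 e he).1 h5) ((h7 x hx).1 h6) ((h7 y hy).1 ?_)⟩
    rwa [e1, ← conj_eq_iff_mem_normalizer.2 (h.le_of_inc' (c.cj e he) hl h5 h3), inc_conj]
  · obtain ⟨l, hl, h6, h7⟩ := h.join (c.cj x hx) (c.cj y hy)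
    obtain ⟨ψ, -, h8⟩ := c.line l hl
    obtain ⟨χ, hχ, h9⟩ := c.line _ (hl.conj z)
    refine CIT.dep_of_dot hχ ((h9 _ hx').1 (e1 ▸ (inc_conj z).2 h6)) ((h9 _ hy').1
      (e2 ▸ (inc_conj z).2 h7)) ((h9 _ hw).1 (h0 _ hw h5 ▸ (inc_conj z).2 ((h8 _ hw).2 ?_)))
    simp [(h8 x hx).1 h6, (h8 y hy).1 h7]

end Pl

theorem Pl.emb (h : U.Pl) (hO : pPrimeCore 2 G = ⊥) : Emb F G := by
  classical
  obtain ⟨P, c⟩ := h.exists_hom
  let Δ : Subgroup (G × GL (Fin 3) F) :=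
    { carrier := {p | ∀ x, x ≠ 0 → p.1 •ᶜ P x = P (p.2.1 *ᵥ x)}
      one_mem' := fun x _ => (map_conj_one _).trans (congrArg P (one_mulVec x).symm)
      mul_mem' := fun {a b} ha hb x hx => by
        rw [Prod.fst_mul, ← conj_conj, hb x hx, ha _ (gl_ne _ hx), mulVec_mulVec]; rfl
      inv_mem' := fun {a} ha x hx => by
        rw [Prod.fst_inv, eq_comm, ← conj_eq_iff, ha _ (gl_ne _ hx), mulVec_mulVec,
          Prod.snd_inv, Units.mul_inv, one_mulVec] }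
  have h4 : ∀ A, (1, A) ∈ Δ → A ∈ center _ := fun A hA => gl_center A fun x hx =>
    (c.eq_iff _ _ hx (gl_ne A hx)).1 ((map_conj_one _).symm.trans (hA x hx))
  have h3 : ∀ g A, (g, A) ∈ Δ → A ∈ center _ → g = 1 := fun g A hg hA => by
    obtain ⟨a, ha⟩ := GeneralLinearGroup.mem_center_iff_val_mem_range_scalar.1 hA
    have k : ∀ {g b : G}, g ∈ N[U.A].normalCore → g ∈ N[b •ᶜ U.A] := fun {g b} hg => by
      rw [← conj_normalizer, mem_map_conj]; simpa using hg b⁻¹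
    refine mem_bot.1 (hO.le (le_pPrimeCore N[U.A].normalCore_normal ((Nat.Prime.coprime_iff_not_dvd
      Nat.prime_two).2 (odd_of_no_invol fun z hz h2 => ?_)).symm fun b => ?_))
    · by_contra h1
      obtain ⟨g, hg⟩ := U.exZ h.hA h.hB h2
      obtain ⟨o, ⟨b, rfl⟩, ho⟩ := (h.conj g).exists_off
      exact ho ((h.conj g).inc_of_mem ⟨b, rfl⟩ (Cj.refl _) ((U.conj g).Z_leB hg) h1 (by
        rw [conj_A, conj_conj]; exact k hz))
    · obtain ⟨x, hx, e⟩ := c.surj _ ((Cj.refl U.A).conj b⁻¹)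
      have := conj_eq_iff_mem_normalizer.1 ((hg x hx).trans ((c.eq_iff _ _ hx (gl_ne A hx)).2
        ⟨a, by rw [← ha]; ext; simp [mulVec_diagonal]⟩).symm)
      rwa [e, ← conj_normalizer, mem_map_conj, inv_inv] at this
  have h1 : ∀ g, ∃ A, (g, A) ∈ Δ := by
    have k : ∀ z : G, z * z = 1 → z ∈ Δ.map (MonoidHom.fst _ _) := fun z hz => by
      by_cases hz1 : z = 1
      · exact hz1 ▸ one_mem _
      obtain ⟨g, hg⟩ := U.exZ h.hA h.hB hz
      obtain ⟨e, he, e1⟩ := c.surj _ ⟨g, U.conj_A g⟩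
      obtain ⟨φ, hφ, h5⟩ := c.line _ ⟨g, U.conj_B g⟩
      have h6 := (h5 e he).1 (e1 ▸ (U.conj g).inc)
      obtain ⟨a, ha⟩ := h.elat c he hφ ⟨g, U.conj_B g⟩ h5 h6 (e1 ▸ (U.conj g).Z_leA hg)
        ((U.conj g).Z_leB hg)
      refine ⟨(z, GeneralLinearGroup.mkOfDetNeZero (1 + a • vecMulVec e φ) ?_), fun x hx => ?_, rfl⟩
      · simp only [dotProduct, Fin.sum_univ_three] at h6
        rw [show det (1 + a • vecMulVec e φ) = 1 by
          simp [det_fin_three, vecMulVec_apply]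
          linear_combination a * h6]
        exact one_ne_zero
      · change _ = P ((1 + a • vecMulVec e φ) *ᵥ x)
        simp only [ha x hx, add_mulVec, one_mulVec, smul_mulVec, vecMulVec_mulVec]
        congr 2; ext; simp; ring
    have hS : U.S ≤ normalClosure {z : G | z * z = 1} := U.sup_eq ▸ sup_le
      (fun _ hx => subset_normalClosure (U.sqA hx)) fun _ hx => subset_normalClosure (U.sqB hx)
    intro g
    obtain ⟨p, hp, rfl⟩ := (sup_le ((closure_le _).2 fun z hz => k z (by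
      obtain ⟨y, hy, e⟩ := Group.mem_conjugatesOfSet_iff.1 hz
      obtain ⟨b, rfl⟩ := isConj_iff.1 e
      rw [conj_mul, show y * y = 1 from hy]; simp)) (fun g hg => by
        obtain ⟨M, hM⟩ := c.aff g (U.NS_le_NB hg.2)
        exact ⟨(g, M), hM, rfl⟩) : _ ≤ Δ.map (MonoidHom.fst _ _))
      ((U.sylIn hS).le_sup_normalizer le_top le_normalizer_of_normal (mem_top g))
    exact ⟨p.2, hp⟩
  choose M hM using h1
  refine ⟨MonoidHom.mk' (fun g => QuotientGroup.mk (M g)) fun g k => ?_,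
    (injective_iff_map_eq_one _).2 fun g hg => h3 g _ (hM g) ((QuotientGroup.eq_one_iff _).1 hg)⟩
  refine QuotientGroup.eq.2 (h4 _ ?_)
  simpa using mul_mem (inv_mem (hM (g * k))) (mul_mem (hM g) (hM k))

end UT

end Cfsg.Lib.L34
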