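import Cfsg.Agent.Lib.L34.Loc

/-!
# Sylow 2-subgroups of type `L₃(4)`: linear coordinates on `B`, affine embedding
-/

set_option autoImplicit false
set_option linter.unusedSectionVars false

namespace Cfsg.Lib.L34
open Subgroup Cfsg.Lib Cfsg.Lib.FT

variable {F : Type*} [Field F] {G : Type*} [Group G] [Finite G]

theorem out_mem (S : Subgroup G) (g : G) (q : G ⧸ S) : (g • q).out⁻¹ * (g * q.out) ∈ S := by
  rw [← QuotientGroup.eq, QuotientGroup.out_eq', ← smul_eq_mul, ← MulAction.Quotient.smul_coe,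
    QuotientGroup.out_eq']

theorem f_odd (two : (2 : F) = 0) {n : ℕ} (h : Odd n) : (n : F) = 1 := by
  obtain ⟨k, rfl⟩ := h; simp [two]

theorem cocycle (two : (2 : F) = 0) {S : Subgroup G} (hS : Odd S.index) (χ r : G → F)
    (h : ∀ g k, r (g * k) = χ g * r k + r g) (h0 : ∀ s ∈ S, r s = 0) :
    ∃ e, ∀ g, r g + χ g * e = e := by
  have := Fintype.ofFinite (G ⧸ S)
  refine ⟨∑ q : G ⧸ S, r q.out, fun g => ?_⟩
  have : ∀ q : G ⧸ S, r (g • q).out = χ g * r q.out + r g := fun q => by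
    rw [← h, ← mul_inv_cancel_left (g • q).out (g * q.out), h, h0 _ (out_mem S g q)]; simp
  conv_rhs => rw [← Equiv.sum_comp (MulAction.toPerm g)]
  simp only [MulAction.toPerm_apply, this, Finset.sum_add_distrib, Finset.mul_sum, Finset.sum_const,
    Finset.card_univ, nsmul_eq_mul, ← Nat.card_eq_fintype_card, ← index_eq_card, f_odd two hS]
  ring

theorem cores {V : Type*} [AddCommGroup V] (S : Subgroup G) (ρ : G → V →+ V)
    (hρ : ∀ g k v, ρ (g * k) v = ρ g (ρ k v)) (t : G → V)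
    (ht : ∀ x ∈ S, ∀ y ∈ S, t (x * y) = t x + ρ x (t y)) : ∃ τ : G → V,
    (∀ g k, τ (g * k) = τ g + ρ g (τ k)) ∧
      ∀ b v, (∀ g, g⁻¹ * (b * g) ∈ S ∧ ρ g (t (g⁻¹ * (b * g))) = v) → τ b = S.index • v := by
  have := Fintype.ofFinite (G ⧸ S)
  refine ⟨fun g => ∑ q : G ⧸ S, ρ (g • q).out (t ((g • q).out⁻¹ * (g * q.out))), fun g k => ?_,
    fun b v h => ?_⟩
  · beta_reduce
    conv_rhs => rw [← Equiv.sum_comp (MulAction.toPerm k)]
    simp only [MulAction.toPerm_apply, map_sum, ← Finset.sum_add_distrib]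
    refine Finset.sum_congr rfl fun q _ => ?_
    rw [mul_smul, show (g • k • q).out⁻¹ * (g * k * q.out) = (g • k • q).out⁻¹ * (g * (k • q).out) *
      ((k • q).out⁻¹ * (k * q.out)) by group, ht _ (out_mem S _ _) _ (out_mem S _ _), map_add, ← hρ,
      ← hρ, mul_inv_cancel_left]
  · have : ∀ q : G ⧸ S, b • q = q := fun q => by
      conv_lhs => rw [← QuotientGroup.out_eq' q, MulAction.Quotient.smul_coe]
      rw [eq_comm, ← QuotientGroup.out_eq' q, QuotientGroup.eq, QuotientGroup.out_eq']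
      exact (h _).1
    simp only [this, (h _).2, Finset.sum_const, Finset.card_univ, ← Nat.card_eq_fintype_card,
      ← index_eq_card]

theorem f_add (hF : Nat.card F = 4) {h : F → F} (add : ∀ x y, h (x + y) = h x + h y) :
    ∃ p q, ∀ x, h x = p * x + q * x ^ 2 := by
  obtain ⟨w, hw⟩ := f_om hF
  have two := f_two hF
  have h0 : h 0 = 0 := by simpa using add 0 0
  refine ⟨h w + w ^ 2 * h 1, h 1 + h w + w ^ 2 * h 1, fun x => ?_⟩
  rcases f_cases hF hw x with rfl | rfl | rfl | rfl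
  · simp [h0]
  · linear_combination -(h w + w ^ 2 * h 1) * two
  · linear_combination (-h x - h 1 * x ^ 2) * hw + h x * two
  · rw [add]
    linear_combination (-h w - h 1 * (w ^ 2 + 2 * w)) * hw - h w * w * two

theorem f_uniq (hF : Nat.card F = 4) {p q p' q' : F}
    (h : ∀ x, p * x + q * x ^ 2 = p' * x + q' * x ^ 2) : q = q' := by
  obtain ⟨w, hw⟩ := f_om hF
  linear_combination h w - w * h 1 - (q - q') * hw + (q - q') * (w + 1) * f_two hF

namespace UT
variable (U : UT F G)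

/-- coordinates on `B` -/
def w (e x y : F) : G := U.u 0 x (y + e * x ^ 2)

/-- linear action on `B` -/
def Lin (e : F) (g : G) : Prop :=
  ∃ p q r s, ∀ x y, g * U.w e x y * g⁻¹ = U.w e (p * x + q * y) (r * x + s * y)

theorem w_add (e x y x' y' : F) : U.w e (x + x') (y + y') = U.w e x y * U.w e x' y' := by
  rw [w, w, w, U.mul]
  exact U.u_congr (by simp) rfl (by linear_combination e * x * x' * U.two)

theorem w_inj {e x y x' y' : F} : U.w e x y = U.w e x' y' ↔ x = x' ∧ y = y' := by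
  rw [w, w, U.u_inj]
  exact ⟨fun h => ⟨h.2.1, by simpa [h.2.1] using h.2.2⟩, fun h => by simp [h.1, h.2]⟩

@[simp] theorem w_zero (e : F) : U.w e 0 0 = 1 := by simp [w]

theorem w_eq_one {e x y : F} : U.w e x y = 1 ↔ x = 0 ∧ y = 0 := by rw [← U.w_zero e, U.w_inj]

@[simp] theorem w_mem (e x y : F) : U.w e x y ∈ U.B := by simp [w]

theorem u_eq_w (e b c : F) : U.u 0 b c = U.w e b (c - e * b ^ 2) := by simp [w]

theorem mem_B' (e : F) {z : G} (h : z ∈ U.B) : ∃ x y, U.w e x y = z := by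
  obtain ⟨b, c, rfl⟩ := h; exact ⟨_, _, (U.u_eq_w ..).symm⟩

theorem w_conj (e a b c x y : F) :
    U.u a b c * U.w e x y * (U.u a b c)⁻¹ = U.w e x (a * x + y) := by
  rw [w, U.u_conj]; exact U.u_congr rfl rfl (by ring)

theorem odd_index : Odd U.S.index := by
  rw [← Nat.not_even_iff_odd, even_iff_two_dvd, ← relIndex_top_right]
  exact U.syl.not_dvd_relIndex

theorem lin_of_normal (h : ⊤ ≤ N[U.S]) : ∃ e, ∀ g, U.Lin e g := by
  have : ∀ g : G, ∃ m ν p q : F, m ≠ 0 ∧
      ∀ b c, g * U.u 0 b c * g⁻¹ = U.u 0 (m * b) (ν * c + (p * b + q * b ^ 2)) := fun g => by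
    obtain ⟨l, m, ha⟩ := U.exists_act (h (mem_top g))
    choose d hd using fun b => ha.s 0 b 0
    obtain ⟨p, q, e⟩ := f_add U.hF (h := d) fun x y => by
      have : U.u 0 (x + y) 0 = U.u 0 x 0 * U.u 0 y 0 := by simp [U.mul]
      replace this := congrArg (fun x => g * x * g⁻¹) this
      simp only [← conj_mul] at this
      simp only [hd, U.mul, U.u_inj] at this
      simpa using this.2.2
    refine ⟨m, l * m, p, q, ha.m0, fun b c => ?_⟩
    have : U.u 0 b c = U.u 0 0 c * U.u 0 b 0 := by simp [U.mul]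
    rw [this, ← conj_mul, hd, ha.z, U.mul, e]; simp
  choose m ν p q h0 h1 using this
  have k : ∀ g k, m (g * k) = m g * m k ∧ q (g * k) = ν g * q k + q g * m k ^ 2 := fun g k => by
    have : ∀ b, m (g * k) * b = m g * (m k * b) ∧ p (g * k) * b + q (g * k) * b ^ 2 =
        (ν g * p k + p g * m k) * b + (ν g * q k + q g * m k ^ 2) * b ^ 2 := fun b => by
      have := h1 (g * k) b 0
      rw [show g * k * U.u 0 b 0 * (g * k)⁻¹ = g * (k * U.u 0 b 0 * k⁻¹) * g⁻¹ by group, h1, h1,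
        U.u_inj] at this
      exact ⟨this.2.1.symm, by linear_combination -this.2.2⟩
    exact ⟨by simpa using (this 1).1, f_uniq U.hF fun b => (this b).2⟩
  obtain ⟨e, he⟩ := cocycle U.two U.odd_index (fun g => ν g / m g ^ 2) (fun g => q g / m g ^ 2)
    (fun g k' => by have := h0 g; have := h0 k'; simp only [(k g k').1, (k g k').2]; field_simp)
    (by
      rintro _ ⟨a, b, c, rfl⟩
      refine div_eq_zero_iff.2 (Or.inl (f_uniq U.hF (p := p (U.u a b c)) (p' := a) fun x => ?_))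
      have := h1 (U.u a b c) x 0
      rw [U.u_conj, U.u_inj] at this
      linear_combination -this.2.2)
  refine ⟨e, fun g => ⟨m g, 0, p g, ν g, fun x y => ?_⟩⟩
  have h2 := he g
  have := h0 g
  field_simp at h2
  rw [w, h1]
  exact U.u_congr rfl (by simp) (by linear_combination x ^ 2 * h2)

theorem exists_line (h : ¬ N[U.B] ≤ N[U.Z]) :
    ∃ e, ∀ x y, ∃ k ∈ N[U.B], ∀ c, U.w e (c * x) (c * y) ∈ k •ᶜ U.Z := by
  obtain ⟨n, hn, hn'⟩ := SetLike.not_le_iff_exists.1 h
  have ti : ∀ {n z}, n ∈ N[U.B] → z ∈ U.Z → z ≠ 1 → n * z * n⁻¹ ∈ U.Z → n ∈ N[U.Z] := by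
    intro n z; simpa using U.swap.ti (n := n) (z := z)
  have hF := f_fin U.hF
  have hZB : ∀ {k}, k ∈ N[U.B] → k •ᶜ U.Z ≤ U.B := map_conj_le_of_mem_normalizer U.Z_leB
  obtain ⟨p, e, he⟩ : ∃ p e, ∀ b, U.w e b (p * b) ∈ n •ᶜ U.Z := by
    choose β γ h using fun c => hZB hn (conj_mem_conj (x := U.u 0 0 c) (by simp) n)
    have h2 : ∀ {b c c'}, U.u 0 b c ∈ n •ᶜ U.Z → U.u 0 b c' ∈ n •ᶜ U.Z → c = c' := by
      intro b c c' h1 h2
      by_contra h3
      obtain ⟨z, hz, e⟩ := mul_mem h1 h2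
      replace e : n * z * n⁻¹ = _ := e
      rw [U.mul, ← two_mul b, U.two] at e
      refine hn' (ti hn hz ?_ (by simp [e]))
      rintro rfl
      rw [mul_one, mul_inv_cancel, eq_comm, U.u_eq_one] at e
      exact h3 (by linear_combination e.2.2 - c' * U.two)
    have h3 : ∀ c, U.u 0 (β c) (γ c) ∈ n •ᶜ U.Z := fun c => h c ▸ conj_mem_conj (by simp) n
    have h4 : Function.Surjective β := Finite.surjective_of_injective fun c c' e => by
      have := h c
      rw [h2 (h3 c) (e ▸ h3 c'), e, h c'] at this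
      simpa [U.u_inj] using this.symm
    choose ι hι using h4
    have h5 : ∀ b, U.u 0 b (γ (ι b)) ∈ n •ᶜ U.Z := fun b => by simpa [hι] using h3 (ι b)
    obtain ⟨p, e, he⟩ := f_add U.hF (h := fun b => γ (ι b)) fun x y => h2 (h5 _) (by
      simpa [U.mul] using mul_mem (h5 x) (h5 y))
    exact ⟨p, e, fun b => by simpa [w, ← he] using h5 b⟩
  refine ⟨e, fun x y => ?_⟩
  by_cases hx : x = 0
  · exact ⟨1, one_mem _, fun c => by simp [hx, w]⟩
  refine ⟨U.u (y / x - p) 0 0 * n, mul_mem (U.S_le_NB (by simp)) hn, fun c => ?_⟩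
  have := conj_mem_conj (he (c * x)) (U.u (y / x - p) 0 0)
  rwa [conj_conj, U.w_conj, show (y / x - p) * (c * x) + p * (c * x) = c * y by field_simp; ring]
    at this

theorem spreadB (h : ¬ N[U.B] ≤ N[U.Z]) {x : G} (hx : x ∈ U.B) :
    ∃ k ∈ N[U.B], k * x * k⁻¹ ∈ U.Z := by
  obtain ⟨e, he⟩ := U.exists_line h
  obtain ⟨a, b, rfl⟩ := U.mem_B' e hx
  obtain ⟨k, hk, h1⟩ := he a b
  exact ⟨k⁻¹, inv_mem hk, by simpa using mem_map_conj.1 (h1 1)⟩

theorem spreadA (h : ¬ N[U.A] ≤ N[U.Z]) {x : G} (hx : x ∈ U.A) :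
    ∃ k ∈ N[U.A], k * x * k⁻¹ ∈ U.Z := by
  simpa using U.swap.spreadB (x := x) (by simpa) (by simpa)

theorem lin_of_line {e : F}
    (line : ∀ x y, ∃ k ∈ N[U.B], ∀ c, U.w e (c * x) (c * y) ∈ k •ᶜ U.Z) {g : G} (hg : g ∈ N[U.B]) :
    U.Lin e g := by
  have hF := f_fin U.hF
  revert g
  obtain ⟨ω, hω⟩ := f_om U.hF
  have ex : ∀ {g}, g ∈ N[U.B] → ∀ x y, ∃ x' y', U.w e x' y' = g * U.w e x y * g⁻¹ :=
    fun hg x y => U.mem_B' e ((mem_normalizer_iff.1 hg _).1 (U.w_mem ..))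
  let R : G → F → Prop := fun g c => ∀ x y x' y', g * U.w e x y * g⁻¹ = U.w e x' y' →
    g * U.w e (ω * x) (ω * y) * g⁻¹ = U.w e (c * x') (c * y')
  have eig : ∀ g ∈ N[U.B], ∀ x y x' y', g * U.w e x y * g⁻¹ = U.w e x' y' →
      ∃ c, g * U.w e (ω * x) (ω * y) * g⁻¹ = U.w e (c * x') (c * y') := by
    intro g hg x y x' y' h
    by_cases h0 : U.w e x' y' = 1
    · obtain ⟨rfl, rfl⟩ := U.w_eq_one.1 (conj_eq_one_iff.1 (h.trans h0))
      exact ⟨0, by simp⟩
    obtain ⟨k, hk, h1⟩ := line x y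
    obtain ⟨k', hk', h2⟩ := line x' y'
    have h3 : (g * k) •ᶜ U.Z = k' •ᶜ U.Z := by
      have := (U.swap.conj k').ti' (U.swap.conj (g * k)) (by
        rw [conj_A, conj_A, swap_A, conj_eq_iff_mem_normalizer.2 hk',
          conj_eq_iff_mem_normalizer.2 (mul_mem hg hk)])
        (z := U.w e x' y') (by simpa using h2 1) (by
          simpa [← h, ← conj_conj] using conj_mem_conj (h1 1) g) h0
      simpa using this
    have h4 : Function.Bijective fun c : F => (⟨_, h2 c⟩ : (k' •ᶜ U.Z : Subgroup G)) := by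
      refine (Nat.bijective_iff_injective_and_card _).2 ⟨fun c c' h => by_contra fun hc => h0 ?_,
        by rw [card_conj, U.card_Z, U.hF]⟩
      have := U.w_inj.1 (congrArg Subtype.val h)
      rw [U.w_eq_one]
      exact ⟨(mul_eq_mul_right_iff.1 this.1).resolve_left hc,
        (mul_eq_mul_right_iff.1 this.2).resolve_left hc⟩
    obtain ⟨c, hc⟩ := h4.2 ⟨_, h3.le (conj_conj g k U.Z ▸ conj_mem_conj (h1 ω) g)⟩
    exact ⟨c, (congrArg Subtype.val hc).symm⟩
  have add : ∀ {g x y x' y' a b a' b'}, g * U.w e x y * g⁻¹ = U.w e x' y' →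
      g * U.w e a b * g⁻¹ = U.w e a' b' →
      g * U.w e (x + a) (y + b) * g⁻¹ = U.w e (x' + a') (y' + b') := by
    intro g x y x' y' a b a' b' h1 h2
    rw [U.w_add, U.w_add, ← conj_mul, h1, h2]
  have sc : ∀ g ∈ N[U.B], R g ω ∨ R g (ω + 1) := by
    intro g hg
    have inv : ∀ x' y', ∃ x y, g * U.w e x y * g⁻¹ = U.w e x' y' := fun x' y' => by
      obtain ⟨x, y, h⟩ := ex (inv_mem hg) x' y'
      exact ⟨x, y, by rw [h]; group⟩
    choose X Y h using inv
    choose C hC using fun x y => eig g hg _ _ _ _ (h x y)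
    have k0 : ∀ x y x' y', g * U.w e x y * g⁻¹ = U.w e x' y' → x = X x' y' ∧ y = Y x' y' :=
      fun x y x' y' h1 => U.w_inj.1 (by simpa using h1.trans (h x' y').symm)
    have k1 : ∀ x y, C (x + 0) (0 + y) * x = C x 0 * x ∧ C (x + 0) (0 + y) * y = C 0 y * y := by
      intro x y
      obtain ⟨e1, e2⟩ := k0 _ _ _ _ (add (h x 0) (h 0 y))
      have := hC (x + 0) (0 + y)
      rw [← e1, ← e2, mul_add, mul_add, add (hC x 0) (hC 0 y), U.w_inj] at this
      simpa [eq_comm] using this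
    simp only [add_zero, zero_add] at k1
    have k2 : ∀ x y, x ≠ 0 → y ≠ 0 → C x 0 = C 0 y := fun x y hx hy =>
      (mul_right_cancel₀ hx (k1 x y).1).symm.trans (mul_right_cancel₀ hy (k1 x y).2)
    have k3 : R g (C 1 0) := fun x y x' y' h1 => by
      obtain ⟨rfl, rfl⟩ := k0 _ _ _ _ h1
      rw [hC, U.w_inj, (k1 x' y').1, (k1 x' y').2]
      refine ⟨?_, ?_⟩
      · by_cases hx : x' = 0
        · simp [hx]
        · rw [k2 x' 1 hx one_ne_zero, k2 1 1 one_ne_zero one_ne_zero]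
      · by_cases hy : y' = 0
        · simp [hy]
        · rw [k2 1 y' one_ne_zero hy]
    have k4 := add (add (k3 _ _ _ _ (k3 _ _ _ _ (h 1 0))) (k3 _ _ _ _ (h 1 0))) (h 1 0)
    rw [show ∀ x, ω * (ω * x) + ω * x + x = 0 from fun x => by linear_combination x * hω,
      show ∀ x, ω * (ω * x) + ω * x + x = 0 from fun x => by linear_combination x * hω,
      U.w_zero, mul_one, mul_inv_cancel, eq_comm, U.w_eq_one] at k4
    replace k4 := k4.1
    rcases f_cases U.hF hω (C 1 0) with h1 | h1 | h1 | h1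
    · simp [h1] at k4
    · rw [h1] at k4; exact absurd (by linear_combination k4 - U.two) (one_ne_zero (α := F))
    exacts [Or.inl (h1 ▸ k3), Or.inr (h1 ▸ k3)]
  have cj : ∀ g k x : G, g * k * x * (g * k)⁻¹ = g * (k * x * k⁻¹) * g⁻¹ := fun g k x => by group
  let X : Subgroup G :=
    { carrier := {g | g ∈ N[U.B] ∧ R g ω}
      one_mem' := ⟨one_mem _, fun x y x' y' h => by
        obtain ⟨rfl, rfl⟩ := U.w_inj.1 (by simpa using h); simp⟩
      mul_mem' := fun {g k} hg hk => ⟨mul_mem hg.1 hk.1, fun x y x' y' h => by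
        obtain ⟨a, b, h1⟩ := ex hk.1 x y
        rw [cj, ← h1] at h
        rw [cj, hk.2 _ _ _ _ h1.symm, hg.2 _ _ _ _ h]⟩
      inv_mem' := fun {g} hg => ⟨inv_mem hg.1, fun x y x' y' h => by
        rw [← hg.2 x' y' x y (by rw [← h]; group)]; group⟩ }
  have anti : ∀ g ∈ N[U.B], ∀ k ∈ N[U.B], g ∉ X → k ∉ X → g * k ∈ X := by
    intro g hg k hk h1 h2
    have h3 := (sc g hg).resolve_left fun h => h1 ⟨hg, h⟩
    have h4 := (sc k hk).resolve_left fun h => h2 ⟨hk, h⟩
    refine ⟨mul_mem hg hk, fun x y x' y' h => ?_⟩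
    obtain ⟨a, b, h5⟩ := ex hk x y
    rw [cj, ← h5] at h
    rw [cj, h4 _ _ _ _ h5.symm, add_mul, add_mul, one_mul, one_mul, add (h3 _ _ _ _ h) h, U.w_inj]
    exact ⟨by linear_combination x' * U.two, by linear_combination y' * U.two⟩
  intro g hg
  have hX : g ∈ X := by
    by_contra h
    refine h (U.mem_of_sq ?_ (pg_mem_normalizer_of_conj_mem fun x hx => ?_) (anti g hg g hg h h))
    · rintro _ ⟨a, b, c, rfl⟩
      refine ⟨U.S_le_NB (by simp), fun x y x' y' h => ?_⟩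
      rw [U.w_conj, U.w_inj] at h ⊢
      exact ⟨by rw [h.1], by rw [← h.2]; ring⟩
    · rw [mul_assoc]
      exact anti g hg _ (mul_mem hx.1 (inv_mem hg)) h fun e =>
        h (inv_mem_iff.1 ((mul_mem_cancel_left hx).1 e))
  have sm : ∀ c x y x' y', g * U.w e x y * g⁻¹ = U.w e x' y' →
      g * U.w e (c * x) (c * y) * g⁻¹ = U.w e (c * x') (c * y') := fun c x y x' y' h => by
    rcases f_cases U.hF hω c with rfl | rfl | rfl | rfl
    · simp
    · simpa using h
    · exact hX.2 _ _ _ _ h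
    · simpa only [add_mul, one_mul] using add (hX.2 _ _ _ _ h) h
  obtain ⟨a, b, h1⟩ := ex hg 1 0
  obtain ⟨a', b', h2⟩ := ex hg 0 1
  exact ⟨a, a', b, b', fun x y => by
    simpa [mul_comm] using add (sm x _ _ _ _ h1.symm) (sm y _ _ _ _ h2.symm)⟩

/-- the conclusion -/
def Emb (F : Type*) [Field F] (G : Type*) [Group G] : Prop :=
  ∃ f : G →* GL (Fin 3) F ⧸ center (GL (Fin 3) F), Function.Injective f

theorem emb_of_lin (hO : pPrimeCore 2 G = ⊥) (hn : ⊤ ≤ N[U.B]) {e : F} (h : ∀ g, U.Lin e g) :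
    Emb F G := by
  choose p q r s h using h
  let ρ : G → F × F →+ F × F := fun g =>
    { toFun := fun v => (p g * v.1 + q g * v.2, r g * v.1 + s g * v.2)
      map_zero' := by simp
      map_add' := fun v v' => by ext <;> simp <;> ring }
  have hρ : ∀ g k v, ρ (g * k) v = ρ g (ρ k v) := fun g k v => by
    have := h (g * k) v.1 v.2
    rw [show ∀ x, g * k * x * (g * k)⁻¹ = g * (k * x * k⁻¹) * g⁻¹ from fun x => by group, h, h,
      U.w_inj] at this
    exact Prod.ext this.1.symm this.2.symm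
  have : ∀ x : G, ∃ v : F × F, ∀ a b c, U.u a b c = x → v = (b, c - e * b ^ 2) := fun x => by
    by_cases hx : x ∈ U.S
    · obtain ⟨a, b, c, rfl⟩ := hx
      exact ⟨_, fun a' b' c' e => by obtain ⟨-, rfl, rfl⟩ := U.u_inj.1 e; rfl⟩
    · exact ⟨0, fun a b c e => absurd (e ▸ U.uS ..) hx⟩
  choose t ht using this
  obtain ⟨τ, h1, h2⟩ := cores U.S ρ hρ t (by
    rintro _ ⟨a, b, c, rfl⟩ _ ⟨a', b', c', rfl⟩
    have := h (U.u a b c) b' (c' - e * b' ^ 2)
    rw [U.w_conj, U.w_inj] at this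
    rw [ht _ _ _ _ (U.mul ..).symm, ht _ _ _ _ rfl, ht _ _ _ _ rfl]
    refine Prod.ext (congrArg (b + ·) this.1) (Eq.trans ?_ (congrArg (c - e * b ^ 2 + ·) this.2))
    linear_combination -e * b * b' * U.two)
  have h3 : ∀ x y, τ (U.w e x y) = (x, y) := fun x y => by
    rw [h2 _ (x, y) fun g => ?_, ← Nat.cast_smul_eq_nsmul F, f_odd U.two U.odd_index, one_smul]
    obtain ⟨a, b, e1⟩ := U.mem_B' e ((mem_normalizer_iff.1 (hn (mem_top g⁻¹)) _).1 (U.w_mem e x y))
    rw [inv_inv, mul_assoc] at e1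
    have := h g a b
    rw [e1, show g * (g⁻¹ * (U.w e x y * g)) * g⁻¹ = U.w e x y by group, U.w_inj] at this
    rw [← e1, ht (U.w e a b) 0 a (b + e * a ^ 2) rfl]
    exact ⟨U.B_le (U.w_mem ..), Prod.ext (by simp [ρ, ← this.1]) (by simp [ρ, ← this.2])⟩
  let f : G →* Matrix (Fin 3) (Fin 3) F :=
    { toFun := fun g => !![p g, q g, (τ g).1; r g, s g, (τ g).2; 0, 0, 1]
      map_one' := by
        have e1 := h 1 1 0
        have e2 := h 1 0 1
        have e3 := h3 0 0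
        simp [U.w_inj] at e1 e2 e3
        simp [← e1.1, ← e1.2, ← e2.1, ← e2.2, e3, Matrix.one_fin_three]
      map_mul' := fun g k => by
        have e1 := hρ g k (1, 0)
        have e2 := hρ g k (0, 1)
        simp only [ρ, AddMonoidHom.coe_mk, ZeroHom.coe_mk, Prod.mk.injEq, mul_one, mul_zero, add_zero,
          zero_add] at e1 e2
        simp [h1, ρ, e1, e2, add_comm, add_left_comm, Matrix.mul_fin_three] }
  refine ⟨(QuotientGroup.mk' _).comp f.toHomUnits, (injective_iff_map_eq_one _).2 fun g hg => ?_⟩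
  obtain ⟨c, hc⟩ := Matrix.GeneralLinearGroup.mem_center_iff_val_mem_range_scalar.1
    ((QuotientGroup.eq_one_iff _).1 hg)
  have k : ∀ i j, Matrix.scalar (Fin 3) c i j = f g i j := fun i j => congrFun (congrFun hc i) j
  have k1 := k 2 2; have k2 := k 0 0; have k3 := k 0 1; have k4 := k 1 0; have k5 := k 1 1
  have k6 := k 0 2; have k7 := k 1 2
  simp [f] at k1 k2 k3 k4 k5 k6 k7
  obtain ⟨x, y, rfl⟩ := U.mem_B' e (z := g) (by
    simpa using U.swap.CA_le hO (by rwa [swap_A]) (x := g) (by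
      rw [swap_A]
      intro z hz
      obtain ⟨x, y, rfl⟩ := U.mem_B' e hz
      rw [eq_comm, ← mul_inv_eq_iff_eq_mul, h, ← k2, ← k3, ← k4, ← k5, k1]; simp))
  rw [h3] at k6 k7
  exact U.w_eq_one.2 ⟨k6.symm, k7.symm⟩

theorem emb_of_normal (hO : pPrimeCore 2 G = ⊥) (hn : ⊤ ≤ N[U.B]) : Emb F G := by
  by_cases h : ⊤ ≤ N[U.Z]
  swap
  · obtain ⟨e, he⟩ := U.exists_line fun e => h (hn.trans e)
    exact U.emb_of_lin hO hn fun g => U.lin_of_line he (hn (mem_top g))
  have h1 : ⊤ ≤ N[C[U.Z]] := h.trans (normalizer_le_normalizer_centralizer _)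
  have h2 := (U.sub _ U.S_le_C).zc (by
    have := IC.pPrimeCore_le_bot_of_normal hO h1
    rwa [piCoreOf_compl_singleton, le_bot_iff, map_eq_bot_iff_of_injective _ (subtype_injective _)]
      at this) fun g _ z hz => Subtype.ext (g.2 z ((U.sub_Z ..).le hz))
  rw [sub_S, ← subgroupOf_normalizer_eq U.S_le_C] at h2
  obtain ⟨e, he⟩ := U.lin_of_normal (((U.sylIn U.S_le_C).le_sup_normalizer le_top h1).trans
    (sup_le (fun g hg => h2 (mem_top ⟨g, hg⟩)) inf_le_right))
  exact U.emb_of_lin hO hn he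

theorem emb_of_normalA (hO : pPrimeCore 2 G = ⊥) (hn : ⊤ ≤ N[U.A]) : Emb F G :=
  U.swap.emb_of_normal hO (by rwa [swap_B])

end UT

end Cfsg.Lib.L34
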