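import Cfsg.Agent.Lib.L34.One
import Cfsg.Agent.Lib.L34.Coord
import Cfsg.Agent.Lib.Misc.Heis

/-!
# Groups with Sylow 2-subgroups of type `L₃(4)` embed in `PGL₃(4)` modulo the core
-/

set_option autoImplicit false
set_option linter.unusedSectionVars false

namespace Cfsg.Lib.L34
open Subgroup Cfsg.Lib Cfsg.Lib.FT

variable {F : Type*} [Field F] {G : Type*} [Group G] [Finite G]

theorem UT.emb (U : UT F G) (hO : pPrimeCore 2 G = ⊥) : UT.Emb F G := by
  by_cases hA : N[U.A] ≤ N[U.Z] <;> by_cases hB : N[U.B] ≤ N[U.Z]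
  · exact U.case_one hO hA hB
  · exact U.swap.emb_of_normalA hO (U.swap.case_two hO (by simpa using hB) (by simpa using hA))
  · exact U.emb_of_normalA hO (U.case_two hO hA hB)
  · exact (U.pl hO hA hB).emb hO

theorem UT.emb_bar (U : UT F G) : UT.Emb F (G ⧸ pPrimeCore 2 G) :=
  U.bar.emb pPrimeCore_quotient_pPrimeCore

/-- coordinates from an isomorphism with the Heisenberg group -/
def UT.ofHeis (hF : Nat.card F = 4) (S : Sylow 2 G) (e : Heis3 F ≃* S) : UT F G where
  u a b c := (e ⟨a, b, c⟩ : G)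
  mul a b c a' b' c' := by rw [← Subgroup.coe_mul, ← map_mul]; rfl
  inj1 a b c h := by
    have : (⟨a, b, c⟩ : Heis3 F) = 1 := e.injective (Subtype.ext (by simpa using h))
    exact ⟨congrArg Heis3.a this, congrArg Heis3.b this, congrArg Heis3.c this⟩
  hF := hF
  max P hP h x hx := by
    have : P = S := S.3 hP fun y hy => by
      obtain ⟨⟨a, b, c⟩, e1⟩ := e.surjective ⟨y, hy⟩
      have := h a b c
      rwa [e1] at this
    obtain ⟨⟨a, b, c⟩, e1⟩ := e.surjective ⟨x, this ▸ hx⟩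
    exact ⟨a, b, c, congrArg Subtype.val e1⟩

theorem exists_ut [Fintype F] (hF : Fintype.card F = 4) (S : Sylow 2 G)
    (P : Sylow 2 (Matrix.ProjectiveSpecialLinearGroup (Fin 3) F)) (e : S ≃* P) :
    Nonempty (UT F G) := by
  have h4 : Nat.card F = 4 := by rw [Nat.card_eq_fintype_card, hF]
  obtain ⟨Q, hQ⟩ := Heis3.exists_sylow (f_two h4)
  exact ⟨UT.ofHeis h4 S (((MonoidHom.ofInjective Heis3.toPSL_injective).trans
    (MulEquiv.subgroupCongr hQ.symm)).trans ((Q.equiv P).trans e.symm))⟩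

end Cfsg.Lib.L34
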