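import Cfsg.Agent.Lib.L34.Basic

/-!
# Sylow 2-subgroups of type `L₃(4)`: fusion
-/

set_option autoImplicit false
set_option linter.unusedSectionVars false

namespace Cfsg.Lib.L34
open Subgroup Cfsg.Lib Cfsg.Lib.FT

variable {F : Type*} [Field F] {G : Type*} [Group G] [Finite G]

theorem exists_odd_pow (t : G) : ∃ m, IsPGroup 2 (zpowers (t ^ (4 * m + 1))) := by
  obtain ⟨k, r, hr, e⟩ := Nat.exists_eq_two_pow_mul_odd (orderOf_pos t).ne'
  obtain ⟨j, rfl⟩ := hr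
  refine ⟨j * j + j, IsPGroup.of_card_dvd_pow (n := k) ?_⟩
  rw [Nat.card_zpowers]
  refine orderOf_dvd_of_pow_eq_one ?_
  rw [← pow_mul, show (4 * (j * j + j) + 1) * 2 ^ k = 2 ^ k * (2 * j + 1) * (2 * j + 1) by ring, ← e,
    pow_mul, pow_orderOf_eq_one, one_pow]

theorem p_zpowers {x : G} (h : x * x = 1) : IsPGroup 2 (zpowers x) :=
  elemAb_isPGroup (elemAb_zpowers (by rwa [sq]))

theorem p_pair {x y : G} (hx : x * x = 1) (hy : y * y = 1) (h : x * y = y * x) :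
    IsPGroup 2 (zpowers x ⊔ zpowers y : Subgroup G) :=
  (p_zpowers hx).to_sup_of_normal_right' (p_zpowers hy) (zpowers_le.2 (centralizer_le_normalizer _
    (by rw [centralizer_zpowers]; exact mem_centralizer_singleton_iff.2 h)))

namespace UT
variable (U : UT F G)

theorem mem_of_sq {X : Subgroup G} (hX : U.S ≤ X) {n : G} (hn : n ∈ N[X]) (h2 : n * n ∈ X) :
    n ∈ X := by
  obtain ⟨k, hk, e⟩ := (U.sylIn hX).exists_mul_mem_normalizer hn
  refine (mul_mem_cancel_left (inv_mem hk)).1 (FT.IsSylowIn.mem_of_sq_mem U.syl hX e ?_)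
  rw [show (k⁻¹ * n) ^ 2 = k⁻¹ * (n * k⁻¹ * n⁻¹) * (n * n) by rw [sq]; group]
  exact mul_mem (mul_mem (inv_mem hk) ((mem_normalizer_iff.1 hn _).1 (inv_mem hk))) h2

theorem e16 {E : Subgroup G} (hE : E ≤ U.S) (h2 : ∀ x ∈ E, x * x = 1) (hc : Nat.card E = 16) :
    E = U.A ∨ E = U.B := by
  by_cases h : E ≤ U.A
  · exact Or.inl (eq_of_le_of_card_ge h (by rw [hc, U.card_A]))
  obtain ⟨x, hx, hxA⟩ := SetLike.not_le_iff_exists.1 h
  refine Or.inr (eq_of_le_of_card_ge (fun y hy => ?_) (by rw [hc, U.card_B]))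
  have hxB := (U.invol (hE hx) (h2 x hx)).resolve_left hxA
  rcases U.invol (hE hy) (h2 y hy) with h3 | h3
  · rcases U.invol (hE (mul_mem hx hy)) (h2 _ (mul_mem hx hy)) with h4 | h4
    · exact absurd ((mul_mem_cancel_right h3).1 h4) hxA
    · exact (mul_mem_cancel_left hxB).1 h4
  · exact h3

theorem conj_or {g : G} (hg : g •ᶜ U.A ≤ U.S) : g •ᶜ U.A = U.A ∨ g •ᶜ U.A = U.B :=
  U.e16 hg (fun x hx => (U.conj g).sqA (by simpa using hx)) (by rw [card_conj, U.card_A])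

theorem NS_le_NA : N[U.S] ≤ N[U.A] := fun n hn => by
  have h1 := U.conj_or (map_conj_le_of_mem_normalizer U.A_le hn)
  have h2 := U.swap.conj_or (g := n) (by simpa using map_conj_le_of_mem_normalizer U.B_le hn)
  simp only [swap_A, swap_B] at h2
  rcases h1 with h1 | h1
  · exact conj_eq_iff_mem_normalizer.1 h1
  refine FT.IsSylowIn.mem_of_sq_mem U.syl U.S_le_NA hn (conj_eq_iff_mem_normalizer.1 ?_)
  rw [sq, ← conj_conj, h1, h2.resolve_left fun e => U.A_ne_B (conj_inj.1 (h1.trans e.symm))]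

theorem NS_le_NB : N[U.S] ≤ N[U.B] := by simpa using U.swap.NS_le_NA

theorem NAB_le : N[U.A] ⊓ N[U.B] ≤ N[U.Z] := U.inf_eq ▸ le_normalizer_inf inf_le_left inf_le_right

theorem NS_le_NZ : N[U.S] ≤ N[U.Z] := (le_inf U.NS_le_NA U.NS_le_NB).trans U.NAB_le

/-- weak closure -/
theorem wc {g : G} (hg : g •ᶜ U.A ≤ U.S) : g ∈ N[U.A] := by
  refine conj_eq_iff_mem_normalizer.1 ((U.conj_or hg).resolve_right fun e => ?_)
  obtain ⟨k, hk, e1⟩ := ((U.conj g).sylIn (M := N[U.B]) (by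
    rw [← e]; simpa using (U.conj g).S_le_NA)).exists_conj (U.sylIn U.S_le_NB)
  rw [conj_S, conj_conj] at e1
  have := conj_eq_iff_mem_normalizer.2 (U.NS_le_NA (conj_eq_iff_mem_normalizer.1 e1))
  rw [← conj_conj, e, conj_eq_iff_mem_normalizer.2 hk] at this
  exact U.A_ne_B this.symm

theorem wcB {g : G} (hg : g •ᶜ U.B ≤ U.S) : g ∈ N[U.B] := by
  simpa using U.swap.wc (g := g) (by simpa using hg)

theorem wc2 {P : Subgroup G} (hP : IsPGroup 2 P) {g : G} (h1 : U.A ≤ P) (h2 : g •ᶜ U.A ≤ P) :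
    g ∈ N[U.A] := by
  obtain ⟨k, -, hk⟩ := U.syl.exists_conj_le hP le_top
  have h3 := U.wc ((map_mono h1).trans hk)
  have h4 := U.wc (g := k * g) (by rw [← conj_conj]; exact (map_mono h2).trans hk)
  exact (mul_mem_cancel_left h3).1 h4

/-- `N(A)` controls fusion in `A` -/
theorem fusA {M : Subgroup G} (hM : U.A ≤ M) {g x : G} (hg : g ∈ M) (hx : x ∈ U.A)
    (h : g * x * g⁻¹ ∈ U.A) : ∃ n ∈ M ⊓ N[U.A], n * x * n⁻¹ = g * x * g⁻¹ := by
  obtain ⟨P, hP, hAP⟩ := exists_isSylowIn_ge U.p_A (le_inf hM (U.A_le_C1 h))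
  obtain ⟨k, hk, e⟩ := hP.exists_conj_le (U := g •ᶜ U.A) (U.p_A.map _) (le_inf (conj_le_of_mem hM hg)
    (by rw [← conj_centralizer_singleton]; exact map_mono (U.A_le_C1 hx)))
  refine ⟨k * g, ⟨mul_mem hk.1 hg, U.wc2 hP.isPGroup hAP (by rwa [← conj_conj])⟩, ?_⟩
  rw [show k * g * x * (k * g)⁻¹ = k * (g * x * g⁻¹) * k⁻¹ by group,
    mem_centralizer_singleton_iff.1 hk.2, mul_inv_cancel_right]

theorem conjAB {M : Subgroup G} (hM : U.S ≤ M) {g x : G} (hg : g ∈ M) (hx : x ∈ U.A)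
    (h : g * x * g⁻¹ ∈ U.B) : ∃ k ∈ M, k * x * k⁻¹ ∈ U.Z := by
  obtain ⟨P, hP, hBP⟩ := exists_isSylowIn_ge U.p_B (le_inf (U.B_le.trans hM)
    (by simpa using U.swap.A_le_C1 (x := g * x * g⁻¹) (by simpa using h)))
  obtain ⟨k, hk, e⟩ := hP.exists_conj_le (U := g •ᶜ U.A) (U.p_A.map _) (le_inf
    (conj_le_of_mem (U.A_le.trans hM) hg)
    (by rw [← conj_centralizer_singleton]; exact map_mono (U.A_le_C1 hx)))
  obtain ⟨l, hl, e1⟩ := (U.sylIn hM).exists_conj_le hP.isPGroup (hP.le.trans inf_le_left)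
  have h1 := U.wcB ((map_mono hBP).trans e1)
  have h2 := U.wc (g := l * (k * g)) (by
    rw [← conj_conj, ← conj_conj]; exact (map_mono e).trans e1)
  refine ⟨l * (k * g), mul_mem hl (mul_mem hk.1 hg), U.mem_Z_of ((mem_normalizer_iff.1 h2 x).1 hx) ?_⟩
  rw [show l * (k * g) * x * (l * (k * g))⁻¹ = l * (k * (g * x * g⁻¹) * k⁻¹) * l⁻¹ by group,
    mem_centralizer_singleton_iff.1 hk.2, mul_inv_cancel_right]
  exact (mem_normalizer_iff.1 h1 _).1 h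

omit [Finite G] in
theorem four {z w y : G} (hz : z ∈ U.Z) (hw : w ∈ U.Z) (hy : y ∈ U.Z) (h1 : z ≠ 1) (h2 : w ≠ 1)
    (h3 : w ≠ z) : y = 1 ∨ y = z ∨ y = w ∨ y = z * w := by
  obtain ⟨c, rfl⟩ := hz; obtain ⟨d, rfl⟩ := hw; obtain ⟨y, rfl⟩ := hy
  simp only [ne_eq, U.u_eq_one, U.u_inj, true_and, U.mul, add_zero, mul_zero] at *
  have h4 : c ^ 2 + c * d + d ^ 2 = 0 := mul_left_cancel₀ (sub_ne_zero.2 h3)
    (by linear_combination f_cube U.hF h2 - f_cube U.hF h1)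
  have h : y * ((y - c) * ((y - d) * (y - (c + d)))) = 0 := by
    linear_combination f_pow U.hF y + (y ^ 2 - y * d) * h4 + y * f_cube U.hF h2 +
      (y - y ^ 3 * (c + d) + y ^ 2 * c * d) * U.two
  simpa only [mul_eq_zero, sub_eq_zero] using h

omit [Finite G] in
theorem comm_mem_Z {v x : G} (hv : v ∈ U.S) (hx : x ∈ U.S) : v * x * v⁻¹ * x⁻¹ ∈ U.Z := by
  obtain ⟨a, b, c, rfl⟩ := hv; obtain ⟨a', b', c', rfl⟩ := hx
  rw [U.u_conj, U.u_inv, U.mul, uZ]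
  exact ⟨by linear_combination a' * U.two, by linear_combination b' * U.two⟩

theorem ti_aux (V : UT F G) (e : V.A = U.A) {z w : G} (h1 : z ∈ U.Z) (h2 : z ∈ V.Z) (hz : z ≠ 1)
    (hw : w ∈ V.Z) (hwU : w ∉ U.Z) : ∃ v ∈ U.S, v ∉ U.A ∧ v * v = 1 ∧
      (∀ x ∈ U.A, v * x * v⁻¹ * x⁻¹ ∈ U.Z) ∧
      (∀ x ∈ U.Z ⊔ V.Z, v * x * v⁻¹ * x⁻¹ ∈ zpowers z) ∧ v * z = z * v := by
  have hwA : w ∈ U.A := e ▸ V.Z_leA hw
  obtain ⟨v, hv, ev⟩ := U.exists_conj_coset hwA hwU h1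
  have hS := U.B_le hv
  have k0 : ∀ x ∈ U.Z, v * x * v⁻¹ = x := fun x hx => by rw [U.commZ hS hx, mul_inv_cancel_right]
  have k1 : v * w * v⁻¹ * w⁻¹ = z := by rw [ev, U.commZ (U.A_le hwA) h1, mul_inv_cancel_right]
  refine ⟨v, hS, fun h => hz ?_, U.sqB hv, fun x hx => U.comm_mem_Z hS (U.A_le hx), fun x hx => ?_,
    U.commZ hS h1⟩
  · rw [← k1, U.commA h hwA]; group
  let K : Subgroup G :=
    { carrier := {x | x ∈ U.A ∧ v * x * v⁻¹ * x⁻¹ ∈ zpowers z}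
      one_mem' := ⟨one_mem _, by simp⟩
      mul_mem' := fun {x y} hx hy => ⟨mul_mem hx.1 hy.1, by
        rw [show v * (x * y) * v⁻¹ * (x * y)⁻¹ = v * x * v⁻¹ * (v * y * v⁻¹ * y⁻¹) * x⁻¹ by group,
          U.commA (U.conj_mem_A hS hx.1) (U.Z_leA (U.comm_mem_Z hS (U.A_le hy.1))), mul_assoc,
          mul_assoc _ _ x⁻¹]
        exact mul_mem hy.2 (by simpa [mul_assoc] using hx.2)⟩
      inv_mem' := fun {x} hx => by rwa [inv_eq_of_mul_eq_one_right (U.sqA hx.1)] }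
  refine (sup_le (fun y hy => ?_) (fun y hy => ?_) : U.Z ⊔ V.Z ≤ K) hx |>.2
  · exact ⟨U.Z_leA hy, by simp [k0 y hy]⟩
  have k2 : z ∈ K := ⟨U.Z_leA h1, by simp [k0 z h1]⟩
  have k3 : w ∈ K := ⟨hwA, k1 ▸ mem_zpowers z⟩
  rcases V.four h2 hw hy hz (fun e => hwU (e ▸ one_mem _)) (fun e => hwU (e ▸ h1)) with
    rfl | rfl | rfl | rfl
  exacts [one_mem _, k2, k3, mul_mem k2 k3]

theorem eq_Z_of_le {X : Subgroup G} {v : G} (h : X ≤ U.A) (hv : v ∈ U.S) (hvA : v ∉ U.A)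
    (hc : ∀ x ∈ X, x * v = v * x) (h4 : Nat.card X = 4) : X = U.Z :=
  eq_of_le_of_card_ge (fun x hx => U.mem_Z_of_comm (h hx) hv hvA (hc x hx)) (by rw [h4, U.card_Z])

theorem ti' (V : UT F G) (e : V.A = U.A) {z : G} (h1 : z ∈ U.Z) (h2 : z ∈ V.Z) (hz : z ≠ 1) :
    V.Z = U.Z := by
  by_contra hne
  obtain ⟨w, hw, hwU⟩ := SetLike.not_le_iff_exists.1 fun h : V.Z ≤ U.Z =>
    hne (eq_of_le_of_card_ge h (by rw [U.card_Z, V.card_Z]))
  obtain ⟨w', hw', hwV⟩ := SetLike.not_le_iff_exists.1 fun h : U.Z ≤ V.Z =>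
    hne (eq_of_le_of_card_ge h (by rw [U.card_Z, V.card_Z])).symm
  obtain ⟨v, v1, v2, v3, v4, v5, v6⟩ := U.ti_aux V e h1 h2 hz hw hwU
  obtain ⟨y, y1, y2, y3, y4, y5, y6⟩ := V.ti_aux U e.symm h2 h1 hz hw' hwV
  rw [sup_comm] at y5
  rw [e] at y2 y4
  set E := U.Z ⊔ V.Z
  have hzE : zpowers z ≤ E := zpowers_le.2 (mem_sup_left h1)
  have hEA : E ≤ U.A := sup_le U.Z_leA (e ▸ V.Z_leA)
  have hv := U.S_le_NA v1
  have hy : y ∈ N[U.A] := e ▸ V.S_le_NA y1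
  have c : ∀ {t x}, t * z = z * t → x ∈ zpowers z → t * x * t⁻¹ = x := fun {t x} ht hx => by
    obtain ⟨k, rfl⟩ := mem_zpowers_iff.1 hx
    rw [(Commute.zpow_right ht k).eq, mul_inv_cancel_right]
  have d : ∀ x, v * y * x * (v * y)⁻¹ * x⁻¹ = v * (y * x * y⁻¹ * x⁻¹) * v⁻¹ * (y * x * y⁻¹ * x⁻¹)⁻¹ *
      (y * x * y⁻¹ * x⁻¹) * (v * x * v⁻¹ * x⁻¹) := fun x => by group
  have t1 : ∀ x ∈ U.A, v * y * x * (v * y)⁻¹ * x⁻¹ ∈ E := fun x hx => by
    have := mem_sup_right (S := U.Z) (y4 x hx)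
    rw [d]; exact mul_mem (mul_mem (hzE (v5 _ this)) this) (mem_sup_left (v4 x hx))
  have t2 : ∀ x ∈ E, v * y * x * (v * y)⁻¹ * x⁻¹ ∈ zpowers z := fun x hx => by
    rw [d]; exact mul_mem (mul_mem (v5 _ (hzE (y5 x hx))) (y5 x hx)) (v5 x hx)
  have t3 : v * y * z = z * (v * y) := by rw [mul_assoc, y6, ← mul_assoc, v6, mul_assoc]
  have t4 : v * (v * y) * v⁻¹ = (v * y)⁻¹ := by
    rw [← mul_assoc, v3, one_mul, mul_inv_rev, inv_eq_of_mul_eq_one_right y3]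
  have t5 : y = v * (v * y) := by rw [← mul_assoc, v3, one_mul]
  have ht := mul_mem hv hy
  generalize v * y = t at t1 t2 t3 t4 t5 ht
  have t6 : t ^ 4 ∈ C[U.A] := fun x hx => by
    have k1 := t1 x hx
    have k2 := t2 _ k1
    have k3 : t * t * x * (t * t)⁻¹ = (t * (t * x * t⁻¹ * x⁻¹) * t⁻¹ * (t * x * t⁻¹ * x⁻¹)⁻¹) * x := by
      rw [inv_eq_of_mul_eq_one_right (U.sqA (hEA k1))]; group
    generalize t * (t * x * t⁻¹ * x⁻¹) * t⁻¹ * (t * x * t⁻¹ * x⁻¹)⁻¹ = q at k2 k3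
    have k4 : t ^ 4 * x * (t ^ 4)⁻¹ = t * (t * q * t⁻¹) * t⁻¹ * (t * t * x * (t * t)⁻¹) := by
      rw [show t ^ 4 * x * (t ^ 4)⁻¹ = t * t * (t * t * x * (t * t)⁻¹) * (t * t)⁻¹ by
        rw [show t ^ 4 = t * t * t * t by simp only [pow_succ, pow_zero, one_mul]]; group]
      conv_lhs => rw [k3]
      group
    rw [c t3 k2, c t3 k2, k3, ← mul_assoc, U.sqA (hEA (hzE k2)), one_mul] at k4
    rw [← mul_inv_eq_iff_eq_mul.1 k4]
  obtain ⟨m, hm⟩ := exists_odd_pow t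
  obtain ⟨r, hr, e1⟩ := (U.sylIn U.S_le_NA).exists_conj_le
    ((p_zpowers v3).to_sup_of_normal_right' hm (zpowers_le.2 (pg_mem_normalizer_of_conj_mem
      fun x hx => by
        obtain ⟨k, rfl⟩ := mem_zpowers_iff.1 hx
        rw [← conj_zpow, ← conj_pow, t4, inv_pow]
        exact zpow_mem (inv_mem (mem_zpowers _)) _)))
    (sup_le (zpowers_le.2 hv) (zpowers_le.2 (pow_mem ht _)))
  have k1 := map_conj_le_iff.1 e1
  rw [← conj_S] at k1
  have k2 : (U.conj r⁻¹).Z ≤ U.A := by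
    simpa using map_conj_le_of_mem_normalizer U.Z_leA (inv_mem hr)
  have k3 := fun x hx => ((U.conj r⁻¹).commZ (k1 (mem_sup_left (mem_zpowers v))) (y := x) hx).symm
  refine hne ((V.eq_Z_of_le (e ▸ k2) y1 (e ▸ y2) (fun x hx => ?_) (U.conj r⁻¹).card_Z).symm.trans
    (U.eq_Z_of_le k2 v1 v2 k3 (U.conj r⁻¹).card_Z))
  have k4 := (U.conj r⁻¹).commZ (k1 (mem_sup_right (mem_zpowers _))) hx
  have k5 := pow_mem t6 m x (k2 hx)
  rw [pow_succ, pow_mul, mul_assoc, ← mul_assoc x, k5, mul_assoc, mul_right_inj] at k4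
  rw [t5, ← mul_assoc, k3 x hx, mul_assoc, mul_assoc, k4]

/-- the conjugates of `Z` under `N(A)` form a partial spread -/
theorem ti {n z : G} (hn : n ∈ N[U.A]) (h1 : z ∈ U.Z) (hz : z ≠ 1) (h2 : n * z * n⁻¹ ∈ U.Z) :
    n ∈ N[U.Z] := by
  have := U.ti' (U.conj n) (by simpa using conj_eq_iff_mem_normalizer.2 hn) h2
    (by simpa using conj_mem_conj h1 n) (by simpa using hz)
  exact conj_eq_iff_mem_normalizer.1 (by simpa using this)

theorem mem_CZ {n z : G} (hn : n ∈ N[U.Z]) (h1 : z ∈ U.Z) (hz : z ≠ 1) (h2 : n * z = z * n) :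
    n ∈ C[U.Z] := by
  refine U.mem_of_sq U.S_le_C (normalizer_le_normalizer_centralizer _ hn) fun w hw => ?_
  have k : ∀ x, x ≠ z → n * x * n⁻¹ ≠ z := fun x hx e => hx (by
    rw [mul_inv_eq_iff_eq_mul, ← h2] at e; exact mul_left_cancel e)
  have k2 : n * z * n⁻¹ = z := by rw [h2, mul_inv_cancel_right]
  have k3 : n * (n * w * n⁻¹) * n⁻¹ = w := by
    by_cases h3 : w = 1
    · simp [h3]
    by_cases h4 : w = z
    · rw [h4, k2, k2]
    rcases U.four h1 hw ((mem_normalizer_iff.1 hn w).1 hw) hz h3 h4 with h5 | h5 | h5 | h5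
    · exact absurd (by simpa using h5) h3
    · exact absurd h5 (k w h4)
    · rw [h5, h5]
    · rw [h5, ← conj_mul, h5, k2, ← mul_assoc, U.sqA (U.Z_leA h1), one_mul]
  conv_lhs => rw [← k3]
  group

end UT

end Cfsg.Lib.L34
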