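import Cfsg.Agent.Lib.L34.Fus
import Cfsg.Agent.Lib.InvChar.SylTools

/-!
# Sylow 2-subgroups of type `L₃(4)`: centralizers of central involutions
-/

set_option autoImplicit false
set_option linter.unusedSectionVars false

namespace Cfsg.Lib.L34
open Subgroup Cfsg.Lib Cfsg.Lib.FT

variable {F : Type*} [Field F] {G : Type*} [Group G] [Finite G]

theorem f_sigma (hF : Nat.card F = 4) {σ : F → F} (add : ∀ x y, σ (x + y) = σ x + σ y)
    (mul : ∀ x y, σ (x * y) = σ x * σ y) (one : σ 1 = 1) (x : F) : σ (σ x) = x := by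
  obtain ⟨w, hw⟩ := f_om hF
  have two := f_two hF
  have h0 : σ 0 = 0 := by simpa using add 0 0
  have h1 : σ w ^ 2 + σ w + 1 = 0 := by rw [sq, ← mul, ← one, ← add, ← add, ← sq, hw, h0]
  have h2 : σ (σ w) = w := by
    rcases f_cases hF hw (σ w) with h | h | h | h
    · simp [h] at h1
    · rw [h] at h1; exact absurd (by linear_combination h1 - two) (one_ne_zero (α := F))
    · rw [h, h]
    · rw [h, add, h, one]; linear_combination two
  rcases f_cases hF hw x with rfl | rfl | rfl | rfl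
  · rw [h0, h0]
  · rw [one, one]
  · exact h2
  · rw [add, add, h2, one, one]

namespace UT
variable (U : UT F G)

/-- diagonal action on `S` -/
structure Act (n : G) (l m : F) : Prop where
  l0 : l ≠ 0
  m0 : m ≠ 0
  s : ∀ a b c, ∃ d, n * U.u a b c * n⁻¹ = U.u (l * a) (m * b) d
  z : ∀ c, n * U.u 0 0 c * n⁻¹ = U.u 0 0 (l * m * c)

variable {U} in
theorem Act.mul {n n' : G} {l m l' m' : F} (h : U.Act n l m) (h' : U.Act n' l' m') :
    U.Act (n * n') (l * l') (m * m') := by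
  have e : ∀ x, n * n' * x * (n * n')⁻¹ = n * (n' * x * n'⁻¹) * n⁻¹ := fun x => by group
  refine ⟨mul_ne_zero h.l0 h'.l0, mul_ne_zero h.m0 h'.m0, fun a b c => ?_, fun c => ?_⟩
  · obtain ⟨d, e1⟩ := h'.s a b c
    obtain ⟨d', e2⟩ := h.s (l' * a) (m' * b) d
    exact ⟨d', by rw [e, e1, e2, mul_assoc, mul_assoc]⟩
  · rw [e, h'.z, h.z]; exact U.u_congr rfl rfl (by ring)

theorem act_S {n : G} (hn : n ∈ U.S) : U.Act n 1 1 := by
  obtain ⟨a, b, c, rfl⟩ := hn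
  exact ⟨one_ne_zero, one_ne_zero, fun _ _ _ => ⟨_, by rw [U.u_conj, one_mul, one_mul]⟩,
    fun _ => by simp [U.u_conj]⟩

variable {U} in
theorem Act.pow {n : G} {l m : F} (h : U.Act n l m) (k : ℕ) : U.Act (n ^ k) (l ^ k) (m ^ k) := by
  induction k with
  | zero => simpa using U.act_S (one_mem _)
  | succ k ih => simpa only [pow_succ] using ih.mul h

variable {U} in
theorem Act.swap {n : G} {l m : F} (h : U.Act n l m) : U.swap.Act n m l := by
  refine ⟨h.m0, h.l0, fun a b c => ?_, fun c => ?_⟩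
  · obtain ⟨d, e⟩ := h.s b a (c + a * b)
    exact ⟨d - m * a * (l * b), by simpa [UT.swap] using e⟩
  · simpa [UT.swap, mul_comm l] using h.z c

theorem exists_act {n : G} (hn : n ∈ N[U.S]) : ∃ l m, U.Act n l m := by
  let X : Subgroup G :=
    { carrier := {n | ∃ l m, U.Act n l m}
      one_mem' := ⟨1, 1, U.act_S (one_mem _)⟩
      mul_mem' := fun ⟨_, _, h⟩ ⟨_, _, h'⟩ => ⟨_, _, h.mul h'⟩
      inv_mem' := fun {x} ⟨_, _, h⟩ => by
        rw [inv_eq_of_mul_eq_one_left (a := x ^ (orderOf x - 1)) (b := x) (by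
          rw [← pow_succ, Nat.sub_add_cancel (orderOf_pos x), pow_orderOf_eq_one])]
        exact ⟨_, _, h.pow _⟩ }
  refine FT.IsSylowIn.mem_of_sq_mem (X := X) U.syl (fun x hx => ⟨1, 1, U.act_S hx⟩) hn ?_
  choose fA gA hA using fun a => (mem_normalizer_iff.1 (U.NS_le_NA hn) (U.u a 0 0)).1 (by simp)
  choose fB gB hB using fun a => (mem_normalizer_iff.1 (U.NS_le_NB hn) (U.u 0 a 0)).1 (by simp)
  choose fZ hZ using fun a => (mem_normalizer_iff.1 (U.NS_le_NZ hn) (U.u 0 0 a)).1 (by simp)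
  have hs : ∀ a b c, ∃ d, n * U.u a b c * n⁻¹ = U.u (fA a) (fB b) d := fun a b c => by
    have : U.u a b c = U.u a 0 0 * U.u 0 b 0 * U.u 0 0 (c - a * b) := by simp [U.mul]
    rw [this, ← conj_mul, ← conj_mul, ← hA, ← hB, ← hZ, U.mul, U.mul]
    exact ⟨_, U.u_congr (by simp) (by simp) rfl⟩
  have h1 : ∀ a b, fZ (a * b) = fA a * fB b := fun a b => by
    have : U.u a 0 0 * U.u 0 b 0 = U.u 0 b 0 * U.u a 0 0 * U.u 0 0 (a * b) := by simp [U.mul]
    replace this := congrArg (fun x => n * x * n⁻¹) this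
    simp only [← conj_mul] at this
    simp only [← hA, ← hB, ← hZ, U.mul, U.u_inj] at this
    linear_combination -this.2.2
  have h2 : ∀ a b, fZ (a + b) = fZ a + fZ b := fun a b => by
    have : U.u 0 0 (a + b) = U.u 0 0 a * U.u 0 0 b := by simp [U.mul]
    replace this := congrArg (fun x => n * x * n⁻¹) this
    simp only [← conj_mul] at this
    simp only [← hZ, U.mul, U.u_inj] at this
    linear_combination this.2.2
  have h3 : fZ 1 ≠ 0 := fun e => by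
    have := hZ 1
    rw [e, U.u_zero, eq_comm, conj_eq_one_iff, U.u_eq_one] at this
    simp at this
  have h4 := h1 1 1
  rw [one_mul] at h4
  have h5 : fA 1 ≠ 0 := left_ne_zero_of_mul (h4 ▸ h3)
  have h6 : fB 1 ≠ 0 := right_ne_zero_of_mul (h4 ▸ h3)
  obtain ⟨σ, hσ⟩ : ∃ σ : F → F, ∀ x, fZ x = fA 1 * fB 1 * σ x :=
    ⟨fun x => fZ x / (fA 1 * fB 1), fun x => by field_simp⟩
  have kA : ∀ a, fA a = fA 1 * σ a := fun a => mul_right_cancel₀ h6 (by
    rw [← h1, mul_one, hσ]; ring)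
  have kB : ∀ a, fB a = fB 1 * σ a := fun a => mul_left_cancel₀ h5 (by
    rw [← h1, one_mul, hσ]; ring)
  have h7 := mul_ne_zero h5 h6
  have m : ∀ x y, σ (x * y) = σ x * σ y := fun x y => mul_left_cancel₀ h7 (by
    rw [← hσ, h1, kA x, kB y]; ring)
  have k := f_sigma U.hF (σ := σ) (fun x y => mul_left_cancel₀ h7 (by
    rw [← hσ, h2, hσ, hσ]; ring)) m (mul_left_cancel₀ h7 (by rw [← hσ, h4, mul_one]))
  have n0 : ∀ x, x ≠ 0 → σ x ≠ 0 := fun x hx e => hx (by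
    have := m (σ x) 0
    rw [mul_zero, k] at this
    have h8 := m 0 x
    rw [zero_mul, e, mul_zero] at h8
    rw [← k x, e, h8])
  have e : ∀ x, n ^ 2 * x * (n ^ 2)⁻¹ = n * (n * x * n⁻¹) * n⁻¹ := fun x => by rw [sq]; group
  refine ⟨fA 1 * σ (fA 1), fB 1 * σ (fB 1), mul_ne_zero h5 (n0 _ h5), mul_ne_zero h6 (n0 _ h6),
    fun a b c => ?_, fun c => ?_⟩
  · obtain ⟨d, e1⟩ := hs a b c
    obtain ⟨d', e2⟩ := hs (fA a) (fB b) d
    exact ⟨d', by rw [e, e1, e2, kA (fA a), kB (fB b), kA a, kB b, m, m, k, k, mul_assoc, mul_assoc]⟩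
  · rw [e, ← hZ, ← hZ, hσ, hσ, m, m, k]; exact U.u_congr rfl rfl (by ring)

theorem sylA {M : Subgroup G} (hM : U.A ≤ M)
    (h : ∀ r ∈ N[U.A], ∃ x ∈ U.A, r * x * r⁻¹ ∉ U.Z ∧ M ≤ C1[x]) : IsSylowIn 2 U.A M := by
  refine ⟨hM, U.p_A, fun P hP h1 h2 => (eq_of_le_of_card_ge h2 ?_).symm⟩
  obtain ⟨r, -, e⟩ := U.syl.exists_conj_le hP le_top
  have hr := U.wc ((map_mono h2).trans e)
  obtain ⟨x, hx, h3, h4⟩ := h r hr
  rw [← card_conj r P]
  refine card_le_of_le fun y hy => U.mem_A_of_comm ((mem_normalizer_iff.1 hr x).1 hx) h3 (e hy) ?_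
  exact (mem_centralizer_singleton_iff.1 ((conj_centralizer_singleton r x).le
    (map_mono (h1.trans h4) hy))).symm

theorem sylA_C : IsSylowIn 2 U.A C[U.A] := U.sylA U.A_le_C fun r hr => by
  obtain ⟨a, h1, h2⟩ := U.exists_A
  have := (mem_normalizer_iff.1 (inv_mem hr) a).1 h1
  exact ⟨_, this, by simpa [mul_assoc] using h2, centralizer_le_singleton this⟩

theorem sylA_C1 {x : G} (hx : x ∈ U.A) (h : ∀ r ∈ N[U.A], r * x * r⁻¹ ∉ U.Z) :
    IsSylowIn 2 U.A C1[x] := U.sylA (U.A_le_C1 hx) fun r hr => ⟨x, hx, h r hr, le_rfl⟩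

theorem CA_le (hO : pPrimeCore 2 G = ⊥) (h : ⊤ ≤ N[U.A]) : C[U.A] ≤ U.A :=
  IC.le_of_central_sylow hO (h.trans (normalizer_le_normalizer_centralizer _)) U.sylA_C le_rfl

theorem zc (hO : pPrimeCore 2 G = ⊥) (hZ : ⊤ ≤ C[U.Z]) : ⊤ ≤ N[U.S] := by
  have hn : U.Z.Normal := normalizer_eq_top_iff.1 (top_le_iff.1 (hZ.trans (centralizer_le_normalizer _)))
  have hO' := IC.pPrimeCore_quotient_central hO U.p_Z hZ
  have hs := QuotientGroup.mk'_surjective U.Z
  have hk := QuotientGroup.ker_mk' U.Z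
  generalize QuotientGroup.mk' U.Z = f at hs hk
  have hN : N[U.S.map f].comap f = N[U.S] := by
    rw [comap_normalizer_eq_of_surjective _ hs, comap_map_eq_self (hk.le.trans U.Z_le)]
  have e1 : ∀ {a b c a' b' c'}, f (U.u a b c) = f (U.u a' b' c') ↔ a = a' ∧ b = b' := by
    intro a b c a' b' c'
    rw [← mul_inv_eq_one, ← map_inv, ← map_mul, ← MonoidHom.mem_ker, hk, U.u_inv, U.mul, uZ]
    exact ⟨fun h => ⟨by linear_combination h.1 - a' * U.two, by linear_combination h.2 - b' * U.two⟩,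
      fun h => ⟨by linear_combination h.1 + a' * U.two, by linear_combination h.2 + b' * U.two⟩⟩
  have e0 : ∀ {a b c}, f (U.u a b c) = 1 ↔ a = 0 ∧ b = 0 := by
    intro a b c; rw [← e1 (c := c) (c' := 0), U.u_zero, map_one]
  have := IC.normal_of_fpf hO' (V := U.S.map f) (x := f (U.u 1 0 0)) (y := f (U.u 0 1 0))
    (by simpa only [map_top_of_surjective _ hs] using U.syl.map f) ⟨⟨⟨?_⟩⟩, ?_⟩ ?_ ?_
    (mem_map_of_mem _ (by simp)) (by simp [e0]) (mem_map_of_mem _ (by simp)) (by simp [e0]) ?_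
  · rw [← hN]; exact fun g _ => this (mem_top _)
  · rintro ⟨_, _, ⟨a, b, c, rfl⟩, rfl⟩ ⟨_, _, ⟨a', b', c', rfl⟩, rfl⟩
    refine Subtype.ext (show f _ * f _ = f _ * f _ from ?_)
    simp only [← map_mul, U.mul, e1]
    exact ⟨add_comm _ _, add_comm _ _⟩
  · rintro _ ⟨_, ⟨a, b, c, rfl⟩, rfl⟩
    rw [← map_pow, sq, U.u_sq, e0]; simp
  · have := pg_card_map_mul_card_ker f U.S
    rw [hk, inf_eq_right.2 U.Z_le, U.card_Z, U.card_S] at this
    omega
  · rintro n hn - _ ⟨_, ⟨a, b, c, rfl⟩, rfl⟩ h1 h2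
    obtain ⟨n, rfl⟩ := hs n
    obtain ⟨l, m, h⟩ := U.exists_act (hN.le hn)
    have h3 := h.z 1
    rw [← hZ (mem_top n) _ (by simp), mul_inv_cancel_right, U.u_inj] at h3
    obtain ⟨d, h4⟩ := h.s a b c
    rw [← mul_inv_eq_iff_eq_mul, ← map_inv, ← map_mul, ← map_mul, h4, e1] at h2
    have h5 : l = 1 ∧ m = 1 := by
      by_cases ha : a = 0
      · have : m = 1 := mul_right_cancel₀ (fun e => h1 (e0.2 ⟨ha, e⟩)) (h2.2.trans (one_mul b).symm)
        exact ⟨by simpa [this] using h3.2.2.symm, this⟩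
      · have : l = 1 := mul_right_cancel₀ ha (h2.1.trans (one_mul a).symm)
        exact ⟨this, by simpa [this] using h3.2.2.symm⟩
    rintro _ ⟨_, ⟨a, b, c, rfl⟩, rfl⟩
    obtain ⟨d, h6⟩ := h.s a b c
    rw [eq_comm, ← mul_inv_eq_iff_eq_mul, ← map_inv, ← map_mul, ← map_mul, h6, e1]
    simp [h5]
  · intro h
    obtain ⟨g, h⟩ := isConj_iff.1 h
    obtain ⟨g, rfl⟩ := hs g
    rw [← mul_inv_eq_one, ← map_inv, ← map_mul, ← map_mul, ← map_inv, ← map_mul,
      ← MonoidHom.mem_ker, hk] at h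
    obtain ⟨k, -, h1⟩ := U.conjAB le_top (mem_top g) (x := U.u 1 0 0) (by simp)
      ((mul_mem_cancel_right (inv_mem (by simp))).1 (U.Z_leB h))
    simpa [mul_assoc] using hn.conj_mem _ h1 k⁻¹

theorem iso {z w g : G} (hz : z ∈ U.Z) (h1 : z ≠ 1) (hw : w ∈ U.Z) (hg : g ∈ C1[z])
    (h : g * w * g⁻¹ ∈ U.S) : g * w * g⁻¹ = w := by
  have k : ∀ V : UT F G, z ∈ V.Z → w ∈ V.Z → g * w * g⁻¹ ∈ V.A → g * w * g⁻¹ = w := by
    intro V hz hw h
    obtain ⟨n, hn, e⟩ := V.fusA (V.A_le_C1 (V.Z_leA hz)) hg (V.Z_leA hw) h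
    have h2 := mem_centralizer_singleton_iff.1 hn.1
    rw [← e, ← V.mem_CZ (V.ti hn.2 hz h1 (by rwa [h2, mul_inv_cancel_right])) hz h1 h2 w hw,
      mul_inv_cancel_right]
  rcases U.invol h (by rw [conj_mul, U.sqA (U.Z_leA hw)]; simp) with h2 | h2
  exacts [k U hz hw h2, k U.swap (by simpa) (by simpa) (by simpa)]

theorem zc' (hO : pPrimeCore 2 G = ⊥) {z : G} (hz : z ∈ U.Z) (h1 : z ≠ 1) (hc : ⊤ ≤ C1[z]) :
    ⊤ ≤ N[U.S] := by
  refine U.zc hO fun g _ w hw => ?_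
  obtain ⟨P, hP⟩ := U.syl.exists_sylow_top
  have := zstar_of_sylow P (t := w) (by rw [sq, U.sqA (U.Z_leA hw)]) (hP ▸ U.Z_le hw)
    (fun g hg => U.iso hz h1 hw (hc (mem_top g)) (hP ▸ hg)) g
  rw [hO, mem_bot, mul_inv_eq_one, mul_inv_eq_iff_eq_mul] at this
  exact this.symm

omit U in
theorem core_ker : ¬ 2 ∣ Nat.card (QuotientGroup.mk' (pPrimeCore 2 G)).ker := by
  rw [QuotientGroup.ker_mk']; exact not_dvd_card_pPrimeCore

/-- coordinates modulo the core -/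
def bar : UT F (G ⧸ pPrimeCore 2 G) := U.quo _ (QuotientGroup.mk'_surjective _) core_ker

theorem bar_S : U.bar.S = U.S.map (QuotientGroup.mk' _) := by
  unfold bar quo; exact U.map_S ..
theorem bar_A : U.bar.A = U.A.map (QuotientGroup.mk' _) := by
  unfold bar quo; exact U.map_A ..
theorem bar_B : U.bar.B = U.B.map (QuotientGroup.mk' _) := by
  unfold bar quo; exact U.map_B ..
theorem bar_Z : U.bar.Z = U.Z.map (QuotientGroup.mk' _) := by
  unfold bar quo; exact U.map_Z ..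

theorem zc'' {z : G} (hz : z ∈ U.Z) (h1 : z ≠ 1) (hc : ⊤ ≤ C1[z]) :
    (U.S ⊔ pPrimeCore 2 G).Normal := by
  have := U.bar.zc' pPrimeCore_quotient_pPrimeCore (z := QuotientGroup.mk' _ z)
    (U.bar_Z.ge (mem_map_of_mem _ hz)) (fun e => h1 (U.ker_inj core_ker z (U.Z_le hz) e))
    (fun g _ => by
      obtain ⟨g, rfl⟩ := QuotientGroup.mk'_surjective _ g
      rw [mem_centralizer_singleton_iff, ← map_mul, mem_centralizer_singleton_iff.1 (hc (mem_top g)),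
        map_mul])
  have h2 := (normalizer_eq_top_iff.1 (top_le_iff.1 this)).comap (QuotientGroup.mk' _)
  rwa [bar_S, comap_map_eq, QuotientGroup.ker_mk'] at h2

theorem normal_of_le {M : Subgroup G} (hM : U.S ≤ M) {z : G} (hz : z ∈ U.Z) (h1 : z ≠ 1)
    (hc : M ≤ C1[z]) : (U.S.subgroupOf M ⊔ pPrimeCore 2 M).Normal := by
  rw [← U.sub_S _ hM]
  exact (U.sub _ hM).zc'' (z := ⟨z, hM (U.Z_le hz)⟩) ((U.sub_Z ..).ge hz)
    (fun e => h1 (congrArg Subtype.val e)) fun g _ => mem_centralizer_singleton_iff.2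
      (Subtype.ext (mem_centralizer_singleton_iff.1 (hc g.2)))

theorem c1_normal {z : G} (hz : z ∈ U.Z) (h1 : z ≠ 1) :
    (U.S.subgroupOf C1[z] ⊔ pPrimeCore 2 C1[z]).Normal :=
  U.normal_of_le (U.S_le_C1 hz) hz h1 le_rfl

theorem c1_le {z : G} (hz : z ∈ U.Z) (h1 : z ≠ 1) :
    C1[z] ≤ centralizerPPrimeCore 2 z ⊔ (C1[z] ⊓ N[U.S]) := by
  rw [centralizerPPrimeCore_eq]
  exact le_core_sup_of_normal U.p_S (U.S_le_C1 hz) (U.c1_normal hz h1)

theorem c1_solv {z : G} (hz : z ∈ U.Z) (h1 : z ≠ 1) : Group.IsSolvable C1[z] := by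
  have := U.c1_normal hz h1
  rw [← U.sub_S _ (U.S_le_C1 hz)] at this
  exact sc_solv_of_normal_sup (U.sub _ (U.S_le_C1 hz)).syl this

end UT

end Cfsg.Lib.L34
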