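import Cfsg.Agent.Lib.L34.Cnt

/-!
# Sylow 2-subgroups of type `L₃(4)`: the case of a strongly closed center
-/

set_option autoImplicit false
set_option linter.unusedSectionVars false

namespace Cfsg.Lib.L34
open Subgroup Cfsg.Lib Cfsg.Lib.FT

variable {F : Type*} [Field F] {G : Type*} [Group G] [Finite G]

theorem f_root (hF : Nat.card F = 4) {m : F} (h0 : m ≠ 0) (h1 : m ≠ 1) : m ^ 2 + m + 1 = 0 :=
  mul_left_cancel₀ (sub_ne_zero.2 h1) (by linear_combination f_cube hF h0)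

theorem f_orbit (hF : Nat.card F = 4) {m x y : F} (h0 : m ≠ 0) (h1 : m ≠ 1) (hx : x ≠ 0)
    (hy : y ≠ 0) : ∃ j : ℕ, m ^ j * x = y := by
  have h := f_root hF h0 h1
  rcases f_cases hF h (y / x) with e | e | e | e <;> rw [div_eq_iff hx] at e
  · exact absurd (by simpa using e) hy
  · exact ⟨0, by simp [e]⟩
  · exact ⟨1, by simp [e]⟩
  · exact ⟨2, by linear_combination x * h - e - (m + 1) * x * f_two hF⟩

namespace UT
variable (U : UT F G)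

theorem act_on_A (hA : N[U.A] ≤ N[U.Z]) {n : G} (hn : n ∈ N[U.A]) :
    ∃ n' ∈ N[U.S], ∀ x ∈ U.A, n * x * n⁻¹ = n' * x * n'⁻¹ := by
  obtain ⟨z, hz, hz1⟩ := U.exists_Z
  obtain ⟨c, hc, h1⟩ := (U.sylIn U.S_le_C).exists_mul_mem_normalizer
    (normalizer_le_normalizer_centralizer _ (hA hn))
  obtain ⟨o, ho, k, hk, rfl⟩ := (mem_sup_of_le_normalizer
    (inf_le_left.trans (le_normalizer_piCoreOf _ _))).1 (le_core_sup_of_normal U.p_S U.S_le_C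
      (U.normal_of_le U.S_le_C hz hz1 (centralizer_le_singleton hz)) hc)
  have h2 := mul_mem hk.2 h1
  rw [show k * ((o * k)⁻¹ * n) = o⁻¹ * n by group] at h2
  refine ⟨_, h2, fun x hx => ?_⟩
  have h3 := (mem_normalizer_iff.1 hn x).1 hx
  have h4 : o⁻¹ ∈ N[U.A] := (mul_mem_cancel_right hn).1 (U.NS_le_NA h2)
  have h5 := (U.A_le.trans U.S_le_C).trans (le_normalizer_piCoreOf {2}ᶜ _)
  rw [show o⁻¹ * n * x * (o⁻¹ * n)⁻¹ = o⁻¹ * (n * x * n⁻¹) * o⁻¹⁻¹ by group]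
  generalize n * x * n⁻¹ = y at h3
  have := (CoprimeAct.of_isPGroup U.p_A (isPiSubgroup_compl_singleton_iff.1
    (isPiSubgroup_piCoreOf _ _)) h5).eq_one_of_mem (x := o⁻¹ * y * o⁻¹⁻¹ * y⁻¹)
    (mul_mem ((mem_normalizer_iff.1 h4 y).1 h3) (inv_mem h3)) (by
      rw [inv_inv, mul_assoc, mul_assoc, ← mul_assoc y]
      exact mul_mem (inv_mem ho) ((mem_normalizer_iff.1 (h5 h3) o).1 ho))
  exact (mul_inv_eq_one.1 this).symm

theorem act_fix (hA : N[U.A] ≤ N[U.Z]) {a n : G} (ha : a ∈ U.A) (haZ : a ∉ U.Z) (h : n ∈ C1[a])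
    (hn : n ∈ N[U.A]) : ∃ n' m, U.Act n' 1 m ∧ ∀ x ∈ U.A, n * x * n⁻¹ = n' * x * n'⁻¹ := by
  obtain ⟨n', h1, h2⟩ := U.act_on_A hA hn
  obtain ⟨l, m, h3⟩ := U.exists_act h1
  have h4 := h2 a ha
  obtain ⟨s, c, rfl⟩ := ha
  obtain ⟨d, h5⟩ := h3.s s 0 c
  rw [mem_centralizer_singleton_iff.1 h, mul_inv_cancel_right, h5, U.u_inj] at h4
  obtain rfl : l = 1 := mul_right_cancel₀ (by simpa using haZ) (h4.1.symm.trans (one_mul s).symm)
  exact ⟨n', m, h3, h2⟩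

theorem of_nonsolv (hA : N[U.A] ≤ N[U.Z]) {a : G} (ha : a ∈ U.A) (haZ : a ∉ U.Z)
    (hns : ¬ Group.IsSolvable C1[a]) : ∃ n ∈ C1[a], ∃ n' m, U.Act n' 1 m ∧ m ≠ 1 ∧
      ∀ c, n * U.u 0 0 c * n⁻¹ = U.u 0 0 (m * c) := by
  have hS := U.sylA_C1 ha fun r _ h => haZ (U.nomove hA ha h)
  obtain ⟨n, hn, h1⟩ := SetLike.not_le_iff_exists.1 fun h => hns (sc_solv_of_npc (bg1_18 hS h))
  obtain ⟨n', m, h2, h3⟩ := U.act_fix hA ha haZ hn.1 hn.2
  have h4 : ∀ c, n * U.u 0 0 c * n⁻¹ = U.u 0 0 (m * c) := fun c => by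
    rw [h3 _ (by simp), h2.z, one_mul]
  refine ⟨n, hn.1, n', m, h2, ?_, h4⟩
  rintro rfl
  have h5 : n ^ 2 ∈ C[U.A] := by
    rintro _ ⟨s, c, rfl⟩
    obtain ⟨d, e⟩ := h2.s s 0 c
    rw [← h3 _ (by simp), one_mul, mul_zero] at e
    have e1 : U.u s 0 d = U.u s 0 c * U.u 0 0 (d - c) := by simp [U.mul]
    rw [eq_comm, ← mul_inv_eq_iff_eq_mul, show n ^ 2 * U.u s 0 c * (n ^ 2)⁻¹ =
      n * (n * U.u s 0 c * n⁻¹) * n⁻¹ by rw [sq]; group, e, e1, ← conj_mul, e, h4, U.mul]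
    exact U.u_congr (by simp) (by simp) (by linear_combination (d - c) * U.two)
  have hodd : Odd (C[U.A].relIndex (C1[a] ⊓ N[U.A])) := by
    rw [← Nat.not_even_iff_odd, even_iff_two_dvd]
    exact fun hd => (hS.mono (le_inf hS.le le_normalizer) inf_le_left).not_dvd_relIndex
      (hd.trans (relIndex_dvd_of_le_left _ U.A_le_C))
  have : (C[U.A].subgroupOf (C1[a] ⊓ N[U.A])).Normal :=
    normal_subgroupOf_of_le_normalizer (le_normalizer_centralizer inf_le_right)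
  have h6 : n ^ C[U.A].relIndex (C1[a] ⊓ N[U.A]) ∈ C[U.A] :=
    mem_subgroupOf.1 (pow_index_mem (H := C[U.A].subgroupOf (C1[a] ⊓ N[U.A])) ⟨n, hn⟩)
  obtain ⟨k, hk⟩ := hodd
  rw [hk, pow_succ, pow_mul] at h6
  exact h1 ((mul_mem_cancel_left (pow_mem h5 k)).1 h6)

theorem conj_pow_Z {n : G} {m : F} (h : ∀ c, n * U.u 0 0 c * n⁻¹ = U.u 0 0 (m * c)) (j : ℕ) (c : F) :
    n ^ j * U.u 0 0 c * (n ^ j)⁻¹ = U.u 0 0 (m ^ j * c) := by
  induction j with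
  | zero => simp
  | succ j ih =>
    rw [pow_succ' n, show n * n ^ j * U.u 0 0 c * (n * n ^ j)⁻¹ =
      n * (n ^ j * U.u 0 0 c * (n ^ j)⁻¹) * n⁻¹ by group, ih, h, pow_succ', mul_assoc]

/-- standing hypothesis -/
structure Hyp (D : Set G) : Prop where
  hA : N[U.A] ≤ N[U.Z]
  hB : N[U.B] ≤ N[U.Z]
  k : ∃ k l m, U.Act k l m ∧ l * m = 1 ∧ m ≠ 1
  cj : ∀ d ∈ D, ∀ x, IsConj d x ↔ x ∈ D
  zD : ∀ z ∈ U.Z, z ≠ 1 → z ∈ D

namespace Hyp
variable {U} {D : Set G} (h : U.Hyp D)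
include h

theorem swap : U.swap.Hyp D := by
  obtain ⟨k, l, m, h1, h2, h3⟩ := h.k
  exact ⟨by simpa using h.hB, by simpa using h.hA, ⟨k, m, l, h1.swap, mul_comm l m ▸ h2, by
    rintro rfl; exact h3 (by simpa using h2)⟩, h.cj, by simpa using h.zD⟩

theorem Dg {d : G} (hd : d ∈ D) (g : G) : g * d * g⁻¹ ∈ D := (h.cj d hd _).1 (isConj_iff.2 ⟨g, rfl⟩)

theorem conj (g : G) : (U.conj g).Hyp D := by
  obtain ⟨k, l, m, h1, h2, h3⟩ := h.k
  have e : ∀ x, g * k * g⁻¹ * (g * x * g⁻¹) * (g * k * g⁻¹)⁻¹ = g * (k * x * k⁻¹) * g⁻¹ :=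
    fun x => by group
  refine ⟨?_, ?_, ⟨g * k * g⁻¹, l, m, ⟨h1.l0, h1.m0, fun a b c => ?_, fun c => ?_⟩, h2, h3⟩, h.cj, ?_⟩
  · rw [conj_A, conj_Z, ← conj_normalizer, ← conj_normalizer]; exact map_mono h.hA
  · rw [conj_B, conj_Z, ← conj_normalizer, ← conj_normalizer]; exact map_mono h.hB
  · obtain ⟨d, e1⟩ := h1.s a b c
    exact ⟨d, by rw [conj_u, conj_u, e, e1]⟩
  · rw [conj_u, conj_u, e, h1.z]
  · rintro _ ⟨c, rfl⟩ h4
    rw [conj_u] at h4 ⊢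
    exact h.Dg (h.zD _ (by simp) (by simpa using h4)) g

theorem exZ {d : G} (hd : d ∈ D) : ∃ g, g * d * g⁻¹ ∈ U.Z ∧ g * d * g⁻¹ ≠ 1 := by
  obtain ⟨z, hz, hz1⟩ := U.exists_Z
  obtain ⟨g, rfl⟩ := isConj_iff.1 ((h.cj d hd z).2 (h.zD z hz hz1))
  exact ⟨g, hz, hz1⟩

theorem ord {d : G} (hd : d ∈ D) : d ≠ 1 ∧ d * d = 1 := by
  obtain ⟨g, h1, h2⟩ := h.exZ hd
  have := U.sqA (U.Z_leA h1)
  rw [conj_mul, conj_eq_one_iff] at this
  exact ⟨by simpa using h2, this⟩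

theorem DS {d : G} (hd : d ∈ D) (hS : d ∈ U.S) : d ∈ U.Z := by
  obtain ⟨g, h1, -⟩ := h.exZ hd
  exact U.nomove h.hA (U.mem_A_of_conj h.hB hS (U.Z_leA h1)) h1

theorem flag {a d : G} (ha : a ∈ U.A) (haZ : a ∉ U.Z) {x : G} (hx : IsConj a x) (hd : d ∈ D)
    (hc : d * x = x * d) : ∃ g, x ∈ (U.conj g).A ∧ x ∉ (U.conj g).Z ∧ d ∈ (U.conj g).Z := by
  obtain ⟨k, rfl⟩ := isConj_iff.1 hx
  obtain ⟨r, -, e⟩ := U.syl.exists_conj_le (p_pair (h.ord hd).2 (y := k * a * k⁻¹)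
    (by rw [conj_mul, U.sqA ha]; simp) hc) le_top
  refine ⟨r⁻¹, ?_⟩
  simp only [conj_A, conj_Z, mem_map_conj, inv_inv]
  refine ⟨U.mem_A_of_conj h.hB (g := (r * k)⁻¹) (e (conj_mem_conj (mem_sup_right (mem_zpowers _)) r))
    (by simpa [mul_assoc] using ha), fun h1 => haZ (U.nomove h.hA (g := r * k) ha
      (by simpa [mul_assoc] using h1)),
    h.DS (h.Dg hd r) (e (conj_mem_conj (mem_sup_left (mem_zpowers _)) r))⟩

theorem count {a z : G} (ha : a ∈ U.A) (haZ : a ∉ U.Z) (hns : ¬ Group.IsSolvable C1[a])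
    (hz : z ∈ U.Z) (hz1 : z ≠ 1) : {d | d ∈ D ∧ d * a = a * d}.ncard <
      3 * {d | d ∈ D ∧ d * a = a * d ∧ Odd (orderOf (z * d))}.ncard := by
  have hS := U.sylA_C1 ha fun r _ h1 => haZ (U.nomove h.hA ha h1)
  have : ∀ x : G, ∃ v : F, ∀ s c, U.u s 0 c = x → v = s := fun x => by
    by_cases hx : x ∈ U.A
    · obtain ⟨s, c, rfl⟩ := hx
      exact ⟨s, fun s' c' e => (U.u_inj.1 e).1.symm⟩
    · exact ⟨0, fun s c e => absurd (e ▸ U.uA.2 rfl) hx⟩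
  choose π hπ using this
  replace hπ : ∀ s c, π (U.u s 0 c) = s := fun s c => hπ _ s c rfl
  let φ : U.A.subgroupOf C1[a] →* Multiplicative F := MonoidHom.mk'
    (fun x => Multiplicative.ofAdd (π x.1.1)) (by
      intro x y
      obtain ⟨s, c, e1⟩ := x.2
      obtain ⟨s', c', e2⟩ := y.2
      change Multiplicative.ofAdd (π (x.1.1 * y.1.1)) = _
      rw [show (x.1.1 : G) = U.u s 0 c from e1.symm, show (y.1.1 : G) = U.u s' 0 c' from e2.symm,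
        U.mul, add_zero, hπ, hπ, hπ, ofAdd_add])
  have h1 : ∀ x : U.A.subgroupOf C1[a], MonoidHom.transfer φ x = φ x := fun x => by
    rw [transfer_eq_pow_of_fusion φ (fun x g hg => ?_) x]
    · obtain ⟨k, hk⟩ : Odd (U.A.subgroupOf C1[a]).index :=
        Nat.not_even_iff_odd.1 fun e => hS.not_dvd_relIndex e.two_dvd
      rw [hk, pow_succ, pow_mul, ← map_pow, show x ^ 2 = 1 from
        Subtype.ext (Subtype.ext (by simpa [sq] using U.sqA x.2))]; simp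
    obtain ⟨n, hn, e⟩ := U.fusA (x := x.1.1) hS.le g.2 x.2 hg
    obtain ⟨n', m, h2, h3⟩ := U.act_fix h.hA ha haZ hn.1 hn.2
    change Multiplicative.ofAdd (π (g.1 * x.1.1 * g.1⁻¹)) = Multiplicative.ofAdd (π x.1.1)
    rw [← e, h3 x.1.1 x.2]
    obtain ⟨s, c, e1⟩ := x.2
    obtain ⟨d, e2⟩ := h2.s s 0 c
    rw [show (x.1.1 : G) = U.u s 0 c from e1.symm, e2, mul_zero, hπ, hπ, one_mul]
  generalize MonoidHom.transfer φ = T at h1
  have h2 : ∀ x, x ∈ T.ker.map C1[a].subtype ↔ ∃ hx : x ∈ C1[a], T ⟨x, hx⟩ = 1 := fun x =>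
    ⟨by rintro ⟨x, hx, rfl⟩; exact ⟨x.2, hx⟩, fun ⟨hx, e⟩ => ⟨⟨x, hx⟩, e, rfl⟩⟩
  have h3 : C1[a] ≤ N[T.ker.map C1[a].subtype] := by
    have := le_normalizer_map (H := T.ker) C1[a].subtype
    rwa [normalizer_eq_top, ← MonoidHom.range_eq_map, range_subtype] at this
  have h4 : ¬ Group.IsSolvable (T.ker.map C1[a].subtype) := fun hs => hns (by
    have : Group.IsSolvable T.ker := Group.isSolvable_of_isSolvable_injective
      (f := (T.ker.equivMapOfInjective _ C1[a].subtype_injective).toMonoidHom)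
      (T.ker.equivMapOfInjective _ C1[a].subtype_injective).injective
    exact Group.isSolvable_of_ker_le_range T.ker.subtype T (by simp))
  have h5 := map_subtype_le T.ker
  generalize T.ker.map C1[a].subtype = Y at h2 h3 h4 h5
  have h6 : U.A ⊓ Y = U.Z := by
    ext x
    have k : ∀ hx : x ∈ U.A, x ∈ Y ↔ x ∈ U.Z := by
      rintro ⟨s, c, rfl⟩
      have := h1 ⟨⟨_, hS.le (U.uA.2 rfl : U.u s 0 c ∈ U.A)⟩, U.uA.2 rfl⟩
      simp only [φ, MonoidHom.mk'_apply, hπ] at this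
      simp [h2, this, hS.le (U.uA.2 rfl : U.u s 0 c ∈ U.A)]
    exact ⟨fun hx => (k hx.1).1 hx.2, fun hx => ⟨U.Z_leA hx, (k (U.Z_leA hx)).2 hx⟩⟩
  have h7 := hS.inf_of_le_normalizer h5 h3
  rw [h6] at h7
  obtain ⟨n, hn, n', m, h8, h9, h10⟩ := U.of_nonsolv h.hA ha haZ hns
  have h11 := gw_count h7 (fun _ hv => U.sqA (U.Z_leA hv)) U.card_Z (by
    rintro _ ⟨x, rfl⟩ _ ⟨y, rfl⟩ hx hy
    obtain ⟨j, rfl⟩ := f_orbit U.hF (m := m ^ 2) (x := x) (y := y) (pow_ne_zero 2 h8.m0) (fun e => h9 (by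
      rw [← f_cube U.hF h8.m0, pow_succ, e, one_mul])) (by simpa [U.u_eq_one] using hx)
      (by simpa [U.u_eq_one] using hy)
    refine ⟨_, pow_mem ((h2 (n ^ 2)).2 ⟨pow_mem hn 2, ?_⟩) j, U.conj_pow_Z (U.conj_pow_Z h10 2) j x⟩
    rw [show (⟨n ^ 2, pow_mem hn 2⟩ : C1[a]) = ⟨n, hn⟩ ^ 2 from rfl, map_pow, sq]
    exact congrArg Multiplicative.ofAdd (by rw [← two_mul, U.two, zero_mul])) h4 hz hz1
  have h12 : ∀ d, d ∈ D ∧ d * a = a * d ↔ d ∈ Y ∧ orderOf d = 2 := fun d => by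
    rw [h9_orderOf_eq_two_iff]
    refine ⟨fun hd => ⟨?_, h.ord hd.1⟩, fun hd => ⟨?_, mem_centralizer_singleton_iff.1 (h5 hd.1)⟩⟩
    · obtain ⟨k, hk, e⟩ := hS.exists_conj_le (p_zpowers (h.ord hd.1).2)
        (zpowers_le.2 (mem_centralizer_singleton_iff.2 hd.2))
      exact (mem_normalizer_iff.1 (h3 hk) d).2 (h7.le (h.DS (h.Dg hd.1 k)
        (U.A_le (e (conj_mem_conj (mem_zpowers d) k)))))
    · obtain ⟨k, -, e⟩ := h7.exists_conj_le (p_zpowers hd.2.2) (zpowers_le.2 hd.1)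
      simpa [mul_assoc] using h.Dg (h.zD _ (e (conj_mem_conj (mem_zpowers d) k))
        (by simpa using hd.2.1)) k⁻¹
  simpa only [← and_assoc, h12] using h11

theorem fib {a i : G} (ha : a ∈ U.A) (haZ : a ∉ U.Z) (hi : i ∈ U.Z) (hi1 : i ≠ 1) {β : Set G}
    (hβ : ∀ y ∈ β, ∀ g, g * y * g⁻¹ ∈ β) (hβ2 : ∀ y ∈ β, y * y = 1)
    (hβS : ∀ y ∈ β, y ∈ U.S → y ∈ U.B ∧ y ∉ U.Z) :
    3 * {y | y ∈ β ∧ y * i = i * y ∧ i ∈ zpowers (a * y)}.ncard ≤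
      {y | y ∈ β ∧ y * i = i * y}.ncard := by
  obtain ⟨k, l, m, k1, k2, k3⟩ := h.k
  have hH := U.S_le_C1 hi
  obtain ⟨a, c, rfl⟩ := ha
  obtain ⟨i, rfl⟩ := hi
  have hk : k ∈ C1[U.u 0 0 i] := mem_centralizer_singleton_iff.2 (by
    rw [← mul_inv_eq_iff_eq_mul, k1.z, k2, one_mul])
  obtain ⟨V, f, e1, hN⟩ : ∃ (V : UT F (C1[U.u 0 0 i] ⧸ pPrimeCore 2 C1[U.u 0 0 i]))
      (f : C1[U.u 0 0 i] →* _), (∀ a b c, V.u a b c = f ⟨U.u a b c, hH (U.uS ..)⟩) ∧ ⊤ ≤ N[V.S] := by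
    refine ⟨(U.sub _ hH).bar, QuotientGroup.mk' _, fun _ _ _ => rfl, ?_⟩
    refine UT.zc' _ pPrimeCore_quotient_pPrimeCore (z := (U.sub _ hH).bar.u 0 0 i) (by simp)
      (by simpa [UT.u_eq_one] using hi1) fun g _ => ?_
    obtain ⟨g, rfl⟩ := QuotientGroup.mk'_surjective _ g
    exact mem_centralizer_singleton_iff.2 ((map_mul ..).symm.trans ((congrArg _ (Subtype.ext
      (mem_centralizer_singleton_iff.1 g.2))).trans (map_mul ..)))
  let P : F → Set G := fun s => {y | y ∈ β ∧ ∃ hy : y ∈ C1[U.u 0 0 i], ∃ t, f ⟨y, hy⟩ = V.u 0 s t}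
  have p1 : ∀ s, (P s).ncard ≤ (P (m * s)).ncard := fun s => ncard_conj_le k (by
    rintro y ⟨h1, hy, t, e⟩
    obtain ⟨d, e2⟩ := k1.s 0 s t
    refine ⟨hβ y h1 k, mul_mem (mul_mem hk hy) (inv_mem hk), d, ?_⟩
    rw [mul_zero] at e2
    rw [e1] at e ⊢
    simp only [← e2]
    change f (⟨k, hk⟩ * ⟨y, hy⟩ * ⟨k, hk⟩⁻¹) = f (⟨k, hk⟩ * ⟨_, hH (U.uS ..)⟩ * ⟨k, hk⟩⁻¹)
    simp only [map_mul, e])
  have p2 : ∀ j s, (P s).ncard ≤ (P (m ^ j * s)).ncard := fun j s => by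
    induction j with
    | zero => simp
    | succ j ih => rw [pow_succ', mul_assoc]; exact ih.trans (p1 _)
  simp only [uZ, and_true, ne_eq, U.u_eq_one, true_and] at haZ hi1
  have p3 : {y | y ∈ β ∧ y * U.u 0 0 i = U.u 0 0 i * y ∧ U.u 0 0 i ∈ zpowers (U.u a 0 c * y)} ⊆
      P (i / a) := by
    rintro y ⟨h1, h2, h3⟩
    have hy := mem_centralizer_singleton_iff.2 h2
    obtain ⟨g, hg, h4⟩ := U.conj_into hH hy (hβ2 y h1)
    obtain ⟨s, t, e⟩ := (hβS _ (hβ y h1 g) h4).1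
    obtain ⟨s, t, e⟩ : f ⟨y, hy⟩ ∈ V.B := by
      refine (mem_normalizer_iff.1 (V.NS_le_NB (hN (mem_top (f ⟨g, hg⟩)))) _).2 ⟨s, t, ?_⟩
      rw [e1, ← map_inv, ← map_mul, ← map_mul]
      exact congrArg f (Subtype.ext e)
    refine ⟨h1, hy, t, ?_⟩
    obtain ⟨n, hn⟩ := mem_zpowers_iff.1 h3
    have h5 : (V.u a 0 c * V.u 0 s t) ^ n = V.u 0 0 i := by
      rw [e, e1, e1, ← map_mul, ← map_zpow]
      exact congrArg f (Subtype.ext hn)
    rw [V.mul, add_zero, zero_add] at h5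
    have h6 : V.u 0 0 (a * s) ^ (2 : ℤ) = 1 := by rw [zpow_two, V.u_sq]; simp
    have h7 : V.u 0 0 (a * s) ∈ V.Z := by simp
    rcases Int.even_or_odd' n with ⟨j, rfl | rfl⟩
    · rw [zpow_mul, zpow_two, V.u_sq] at h5
      rcases Int.even_or_odd' j with ⟨j, rfl | rfl⟩
      · rw [zpow_mul, h6, one_zpow, eq_comm, V.u_eq_one] at h5
        exact absurd h5.2.2 hi1
      · rw [zpow_add, zpow_mul, h6, one_zpow, one_mul, zpow_one, V.u_inj] at h5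
        rw [← e, show i / a = s by rw [div_eq_iff haZ, mul_comm, h5.2.2]]
    · rw [zpow_add, zpow_mul, zpow_two, V.u_sq, zpow_one] at h5
      exact absurd (V.uZ.1 ((mul_mem_cancel_left (zpow_mem h7 j)).1 (h5 ▸ V.uZ.2 ⟨rfl, rfl⟩))).1 haZ
  have := f_fin U.hF
  have p4 := cnt_ge (s := {y | y ∈ β ∧ y * U.u 0 0 i = U.u 0 0 i * y}) (t := Set.univ \ {0}) P (k := 1)
    (n := (P (i / a)).ncard) (fun s _ y hy => ⟨hy.1, mem_centralizer_singleton_iff.1 hy.2.1⟩)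
    (fun s _ s' _ y ⟨_, _, _, e⟩ ⟨_, _, _, e'⟩ => (V.u_inj.1 (e.symm.trans e')).2.1) fun s hs => by
      obtain ⟨j, rfl⟩ := f_orbit U.hF k1.m0 k3 (div_ne_zero hi1 haZ) hs.2
      simpa using p2 j _
  rw [Set.ncard_diff_singleton_of_mem (Set.mem_univ _), Set.ncard_univ, U.hF] at p4
  have := Set.ncard_le_ncard p3
  omega

theorem lt {a b : G} (ha : a ∈ U.A) (haZ : a ∉ U.Z) (hb : b ∈ U.B) (hbZ : b ∉ U.Z)
    (hns : ¬ Group.IsSolvable C1[b]) :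
    {d | d ∈ D ∧ d * b = b * d}.ncard < {d | d ∈ D ∧ d * a = a * d}.ncard := by
  obtain ⟨z, hz, hz1⟩ := U.exists_Z
  have Dz := h.zD z hz hz1
  have hb' : b ∈ U.swap.A := by simpa
  have hbZ' : b ∉ U.swap.Z := by simpa
  have b2 : ∀ y ∈ {y | IsConj b y}, y * y = 1 := fun y hy => by
    obtain ⟨g, rfl⟩ := isConj_iff.1 hy
    rw [conj_mul, U.sqB hb]; simp
  have bS : ∀ y ∈ {y | IsConj b y}, y ∈ U.S → y ∈ U.B ∧ y ∉ U.Z := fun y hy h1 => by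
    obtain ⟨g, e⟩ := isConj_iff.1 hy.symm
    obtain ⟨g', e'⟩ := isConj_iff.1 hy
    exact ⟨by simpa using U.swap.mem_A_of_conj (x := y) (g := g) h.swap.hB (by simpa) (e ▸ hb'),
      fun h2 => hbZ (U.nomoveB h.hB hb (e' ▸ h2))⟩
  have bg : ∀ y ∈ {y | IsConj b y}, ∀ g, g * y * g⁻¹ ∈ {y | IsConj b y} := fun y hy g =>
    hy.trans (isConj_iff.2 ⟨g, rfl⟩)
  have h1 := cnt_le (s := {y | IsConj b y}) (t := {d | d ∈ D ∧ d * a = a * d})
    (fun i => {y | y ∈ {y | IsConj b y} ∧ y * i = i * y ∧ i ∈ zpowers (a * y)}) (k := 3)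
    (n := {y | y ∈ {y | IsConj b y} ∧ y * z = z * y}.ncard) (fun y hy => by
      obtain ⟨m, -, h3, h4, h5⟩ := h9_central_invol_of_even (U.sqA ha) (b2 y hy)
        (Nat.not_odd_iff_even.1 fun e => haZ (U.mem_Z_of ha (bS a (hy.trans
          (h9_isConj_of_odd (U.sqA ha) (b2 y hy) e).symm) (U.A_le ha)).1))
      obtain ⟨h6, h7⟩ := h9_orderOf_eq_two_iff.1 h3
      refine ⟨_, ⟨?_, h4.eq⟩, hy, h5.eq.symm, pow_mem (mem_zpowers _) m⟩
      generalize (a * y) ^ m = u at h4 h5 h6 h7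
      obtain ⟨g, rfl⟩ := isConj_iff.1 hy
      obtain ⟨k, -, e⟩ := (U.sylA_C1 ha fun r _ h1 => haZ (U.nomove h.hA ha h1)).exists_conj_le
        (p_zpowers h7) (zpowers_le.2 (mem_centralizer_singleton_iff.2 h4.eq))
      obtain ⟨l, -, e'⟩ := ((U.sylB_C1 h.hB hb hbZ).map_conj g).exists_conj_le (p_zpowers h7)
        (zpowers_le.2 (by rw [conj_centralizer_singleton]; exact mem_centralizer_singleton_iff.2 h5.eq))
      have h8 := mem_map_conj.1 (e' (conj_mem_conj (mem_zpowers u) l))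
      have h9 := U.mem_A_of_conj h.hB (g := k * l⁻¹ * g) (U.B_le h8)
        (by simpa [mul_assoc] using e (conj_mem_conj (mem_zpowers u) k))
      simpa [mul_assoc] using h.Dg (h.zD _ (U.mem_Z_of h9 h8) fun e => h6 (by
        rwa [show g⁻¹ * (l * u * l⁻¹) * g = g⁻¹ * l * u * (g⁻¹ * l)⁻¹ by group, conj_eq_one_iff] at e))
        (l⁻¹ * g))
    fun i hi => by
      obtain ⟨g, h2, h3, h4⟩ := h.flag ha haZ (IsConj.refl a) hi.1 hi.2
      refine ((h.conj g).fib h2 h3 h4 (h.ord hi.1).1 bg b2 fun y hy h5 => ?_).trans ?_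
      · simpa only [conj_B, conj_Z, mem_map_conj] using bS _ (by simpa using bg y hy g⁻¹)
          (by simpa only [conj_S, mem_map_conj] using h5)
      obtain ⟨k, rfl⟩ := isConj_iff.1 ((h.cj i hi.1 z).2 Dz)
      exact ncard_conj_le k fun y hy => ⟨bg y hy.1 k, by rw [conj_mul, conj_mul, hy.2]⟩
  have h2 := cnt_ge (s := {y | IsConj b y}) (t := {y | y ∈ {y | IsConj b y} ∧ y * z = z * y})
    (fun y => (y * ·) '' {d | d ∈ D ∧ d * y = y * d ∧ Odd (orderOf (z * d))}) (k := 3)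
    (n := {d | d ∈ D ∧ d * b = b * d}.ncard + 1) (by
      rintro y hy _ ⟨d, hd, rfl⟩
      obtain ⟨g, h2, h3, h4⟩ := h.swap.flag hb' hbZ' hy.1 hd.1 hd.2.1
      obtain ⟨s, -, e⟩ := (U.swap.conj g).exists_conj_coset h2 h3 h4
      exact Set.mem_of_eq_of_mem e.symm (bg y hy.1 s)) (by
      have k : ∀ {y d : G}, y * y = 1 → y * z = z * y → d * y = y * d →
          Odd (orderOf (z * d)) → (z * (y * d)) ^ orderOf (z * d) = y := by
        intro y d h1 h2 h3 ⟨j, h4⟩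
        have : Commute y (z * d) := (show Commute y z from h2).mul_right h3.symm
        rw [← mul_assoc, ← h2, mul_assoc, this.mul_pow, pow_orderOf_eq_one, h4, pow_succ, pow_mul, sq,
          h1]; simp
      rintro y hy y' hy' _ ⟨d, hd, rfl⟩ ⟨d', hd', e⟩
      have e1 := k (b2 y hy.1) hy.2 hd.2.1 hd.2.2
      have e2 := k (b2 y' hy'.1) hy'.2 hd'.2.1 hd'.2.2
      have k2 : ∀ {y : G} {n}, y * y = 1 → Odd n → y ^ n = y := by
        rintro y _ h1 ⟨j, rfl⟩; rw [pow_succ, pow_mul, sq, h1]; simp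
      rw [← k2 (b2 y hy.1) hd'.2.2, ← k2 (b2 y' hy'.1) hd.2.2, ← e1, ← e2, ← pow_mul, ← pow_mul,
        mul_comm (orderOf _), show y' * d' = y * d from e])
    fun y hy => by
      obtain ⟨g, h2, h3, h4⟩ := h.swap.flag hb' hbZ' hy.1 Dz hy.2.symm
      obtain ⟨k, rfl⟩ := isConj_iff.1 hy.1
      rw [Set.ncard_image_of_injective _ (mul_right_injective _)]
      refine lt_of_le_of_lt (ncard_conj_le k fun d hd => ?_)
        ((h.swap.conj g).count h2 h3 (by rwa [← conj_centralizer_singleton, isSolvable_conj_iff])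
          h4 hz1)
      exact ⟨h.Dg hd.1 k, by rw [conj_mul, conj_mul, hd.2]⟩
  have h3 : 0 < {y | y ∈ {y | IsConj b y} ∧ y * z = z * y}.ncard :=
    (Set.ncard_pos (Set.toFinite _)).2 ⟨b, IsConj.refl b, U.commZ (U.B_le hb) hz⟩
  nlinarith

end Hyp

theorem normal_of_solv (hO : pPrimeCore 2 G = ⊥) (hA : N[U.A] ≤ N[U.Z]) (hB : N[U.B] ≤ N[U.Z])
    (h : ∀ a ∈ U.A, a ∉ U.Z → Group.IsSolvable C1[a]) : ⊤ ≤ N[U.A] := by
  obtain ⟨a, ha, haZ⟩ := U.exists_A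
  obtain ⟨z, hz, hz1⟩ := U.exists_Z
  have := (U.sclA hB).normal_sup U.eaA (by rw [U.card_A]; norm_num) (fun e he h1 =>
    isPConstrained_of_isSolvable (by
      by_cases h2 : e ∈ U.Z
      exacts [U.c1_solv h2 h1, h e he h2])) ha (U.Z_leA hz) (fun e => haZ (e ▸ one_mem _)) hz1
    fun e => by
      obtain ⟨g, rfl⟩ := isConj_iff.1 e
      exact haZ (U.nomove hA ha hz)
  rw [oddCore, hO, sup_bot_eq] at this
  exact (normalizer_eq_top _).ge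

theorem case_one' (hO : pPrimeCore 2 G = ⊥) (hA : N[U.A] ≤ N[U.Z]) (hB : N[U.B] ≤ N[U.Z]) :
    ⊤ ≤ N[U.A] ∨ ⊤ ≤ N[U.B] := by
  by_cases h1 : ∀ a ∈ U.A, a ∉ U.Z → Group.IsSolvable C1[a]
  · exact .inl (U.normal_of_solv hO hA hB h1)
  by_cases h2 : ∀ a ∈ U.swap.A, a ∉ U.swap.Z → Group.IsSolvable C1[a]
  · exact .inr (U.swap_A ▸ U.swap.normal_of_solv hO (by simpa) (by simpa) h2)
  push Not at h1 h2
  obtain ⟨a, ha, haZ, h1⟩ := h1
  obtain ⟨b, hb, hbZ, h2⟩ := h2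
  obtain ⟨n, -, k, m, h3, h4, h5⟩ := U.of_nonsolv hA ha haZ h1
  obtain ⟨-, -, k', l, h6, h7, -⟩ := U.swap.of_nonsolv (by simpa) hb hbZ h2
  have h8 : U.Act k' l 1 := by
    refine ⟨h6.m0, h6.l0, fun a b c => ?_, fun c => ?_⟩
    · obtain ⟨d, e⟩ := h6.s b a (c - b * a)
      exact ⟨_, by simpa [swap] using e⟩
    · simpa [swap] using h6.z c
  have h : U.Hyp {d | IsConj (U.u 0 0 1) d} := by
    refine ⟨hA, hB, ?_, fun d hd x => ⟨hd.trans, hd.symm.trans⟩, ?_⟩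
    · have : (l * m - 1) * (l * l * m - 1) = 0 := by
        linear_combination m ^ 2 * f_cube U.hF h6.m0 - m * f_root U.hF h6.m0 h7 +
          f_root U.hF h3.m0 h4
      rcases mul_eq_zero.1 this with e | e
      · exact ⟨_, _, _, h8.mul h3, by linear_combination e, by simpa⟩
      · exact ⟨_, _, _, (h8.mul h8).mul h3, by linear_combination e, by simpa⟩
    · rintro _ ⟨c, rfl⟩ hc
      obtain ⟨j, rfl⟩ := f_orbit U.hF h3.m0 h4 one_ne_zero (y := c) (by simpa [U.u_eq_one] using hc)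
      exact isConj_iff.2 ⟨_, U.conj_pow_Z h5 j 1⟩
  exact absurd (h.lt ha haZ (by simpa using hb) (by simpa using hbZ) h2)
    (h.swap.lt hb hbZ (by simpa) (by simpa) h1).not_gt

theorem case_one (hO : pPrimeCore 2 G = ⊥) (hA : N[U.A] ≤ N[U.Z]) (hB : N[U.B] ≤ N[U.Z]) :
    Emb F G := (U.case_one' hO hA hB).elim (U.emb_of_normalA hO) (U.emb_of_normal hO)

end UT

end Cfsg.Lib.L34
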