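import Cfsg.Agent.Lib.L34.Two
import Cfsg.Agent.Lib.Big.CoreKill

/-!
# Sylow 2-subgroups of type `L₃(4)`: the projective plane
-/

set_option autoImplicit false
set_option linter.unusedSectionVars false

namespace Cfsg.Lib.L34
open Subgroup Cfsg.Lib Cfsg.Lib.FT

variable {F : Type*} [Field F] {G : Type*} [Group G] [Finite G]

/-- conjugate subgroups -/
def Cj (H p : Subgroup G) : Prop := ∃ g : G, p = g •ᶜ H

/-- incidence -/
def Inc (p l : Subgroup G) : Prop := ∃ z ∈ p, z ∈ l ∧ z ≠ 1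

theorem Cj.refl (H : Subgroup G) : Cj H H := ⟨1, (map_conj_one H).symm⟩

theorem Cj.conj {H p : Subgroup G} (h : Cj H p) (g : G) : Cj H (g •ᶜ p) := by
  obtain ⟨x, rfl⟩ := h
  exact ⟨g * x, conj_conj _ _ _⟩

theorem Cj.symm {H p : Subgroup G} (h : Cj H p) : Cj p H := by
  obtain ⟨x, rfl⟩ := h
  exact ⟨x⁻¹, (map_conj_inv_map_conj _ _).symm⟩

theorem Cj.trans {H p q : Subgroup G} (h : Cj H p) (h' : Cj p q) : Cj H q := by
  obtain ⟨x, rfl⟩ := h'
  exact h.conj x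

theorem Inc.symm {p l : Subgroup G} (h : Inc p l) : Inc l p :=
  let ⟨z, h1, h2, h3⟩ := h; ⟨z, h2, h1, h3⟩

theorem Inc.conj {p l : Subgroup G} (h : Inc p l) (g : G) : Inc (g •ᶜ p) (g •ᶜ l) :=
  let ⟨_, h1, h2, h3⟩ := h; ⟨_, conj_mem_conj h1 g, conj_mem_conj h2 g, by simpa using h3⟩

theorem inc_conj {p l : Subgroup G} (g : G) : Inc (g •ᶜ p) (g •ᶜ l) ↔ Inc p l :=
  ⟨fun h => by simpa only [map_conj_inv_map_conj] using h.conj g⁻¹, fun h => h.conj g⟩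

theorem odd_of_no_invol {X : Subgroup G} (h : ∀ z ∈ X, z * z = 1 → z = 1) :
    ¬ 2 ∣ Nat.card X := fun hd => by
  obtain ⟨z, hz⟩ := exists_prime_orderOf_dvd_card' (G := X) 2 hd
  rw [← orderOf_coe, h9_orderOf_eq_two_iff] at hz
  exact hz.1 (h z z.2 hz.2)

namespace UT
variable (U : UT F G)

theorem inc : Inc U.A U.B := let ⟨z, h1, h2⟩ := U.exists_Z; ⟨z, U.Z_leA h1, U.Z_leB h1, h2⟩

theorem exZ (hA : ¬ N[U.A] ≤ N[U.Z]) (hB : ¬ N[U.B] ≤ N[U.Z]) {t : G} (h : t * t = 1) :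
    ∃ g, t ∈ (U.conj g).Z := by
  obtain ⟨m, -, h1⟩ := U.conj_into le_top (mem_top t) h
  obtain ⟨k, hk⟩ : ∃ k, k * (m * t * m⁻¹) * k⁻¹ ∈ U.Z := by
    rcases U.invol h1 (by rw [conj_mul, h]; simp) with h2 | h2
    exacts [(U.spreadA hA h2).imp fun _ h => h.2, (U.spreadB hB h2).imp fun _ h => h.2]
  exact ⟨(k * m)⁻¹, by rw [conj_Z, mem_map_conj]; simpa [mul_assoc] using hk⟩

/-- a flag -/
structure Pl : Prop where
  hA : ¬ N[U.A] ≤ N[U.Z]
  hB : ¬ N[U.B] ≤ N[U.Z]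
  c1 : ∀ z ∈ U.Z, z ≠ 1 → C1[z] ≤ N[U.S]

theorem pl (hO : pPrimeCore 2 G = ⊥) (hA : ¬ N[U.A] ≤ N[U.Z]) (hB : ¬ N[U.B] ≤ N[U.Z]) : U.Pl := by
  refine ⟨hA, hB, fun z hz h1 => (U.c1_le hz h1).trans (sup_le ?_ inf_le_right)⟩
  rw [Big.core_eq_bot_of_e8 hO (fun t ht => ?_) (fun t ht => ?_)
    (h9_orderOf_eq_two_iff.2 ⟨h1, U.sqA (U.Z_leA hz)⟩)]
  · exact bot_le
  all_goals
    obtain ⟨h2, h3⟩ := h9_orderOf_eq_two_iff.1 ht
    obtain ⟨g, hg⟩ := U.exZ hA hB h3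
  · exact isPConstrained_of_isSolvable ((U.conj g).c1_solv hg h2)
  · have := (U.conj g).A_le_C1 ((U.conj g).Z_leA hg)
    refine not_pRankLE_iff.2 ⟨(U.conj g).A.subgroupOf _, (elemAb_subgroupOf_iff this).2
      (U.conj g).eaA, ?_⟩
    rw [Nat.card_congr (subgroupOfEquivOfLe this).toEquiv, card_A]; norm_num

theorem compl {X : Subgroup G} (h : X ≤ U.B) (h4 : Nat.card X = 4) (h0 : ¬ Inc X U.Z) (s : F) :
    ∃ t, U.u 0 s t ∈ X := by
  have := f_fin U.hF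
  choose β γ e using fun x : X => h x.2
  obtain ⟨x, rfl⟩ := ((Nat.bijective_iff_injective_and_card β).2 ⟨fun x y e1 => by_contra fun hne =>
    h0 ⟨_, mul_mem x.2 (inv_mem y.2), by
      rw [← e, ← e, e1, U.u_inv, U.mul, uZ]; exact ⟨by simp, by linear_combination β y * U.two⟩,
      fun e2 => hne (Subtype.ext (mul_inv_eq_one.1 e2))⟩, by rw [h4, U.hF]⟩).2 s
  exact ⟨γ x, e x ▸ x.2⟩

namespace Pl
variable {U} (h : U.Pl)
include h

theorem swap : U.swap.Pl := ⟨by simpa using h.hB, by simpa using h.hA, by simpa using h.c1⟩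

theorem conj (g : G) : (U.conj g).Pl := by
  refine ⟨?_, ?_, ?_⟩
  · rw [conj_A, conj_Z, ← conj_normalizer, ← conj_normalizer, conj_le_conj_iff]; exact h.hA
  · rw [conj_B, conj_Z, ← conj_normalizer, ← conj_normalizer, conj_le_conj_iff]; exact h.hB
  · rintro _ ⟨c, rfl⟩ h1
    rw [conj_u] at h1 ⊢
    rw [conj_S, ← conj_normalizer, ← conj_centralizer_singleton]
    exact map_mono (h.c1 _ (by simp) (by simpa using h1))

theorem le_S {z : G} (hz : z ∈ U.Z) (h1 : z ≠ 1) {P : Subgroup G} (hP : IsPGroup 2 P)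
    (h2 : P ≤ C1[z]) : P ≤ U.S := U.syl.le_of_le_normalizer hP le_top (h2.trans (h.c1 z hz h1))

theorem NZ_le : N[U.Z] ≤ N[U.S] := fun n hn => by
  obtain ⟨z, hz, h1⟩ := U.exists_Z
  exact mem_N_of_le (h.le_S hz h1 (U.p_S.map _) ((map_conj_le_of_mem_normalizer U.S_le_C
    (normalizer_le_normalizer_centralizer _ hn)).trans (centralizer_le_singleton hz)))

theorem uniq {p p' : Subgroup G} (hp : Cj U.A p) (hp' : Cj U.A p') {z : G} (h1 : z ∈ p)
    (h2 : z ∈ p') (h3 : z ≠ 1) : p = p' := by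
  have k : ∀ {p g}, Cj U.A p → z ∈ p → z ∈ (U.conj g).Z → p = (U.conj g).A := by
    rintro _ g ⟨x, rfl⟩ h1 h4
    have := (U.conj g).wc (g := x * g⁻¹) ((h.conj g).le_S h4 h3 ((U.conj g).p_A.map _) (by
      rw [conj_A, conj_conj, inv_mul_cancel_right]; simpa using (U.conj x).A_le_C1 (by simpa)))
    rw [← conj_eq_iff_mem_normalizer.2 this, conj_A, conj_conj, inv_mul_cancel_right]
  obtain ⟨g, hg⟩ := U.exZ h.hA h.hB (t := z) (by
    obtain ⟨x, rfl⟩ := hp; exact (U.conj x).sqA (by simpa))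
  rw [k hp h1 hg, k hp' h2 hg]

theorem uniqB {p p' : Subgroup G} (hp : Cj U.B p) (hp' : Cj U.B p') {z : G} (h1 : z ∈ p)
    (h2 : z ∈ p') (h3 : z ≠ 1) : p = p' := h.swap.uniq (by simpa) (by simpa) h1 h2 h3

omit h in
theorem sq {p : Subgroup G} (hp : Cj U.A p) {z : G} (h1 : z ∈ p) : z * z = 1 := by
  obtain ⟨x, rfl⟩ := hp; exact (U.conj x).sqA (by simpa)

theorem flag {p l : Subgroup G} (hp : Cj U.A p) (hl : Cj U.B l) (hi : Inc p l) :
    ∃ g, (U.conj g).A = p ∧ (U.conj g).B = l := by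
  obtain ⟨z, h1, h2, h3⟩ := hi
  obtain ⟨g, hg⟩ := U.exZ h.hA h.hB (sq hp h1)
  exact ⟨g, h.uniq ⟨g, U.conj_A g⟩ hp ((U.conj g).Z_leA hg) h1 h3,
    h.uniqB ⟨g, U.conj_B g⟩ hl ((U.conj g).Z_leB hg) h2 h3⟩

theorem le_of_inc {p l : Subgroup G} (hp : Cj U.A p) (hl : Cj U.B l) (hi : Inc p l) : l ≤ N[p] := by
  obtain ⟨g, rfl, rfl⟩ := h.flag hp hl hi
  exact (U.conj g).B_le.trans (U.conj g).S_le_NA

theorem le_of_inc' {p l : Subgroup G} (hp : Cj U.A p) (hl : Cj U.B l) (hi : Inc p l) : p ≤ N[l] :=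
  h.swap.le_of_inc (by simpa) (by simpa) hi.symm

theorem inc_of_mem {q l : Subgroup G} (hq : Cj U.A q) (hl : Cj U.B l) {z : G} (h1 : z ∈ l)
    (h2 : z ≠ 1) (h3 : z ∈ N[q]) : Inc q l := by
  obtain ⟨x, rfl⟩ := hq
  have h4 := sq (U := U.swap) (by simpa) h1
  obtain ⟨m, hm, e⟩ := (U.conj x).conj_into (M := N[x •ᶜ U.A]) (by simpa using (U.conj x).S_le_NA)
    h3 h4
  rcases (U.conj x).invol e (by rw [conj_mul, h4]; simp) with h5 | h5
  · exact ⟨z, (mem_normalizer_iff.1 hm z).2 (by simpa using h5), h1, h2⟩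
  · rw [← inc_conj m, conj_eq_iff_mem_normalizer.2 hm, h.uniqB (hl.conj m) ⟨x, U.conj_B x⟩
      (conj_mem_conj h1 m) h5 (by simpa using h2), ← conj_A]
    exact (U.conj x).inc

theorem invC {z t : G} (hz : z ∈ U.Z) (h1 : z ≠ 1) (h2 : t * t = 1) (h3 : t * z = z * t) :
    t ∈ U.A ∨ t ∈ U.B := U.invol (h.le_S hz h1 (p_zpowers h2)
      (zpowers_le.2 (mem_centralizer_singleton_iff.2 h3)) (mem_zpowers t)) h2

theorem uniq_line {p p' l l' : Subgroup G} (hp : Cj U.A p) (hp' : Cj U.A p') (hl : Cj U.B l)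
    (hl' : Cj U.B l') (h1 : Inc p l) (h2 : Inc p' l) (h3 : Inc p l') (h4 : Inc p' l') :
    p = p' ∨ l = l' := by
  obtain ⟨z, z1, z2, z3⟩ := h3
  obtain ⟨g, rfl, rfl⟩ := h.flag hp' hl h2
  obtain ⟨u, hu, hu1⟩ := (bot_or_exists_ne_one _).resolve_left (pg_inf_centralizer_ne_bot
    (U.conj g).p_Z (p_zpowers (sq hp z1)) (zpowers_le.2 ((U.conj g).NAB_le
      ⟨h.le_of_inc hp' hl' h4 z2, h.le_of_inc' hp hl h1 z1⟩)) fun e => by
        simpa [e] using (U.conj g).card_Z)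
  rcases (h.conj g).invC hu.1 hu1 (sq hp z1) (hu.2 z (mem_zpowers z)) with h6 | h6
  exacts [Or.inl (h.uniq hp hp' z1 h6 z3), Or.inr (h.uniqB hl hl' h6 z2 z3)]

theorem exists_other : ∃ l, Cj U.B l ∧ Inc U.A l ∧ U.B ≠ l := by
  obtain ⟨n, h1, h2⟩ := SetLike.not_le_iff_exists.1 h.hA
  refine ⟨_, ⟨n, rfl⟩, ?_, fun e => h2 (U.NAB_le ⟨h1, conj_eq_iff_mem_normalizer.1 e.symm⟩)⟩
  simpa only [conj_eq_iff_mem_normalizer.2 h1] using U.inc.conj n

theorem inverted {x s t : G} (ho : Odd (orderOf x)) (hs : s * s = 1) (h1 : s * x * s⁻¹ = x⁻¹)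
    (ht : t * t = 1) (ht1 : t ≠ 1) (hc : t * x = x * t) : x = 1 := by
  have hn : s ∈ N[C1[x]] := pg_mem_normalizer_of_conj_mem fun y hy => by
    have := (conj_centralizer_singleton s x).le (conj_mem_conj hy s)
    rw [h1, mem_centralizer_singleton_iff] at this
    exact mem_centralizer_singleton_iff.2 (Commute.inv_right_iff.1 this)
  obtain ⟨P, hP, hs'⟩ := exists_isSylowIn_ge (K := C1[x] ⊔ zpowers s) (p_zpowers hs) le_sup_right
  have h2 := hP.inf_of_le_normalizer le_sup_left (sup_le le_normalizer (zpowers_le.2 hn))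
  obtain ⟨y, hy, y2, -⟩ := exists_orderOf_eq_mem_inf_centralizer (h2.isPGroup.to_le inf_le_left)
    (pg_inf_centralizer_ne_bot h2.isPGroup (p_zpowers hs) (le_normalizer_inf
      (hs'.trans le_normalizer) (zpowers_le.2 hn)) (h2.ne_bot (by
        rw [← h9_orderOf_eq_two_iff.2 ⟨ht1, ht⟩]
        exact orderOf_dvd_natCard _ (mem_centralizer_singleton_iff.2 hc))))
  obtain ⟨y1, y2⟩ := h9_orderOf_eq_two_iff.1 y2
  obtain ⟨g, hg⟩ := U.exZ h.hA h.hB y2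
  have h3 := (h.conj g).le_S hg y1 (p_zpowers hs) (zpowers_le.2 (mem_centralizer_singleton_iff.2
    (hy.2 s (mem_zpowers s)))) (mem_zpowers s)
  have h4 := (mem_normalizer_iff.1 ((h.conj g).c1 y hg y1 (mem_centralizer_singleton_iff.2
    (mem_centralizer_singleton_iff.1 hy.1.2).symm)) s).1 h3
  have h5 := Bender.mem_of_odd_of_sq ho (x := x) (O := (U.conj g).S) (by
    have := mul_mem h4 (inv_mem h3)
    rwa [mul_assoc, mul_assoc, ← mul_assoc s, ← conj_inv, h1, inv_inv] at this)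
  by_contra h6
  obtain ⟨k, hk⟩ := IsPGroup.iff_orderOf.1 (U.conj g).p_S ⟨x, h5⟩
  rw [← orderOf_coe] at hk
  rcases k with _ | k
  · exact h6 (orderOf_eq_one_iff.1 hk)
  · exact absurd ho (by rw [hk, pow_succ]; simp)

theorem meet_aux {l : Subgroup G} (hl : Cj U.B l) : ∃ p, Cj U.A p ∧ Inc p U.B ∧ Inc p l := by
  by_contra! hh
  have h0 := Cj.refl U.B
  have sqB : ∀ {l z}, Cj U.B l → z ∈ l → z * z = 1 := fun h1 h2 => sq (U := U.swap) (by simpa) h2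
  have k1 : ∀ u ∈ U.B, u ≠ 1 → ∀ u' ∈ l, u' ≠ 1 →
      ∃ s : G, s * s = 1 ∧ s * u * s⁻¹ = u' ∧ s •ᶜ U.B = l ∧ s •ᶜ l = U.B := by
    intro u hu hu1 u' hu' hu1'
    rcases Nat.even_or_odd (orderOf (u * u')) with he | ho
    · obtain ⟨m, -, h2, c1, c2⟩ := h9_central_invol_of_even (U.sqB hu) (sqB hl hu') he
      obtain ⟨h3, h4⟩ := h9_orderOf_eq_two_iff.1 h2
      obtain ⟨g, hg⟩ := U.exZ h.hA h.hB h4
      have k : ∀ {p v}, Cj U.B p → v ∈ p → v ≠ 1 → Commute ((u * u') ^ m) v →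
          Inc (U.conj g).A p := by
        intro p v hp hv hv1 c
        rcases (h.conj g).invC hg h3 (sqB hp hv) c.symm.eq with h6 | h6
        exacts [⟨v, h6, hv, hv1⟩, h.uniqB ⟨g, U.conj_B g⟩ hp h6 hv hv1 ▸ (U.conj g).inc]
      exact absurd (k hl hu' hu1' c2) (hh _ ⟨g, U.conj_A g⟩ (k h0 hu hu1 c1))
    obtain ⟨k, hk⟩ := h9_conj_of_odd (U.sqB hu) (sqB hl hu') ho
    have e1 : (u * u') ^ k * u * ((u * u') ^ k * u) = 1 := by
      have := h9_conj_pow_of_inv (h9_invol_inverts_left (U.sqB hu) (sqB hl hu')) k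
      rw [inv_eq_of_mul_eq_one_right (U.sqB hu)] at this
      rw [mul_assoc, ← mul_assoc u, this, mul_inv_cancel]
    have e2 : (u * u') ^ k * u * u * ((u * u') ^ k * u)⁻¹ = u' := Eq.trans (by group) hk
    have e3 := h.uniqB (h0.conj _) hl (e2 ▸ conj_mem_conj hu _) hu' hu1'
    exact ⟨_, e1, e2, e3, by rw [← e3, conj_conj, e1, map_conj_one]⟩
  have k2 : ∀ x ∈ N[U.B] ⊓ N[l], Odd (orderOf x) := fun x hx => Nat.not_even_iff_odd.1 fun e =>
    odd_of_no_invol (X := N[U.B] ⊓ N[l]) (fun z hz h2 => by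
      by_contra h1
      obtain ⟨g, hg⟩ := U.exZ h.hA h.hB h2
      have k : ∀ {m}, Cj U.B m → z ∈ N[m] → Inc (U.conj g).A m := fun hm h3 =>
        (h.swap.inc_of_mem (by simpa) (by simpa using ⟨g, rfl⟩) ((U.conj g).Z_leA hg) h1 h3).symm
      exact hh _ ⟨g, U.conj_A g⟩ (k h0 hz.1) (k hl hz.2)) (e.two_dvd.trans (orderOf_dvd_natCard _ hx))
  obtain ⟨u, hu, hu1⟩ : ∃ u ∈ l, u ≠ 1 := by
    obtain ⟨x, rfl⟩ := hl
    obtain ⟨z, -, h1, h2⟩ := (U.conj x).inc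
    exact ⟨z, by simpa using h1, h2⟩
  obtain ⟨e, he⟩ := U.exists_line h.hB
  have z1 : ∀ c, c ≠ 0 → U.w e 0 c ≠ 1 := fun c hc => by simpa [U.w_eq_one]
  obtain ⟨s, ss, s0, s1, s2⟩ := k1 _ (U.w_mem e 0 1) (z1 1 one_ne_zero) u hu hu1
  have k3 : ∀ v ∈ U.B, v ≠ 1 → ∃ y ∈ N[U.B] ⊓ N[l], s * y * s⁻¹ = y⁻¹ ∧
      y * U.w e 0 1 * y⁻¹ = v := by
    intro v hv hv1
    obtain ⟨t, tt, e, t1, t2⟩ := k1 v hv hv1 u hu hu1
    refine ⟨t * s, ⟨conj_eq_iff_mem_normalizer.1 (by rw [← conj_conj, s1, t2]),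
      conj_eq_iff_mem_normalizer.1 (by rw [← conj_conj, s2, t1])⟩, by
        rw [mul_inv_rev, inv_eq_of_mul_eq_one_right tt, inv_eq_of_mul_eq_one_right ss, mul_assoc,
          mul_assoc, ss, mul_one], ?_⟩
    rw [show ∀ x, t * s * x * (t * s)⁻¹ = t * (s * x * s⁻¹) * t⁻¹ from fun x => by group, s0, ← e,
      show t * (t * v * t⁻¹) * t⁻¹ = (t * t) * v * (t * t)⁻¹ by group, tt]; simp
  have wZ : ∀ {x y}, U.w e x y ∈ U.Z ↔ x = 0 := by simp [w]
  have ti : ∀ {n c}, n ∈ N[U.B] → c ≠ 0 → n * U.w e 0 c * n⁻¹ ∈ U.Z → n ∈ N[U.Z] := by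
    intro n c h1 h2 h3
    simpa using U.swap.ti (n := n) (z := U.w e 0 c) (by simpa) (by simpa using wZ.2 rfl) (z1 c h2)
      (by simpa)
  obtain ⟨ω, hω⟩ := f_om U.hF
  have ω0 : ω ≠ 0 := by rintro rfl; simp at hω
  have ω1 : ω ≠ 1 := by rintro rfl; exact one_ne_zero (α := F) (by linear_combination hω - U.two)
  obtain ⟨x, hx, x1, x2⟩ := k3 _ (U.w_mem e 0 ω) (z1 ω ω0)
  obtain ⟨p, q, r, t, hM⟩ := U.lin_of_line he hx.1
  obtain ⟨rfl, rfl⟩ : q = 0 ∧ t = ω := by simpa [hM, U.w_inj] using x2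
  have hp : p + t ≠ 0 := fun e1 => by
    obtain ⟨a, m, h1⟩ := U.exists_act (h.NZ_le (ti hx.1 one_ne_zero (x2 ▸ wZ.2 rfl)))
    have h2 : t = a * m := by simpa [w, h1.z, U.u_inj, eq_comm] using x2
    obtain ⟨d, h3⟩ := h1.s 0 1 e
    have h4 := hM 1 0
    simp only [w, one_pow, mul_one, zero_add, h3, U.u_inj] at h4
    have h5 : m = t := by linear_combination h4.2.1 + e1 - t * U.two
    obtain rfl : a = 1 := mul_right_cancel₀ ω0 (by rw [one_mul, ← h5, ← h2, h5])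
    obtain ⟨d, h6⟩ := h1.s 1 0 0
    have h7 : m + 1 ≠ 0 := fun e => ω1 (by linear_combination e - h5 - U.two)
    have h8 : U.u 1 0 (d / (m + 1)) = U.u 1 0 0 * U.u 0 0 (d / (m + 1)) := by simp [U.mul]
    have := h.inverted (k2 x hx) ss x1 (t := U.u 1 0 (d / (m + 1))) (U.sqA (by simp))
      (by simp [U.u_eq_one]) (by
        rw [eq_comm, ← mul_inv_eq_iff_eq_mul]
        conv_lhs => rw [h8, ← conj_mul, h6, h1.z, U.mul]
        exact U.u_congr (by simp) (by simp) (by field_simp; linear_combination (d * m) * U.two))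
    rw [this] at x2
    exact ω1 (by simpa [U.w_inj, eq_comm] using x2)
  obtain ⟨y, hy, -, y2⟩ := k3 _ (U.w_mem e (p + t) r) (by simp [U.w_eq_one, hp])
  obtain ⟨a, b, c, d, hY⟩ := U.lin_of_line he hy.1
  obtain ⟨rfl, rfl⟩ : b = p + t ∧ d = r := by simpa [hY, U.w_inj] using y2
  have hx' := mul_mem (mul_mem (inv_mem hy) hx) hy
  obtain ⟨p', q', r', t', hM'⟩ := U.lin_of_line he hx'.1
  have cj : ∀ g k v : G, g * k * v * (g * k)⁻¹ = g * (k * v * k⁻¹) * g⁻¹ := fun g k v => by group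
  have e1 : ∀ v, y * (y⁻¹ * x * y * v * (y⁻¹ * x * y)⁻¹) * y⁻¹ = x * (y * v * y⁻¹) * x⁻¹ :=
    fun v => by group
  obtain ⟨rfl, rfl⟩ : q' = 0 ∧ t' = p := by
    have := e1 (U.w e 0 1)
    rw [y2, hM, show U.w e (p * (p + t) + 0 * d) (d * (p + t) + t * d) = y * U.w e 0 p * y⁻¹ by
      rw [hY, U.w_inj]; exact ⟨by ring, by linear_combination d * t * U.two⟩, hM'] at this
    simpa [U.w_inj] using this
  generalize y⁻¹ * x * y = x' at hx' hM' e1
  have p0 : t' ≠ 0 := fun e0 => z1 1 one_ne_zero (by simpa [e0] using hM' 0 1)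
  have κ : d * p' + t * r' = r' * t' + t' * d := by
    obtain ⟨κ, hκ⟩ : ∃ κ, t' * t * κ = d * p' + t * r' - (r' * t' + t' * d) :=
      ⟨_, mul_div_cancel₀ _ (mul_ne_zero p0 ω0)⟩
    have h1 : ∀ α β, (x' * x)⁻¹ * (x * x') * U.w e α β * ((x' * x)⁻¹ * (x * x'))⁻¹ =
        U.w e α (β + κ * α) := fun α β => by
      have : x * x' * U.w e α β * (x * x')⁻¹ = x' * x * U.w e α (β + κ * α) * (x' * x)⁻¹ := by
        rw [cj, cj, hM', hM, hM, hM', U.w_inj]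
        exact ⟨by ring, by linear_combination -α * hκ⟩
      rw [cj, this]; group
    have h2 := mul_mem (inv_mem (mul_mem hx' hx)) (mul_mem hx hx')
    generalize (x' * x)⁻¹ * (x * x') = g at h1 h2
    have h3 := Bender.mem_of_odd_of_sq (k2 g h2) (O := C1[U.w e 1 0])
      (mem_centralizer_singleton_iff.2 (by
        rw [← mul_inv_eq_iff_eq_mul, cj, h1, h1, U.w_inj]
        exact ⟨rfl, by linear_combination κ * U.two⟩))
    have h4 := h1 1 0
    rw [mem_centralizer_singleton_iff.1 h3, mul_inv_cancel_right, U.w_inj] at h4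
    linear_combination -hκ - t' * t * h4.2
  have e2 := e1 (U.w e (t' + t) d)
  rw [hM', hY, hY, hM, U.w_inj] at e2
  have e3 := hY (t' + t) d
  have e4 : p' * (a * (t' + t) + (t' + t) * d) = t' * (a * (t' + t) + (t' + t) * d) := by
    linear_combination e2.1 + (t' + t) * κ - (t' + t) * t * r' * U.two
  have e5 : p' * (c * (t' + t) + d * d) =
      d * (a * (t' + t) + (t' + t) * d) + t * (c * (t' + t) + d * d) := by
    linear_combination e2.2 + d * κ - d * t * r' * U.two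
  generalize a * (t' + t) + (t' + t) * d = α at e3 e4 e5
  generalize c * (t' + t) + d * d = β at e3 e5
  by_cases hα : α = 0
  · have := Bender.mem_of_odd_of_sq (k2 y hy) (ti (mul_mem hy.1 hy.1) one_ne_zero (by
      rw [cj, y2, e3]; exact wZ.2 hα))
    exact hp (wZ.1 (y2 ▸ (mem_normalizer_iff.1 this _).1 (wZ.2 rfl)))
  · obtain rfl := mul_right_cancel₀ hα e4
    have := hY 0 (α / (p' + t))
    rw [show a * 0 + (p' + t) * (α / (p' + t)) = α by field_simp; ring,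
      show c * 0 + d * (α / (p' + t)) = β by field_simp; linear_combination -e5 - β * t * U.two,
      ← e3] at this
    exact hp (U.w_inj.1 (by simpa using this : U.w e 0 _ = _)).1.symm

theorem meet {l l' : Subgroup G} (hl : Cj U.B l) (hl' : Cj U.B l') :
    ∃ p, Cj U.A p ∧ Inc p l ∧ Inc p l' := by
  obtain ⟨x, rfl⟩ := hl
  obtain ⟨p, h1, h2⟩ := (h.conj x).meet_aux (l := l') (by
    rw [conj_B]; exact Cj.symm ⟨x, rfl⟩ |>.trans hl')
  exact ⟨p, Cj.trans ⟨x, U.conj_A x⟩ h1, by simpa using h2⟩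

theorem join {p p' : Subgroup G} (hp : Cj U.A p) (hp' : Cj U.A p') :
    ∃ l, Cj U.B l ∧ Inc p l ∧ Inc p' l := by
  obtain ⟨l, h1, h2, h3⟩ := h.swap.meet (l := p) (l' := p') (by simpa) (by simpa)
  exact ⟨l, by simpa using h1, h2.symm, h3.symm⟩

end Pl

end UT

end Cfsg.Lib.L34
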