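import Cfsg.Agent.Lib.L34.Emb
import Cfsg.Agent.Lib.Misc.Invol

/-!
# Sylow 2-subgroups of type `L₃(4)`: the case of two classes of involutions
-/

set_option autoImplicit false
set_option linter.unusedSectionVars false

namespace Cfsg.Lib.L34
open Subgroup Cfsg.Lib Cfsg.Lib.FT MulAction

variable {F : Type*} [Field F] {G : Type*} [Group G] [Finite G]

theorem dih_odd {E H : Subgroup G} (hE : IsSylowIn 2 E H) (h2 : ∀ x ∈ E, x * x = 1) {x y : G}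
    (hx : x ∈ H) (hy : y ∈ H) (hx2 : x * x = 1) (hy2 : y * y = 1) (he : Even (orderOf (x * y))) :
    ∃ u ∈ zpowers (x * y), u * u = 1 ∧ u ≠ 1 ∧ u * x = x * u ∧ u * y = y * u ∧ IsConj y (x * u) := by
  obtain ⟨m, -, h3, h4, h5⟩ := h9_central_invol_of_even hx2 hy2 he
  obtain ⟨h6, h7⟩ := h9_orderOf_eq_two_iff.1 h3
  refine ⟨_, pow_mem (mem_zpowers _) m, h7, h6, h4.eq, h5.eq, ?_⟩
  obtain ⟨j, hj⟩ := exists_conj_mul_pow (t := x) (t' := y) (by rwa [sq]) (by rwa [sq]) m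
  rw [if_neg] at hj
  · exact isConj_iff.2 ⟨_, hj⟩
  rintro ⟨k, rfl⟩
  obtain ⟨g, -, hg⟩ := hE.exists_conj_le (U := zpowers ((x * y) ^ k)) (IsPGroup.of_card_dvd_pow
    (n := 2) (by
      rw [Nat.card_zpowers]
      exact orderOf_dvd_of_pow_eq_one (by rw [← h7, ← pow_add, ← pow_mul]; congr 1; ring)))
    (zpowers_le.2 (pow_mem (mul_mem hx hy) k))
  have := h2 _ (hg (conj_mem_conj (mem_zpowers _) g))
  rw [conj_mul, conj_eq_one_iff, ← pow_add] at this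
  exact h6 this

theorem card_pair {x y : G} (hx : x * x = 1) (hy : y * y = 1) (h1 : x ≠ 1) (h2 : y ≠ 1) (h3 : x ≠ y)
    (h : x * y = y * x) : IsElementaryAbelian 2 (zpowers x ⊔ zpowers y : Subgroup G) ∧
      2 ^ 2 ≤ Nat.card (zpowers x ⊔ zpowers y : Subgroup G) := by
  have k : ∀ {x : G}, x * x = 1 → x ≠ 1 → Nat.card (zpowers x) = 2 := fun hx h1 => by
    rw [Nat.card_zpowers, h9_orderOf_eq_two_iff.2 ⟨h1, hx⟩]
  have hc : zpowers x ≤ C[zpowers y] := zpowers_le.2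
    (by rw [centralizer_zpowers]; exact mem_centralizer_singleton_iff.2 h)
  refine ⟨elemAb_sup (elemAb_zpowers (by rwa [sq])) (elemAb_zpowers (by rwa [sq])) hc,
    (card_sup_eq_sq (k hx h1) (k hy h2) (fun e => ?_) (hc.trans (centralizer_le_normalizer _))).ge⟩
  obtain ⟨n, rfl⟩ := mem_zpowers_iff.1 (e.le (mem_zpowers x))
  have h4 : y ^ (2 : ℤ) = 1 := by rw [zpow_two, hy]
  rcases Int.even_or_odd' n with ⟨k, rfl | rfl⟩ <;> simp [zpow_add, zpow_mul, h4] at h1 h3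

namespace UT
variable (U : UT F G)

theorem nomove (h : N[U.A] ≤ N[U.Z]) {x g : G} (hx : x ∈ U.A) (h1 : g * x * g⁻¹ ∈ U.Z) : x ∈ U.Z := by
  obtain ⟨n, hn, e⟩ := U.fusA le_top (mem_top g) hx (U.Z_leA h1)
  exact (mem_normalizer_iff.1 (h hn.2) x).2 (e ▸ h1)

theorem nomoveB (h : N[U.B] ≤ N[U.Z]) {x g : G} (hx : x ∈ U.B) (h1 : g * x * g⁻¹ ∈ U.Z) :
    x ∈ U.Z := by
  simpa using U.swap.nomove (x := x) (g := g) (by simpa) (by simpa) (by simpa)

theorem mem_A_of_conj (h : N[U.B] ≤ N[U.Z]) {x g : G} (hx : x ∈ U.S) (hg : g * x * g⁻¹ ∈ U.A) :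
    x ∈ U.A := by
  have := U.sqA hg
  rw [conj_mul, conj_eq_one_iff] at this
  refine (U.invol hx this).elim id fun h1 => ?_
  obtain ⟨k, -, hk⟩ := U.swap.conjAB le_top (mem_top g) (x := x) (by simpa) (by simpa)
  exact U.Z_leA (U.nomoveB h h1 (by simpa using hk))

theorem sclA (h : N[U.B] ≤ N[U.Z]) : SCl U.A := SCl.of_sylow U.syl fun _ hx _ => U.mem_A_of_conj h hx

theorem sylB_C1 (h : N[U.B] ≤ N[U.Z]) {x : G} (hx : x ∈ U.B) (hZ : x ∉ U.Z) :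
    IsSylowIn 2 U.B C1[x] := by
  simpa using U.swap.sylA_C1 (x := x) (by simpa) fun r _ hr => hZ (U.nomoveB h hx (by simpa using hr))

theorem solv_of_conj {x k : G} (h : k * x * k⁻¹ ∈ U.Z) (h1 : x ≠ 1) : Group.IsSolvable C1[x] := by
  have := U.c1_solv h (by simpa using h1)
  rwa [← conj_centralizer_singleton, isSolvable_conj_iff] at this

theorem conj_into {M : Subgroup G} (hM : U.S ≤ M) {x : G} (hx : x ∈ M) (h2 : x * x = 1) :
    ∃ m ∈ M, m * x * m⁻¹ ∈ U.S := by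
  obtain ⟨m, hm, e⟩ := (U.sylIn hM).exists_conj_le (p_zpowers h2) (zpowers_le.2 hx)
  exact ⟨m, hm, e (conj_mem_conj (mem_zpowers x) m)⟩

theorem case_two (hO : pPrimeCore 2 G = ⊥) (hA : ¬ N[U.A] ≤ N[U.Z]) (hB : N[U.B] ≤ N[U.Z]) :
    ⊤ ≤ N[U.A] := by
  have h := U.sclA hB
  have hc : ∀ e ∈ U.A, e ≠ 1 → IsPConstrained 2 C1[e] := fun e he h1 => by
    obtain ⟨k, -, hk⟩ := U.spreadA hA he
    exact isPConstrained_of_isSolvable (U.solv_of_conj hk h1)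
  have hθ : IsSolvableSignalizerFunctor 2 U.A (centralizerPPrimeCore 2) :=
    cpc_sig U.eaA (fun e _ _ => isSolvable_of_not_two_dvd (cpc_not_dvd e)) fun e he _ f hf hf1 =>
      cpc_inf_le_of_constrained (hc f hf hf1) (p_zpowers (U.sqA he)) (U.A_le_C1 hf he)
  have hW := sigFam_not_dvd (sigClosure_mem_two U.eaA (by rw [U.card_A]; norm_num) hθ)
  have hNW := normalizer_le_normalizer_cpcClosure (p := 2) U.A
  have hCM : ∀ e ∈ U.A, e ≠ 1 → C1[e] ≤ signalizerClosure U.A (centralizerPPrimeCore 2) ⊔ N[U.A] :=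
    fun e he h1 => (h.le_sup_of_constrained U.eaA.1 U.p_A (U.A_le_C1 he) (hc e he h1)).trans
      (sup_le_sup (by rw [← centralizerPPrimeCore_eq]; exact le_sigClosure he h1) inf_le_right)
  generalize signalizerClosure U.A (centralizerPPrimeCore 2) = W at hW hNW hCM
  have hMW : W ⊔ N[U.A] ≤ N[W] := sup_le le_normalizer hNW
  have hMA : W ⊔ N[U.A] ≤ N[U.A ⊔ W] :=
    sup_le (le_sup_right.trans le_normalizer) (le_normalizer_sup le_rfl hNW)
  have hAM : N[U.A] ≤ W ⊔ N[U.A] := le_sup_right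
  suffices H : ⊤ ≤ W ⊔ N[U.A] by
    have := le_pPrimeCore (normalizer_eq_top_iff.1 (top_le_iff.1 (H.trans hMW)))
      ((Nat.Prime.coprime_iff_not_dvd Nat.prime_two).2 hW).symm
    rwa [le_bot_iff.1 (this.trans hO.le), bot_sup_eq] at H
  generalize W ⊔ N[U.A] = M at hCM hMW hMA hAM
  have hSM := U.S_le_NA.trans hAM
  have hSW : ∀ x ∈ U.S, x ∈ W → x = 1 := fun x h1 h2 =>
    (CoprimeAct.of_isPGroup U.p_S hW (hSM.trans hMW)).eq_one_of_mem h1 h2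
  have hfix : ∀ e ∈ U.A, e ≠ 1 → ∀ g : G, g * e * g⁻¹ ∈ M → g ∈ M := fun e he h1 g hg => by
    obtain ⟨m, hm, h2⟩ := U.conj_into hSM hg (by rw [conj_mul, U.sqA he]; simp)
    have h3 : m * g * e * (m * g)⁻¹ ∈ U.A := U.mem_A_of_conj hB (g := (m * g)⁻¹)
      (by simpa [mul_assoc] using h2) (by simpa [mul_assoc] using he)
    obtain ⟨n, hn, e1⟩ := U.fusA le_top (mem_top _) he h3
    have : n⁻¹ * (m * g) ∈ C1[e] := by
      rw [mem_centralizer_singleton_iff]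
      calc n⁻¹ * (m * g) * e = n⁻¹ * (m * g * e * (m * g)⁻¹) * (m * g) := by group
        _ = e * (n⁻¹ * (m * g)) := by rw [← e1]; group
    exact (mul_mem_cancel_left hm).1 ((mul_mem_cancel_left (inv_mem (hAM hn.2))).1 (hCM e he h1 this))
  let D : G → Prop := fun d => ∃ e ∈ U.A, e ≠ 1 ∧ IsConj e d
  have D1 : ∀ {e}, e ∈ U.A → e ≠ 1 → D e := fun he h1 => ⟨_, he, h1, IsConj.refl _⟩
  have Dc : ∀ {d d'}, D d → IsConj d d' → D d' := fun ⟨e, h1, h2, h3⟩ h4 => ⟨e, h1, h2, h3.trans h4⟩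
  have Dg : ∀ {d} g, D d → D (g * d * g⁻¹) := fun g h => Dc h (isConj_iff.2 ⟨g, rfl⟩)
  have Dsq : ∀ {d}, D d → d * d = 1 ∧ d ≠ 1 := by
    rintro _ ⟨e, h1, h2, h3⟩
    obtain ⟨g, rfl⟩ := isConj_iff.1 h3
    exact ⟨by rw [conj_mul, U.sqA h1]; simp, by simpa using h2⟩
  have DA : ∀ {d}, D d → d ∈ U.S → d ∈ U.A := by
    rintro _ ⟨e, h1, -, h3⟩ h4
    obtain ⟨g, e⟩ := isConj_iff.1 h3.symm
    exact U.mem_A_of_conj hB h4 (e ▸ h1)
  have DB : ∀ {d}, D d → d ∈ U.B → d ∈ U.Z := fun h1 h2 => U.mem_Z_of (DA h1 (U.B_le h2)) h2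
  have Dm : ∀ {P : Subgroup G} {s t}, IsPGroup 2 P → s ∈ P → t ∈ P → D s → D t →
      s * t = 1 ∨ D (s * t) := by
    intro P s t hP h1 h2 h3 h4
    obtain ⟨r, -, e⟩ := U.syl.exists_conj_le hP le_top
    have := mul_mem (DA (Dg r h3) (e (conj_mem_conj h1 r))) (DA (Dg r h4) (e (conj_mem_conj h2 r)))
    rw [conj_mul] at this
    exact or_iff_not_imp_left.2 fun h5 => Dc (D1 this (by simpa using h5))
      (isConj_iff.2 ⟨r, rfl⟩).symm
  have fx : ∀ g x : G, x • (g : G ⧸ M) = g ↔ g⁻¹ * x * g ∈ M := fun g x => by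
    rw [Quotient.smul_coe, smul_eq_mul, eq_comm, QuotientGroup.eq, mul_assoc]
  have f1 : ∀ x : G, x • ((1 : G) : G ⧸ M) = (1 : G) ↔ x ∈ M := fun x => by simpa using fx 1 x
  have fe : ∀ {d}, D d → ∃ α : G ⧸ M, d • α = α := by
    rintro _ ⟨e, h1, -, h3⟩
    obtain ⟨g, rfl⟩ := isConj_iff.1 h3
    exact ⟨g, (fx _ _).2 (by simpa [mul_assoc] using hSM (U.A_le h1))⟩
  have fu : ∀ {d} {α β : G ⧸ M}, D d → d • α = α → d • β = β → α = β := by
    rintro _ α β ⟨e, h1, h2, h3⟩ h4 h5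
    obtain ⟨g, rfl⟩ := isConj_iff.1 h3
    have : ∀ k : G, (g * e * g⁻¹) • (k : G ⧸ M) = k → (k : G ⧸ M) = g := fun k hk =>
      QuotientGroup.eq.2 (hfix e h1 h2 _ (by simpa [mul_assoc] using (fx _ _).1 hk))
    induction α using QuotientGroup.induction_on
    induction β using QuotientGroup.induction_on
    rw [this _ h4, this _ h5]
  have fc : ∀ {d x} {α : G ⧸ M}, D d → d • α = α → x * d = d * x → x • α = α := by
    intro d x α h1 h2 h3
    exact fu h1 (by rw [← mul_smul, ← h3, mul_smul, h2]) h2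
  have nD : ∀ {u}, u * u = 1 → u ≠ 1 → ¬ D u → ∃ k, ∃ b ∈ U.B, b ∉ U.Z ∧ k * b * k⁻¹ = u := by
    intro u h1 h2 h3
    obtain ⟨m, -, h4⟩ := U.conj_into le_top (mem_top u) h1
    have : m * u * m⁻¹ ∉ U.A := fun h5 =>
      h3 (Dc (D1 h5 (by simpa using h2)) (isConj_iff.2 ⟨m, rfl⟩).symm)
    exact ⟨m⁻¹, _, (U.invol h4 (by rw [conj_mul, h1]; simp)).resolve_left this,
      fun h5 => this (U.Z_leA h5), by group⟩
  have odd : ∀ {d d'} {α β : G ⧸ M}, D d → D d' → d • α = α → d' • β = β → α ≠ β →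
      Odd (orderOf (d * d')) := by
    intro d d' α β h1 h2 h3 h4 h5
    by_contra he
    rw [Nat.not_odd_iff_even] at he
    obtain ⟨m, -, h6, h7, h8⟩ := h9_central_invol_of_even (Dsq h1).1 (Dsq h2).1 he
    obtain ⟨h9, h10⟩ := h9_orderOf_eq_two_iff.1 h6
    have k0 : ∀ {u}, D u → u * d = d * u → u * d' = d' * u → False := fun k1 k2 k3 =>
      h5 (fu k1 (fc h1 h3 k2) (fc h2 h4 k3))
    obtain ⟨k, b, hb, hbZ, e⟩ := nD h10 h9 fun hh => k0 hh h7.eq h8.eq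
    have hs := (U.sylB_C1 hB hb hbZ).map_conj k
    rw [conj_centralizer_singleton, e] at hs
    obtain ⟨u, -, u1, u2, u3, u4, u5⟩ := dih_odd hs (fun x hx => (U.conj k).sqB (by simpa using hx))
      (mem_centralizer_singleton_iff.2 h7.eq.symm) (mem_centralizer_singleton_iff.2 h8.eq.symm)
      (Dsq h1).1 (Dsq h2).1 he
    rcases Dm (p_pair (Dsq h1).1 u1 u3.symm) (mem_sup_left (mem_zpowers _))
      (mul_mem (mem_sup_left (mem_zpowers _)) (mem_sup_right (mem_zpowers _))) h1 (Dc h2 u5)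
      with h | h <;> rw [← mul_assoc, (Dsq h1).1, one_mul] at h
    exacts [u2 h, k0 h u3 u4]
  obtain ⟨z, hz, hz1⟩ := U.exists_Z
  have Dz := D1 (U.Z_leA hz) hz1
  have ncj : ∀ {b d}, b ∈ U.B → b ∉ U.Z → D d → Even (orderOf (b * d)) := by
    intro b d h1 h2 h3
    by_contra h4
    exact h2 (DB (Dc h3 (h9_isConj_of_odd (U.sqB h1) (Dsq h3).1 (Nat.not_even_iff_odd.1 h4)).symm) h1)
  by_contra hM
  obtain ⟨b, hb, hbZ, γ, hγ, hbγ⟩ : ∃ b ∈ U.B, b ∉ U.Z ∧ ∃ γ : G ⧸ M, ((1 : G) : G ⧸ M) ≠ γ ∧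
      b • γ = γ := by
    by_contra! hh
    have k : ∀ b ∈ U.B, b ∉ U.Z → C1[b] ≤ M := fun b h1 h2 x hx => by_contra fun h3 =>
      hh b h1 h2 (x • ((1 : G) : G ⧸ M)) (fun e => h3 ((f1 x).1 e.symm)) (by
        rw [← mul_smul, ← mem_centralizer_singleton_iff.1 hx, mul_smul, (f1 b).2 (hSM (U.B_le h1))])
    obtain ⟨g, -, hg⟩ := SetLike.not_le_iff_exists.1 hM
    obtain ⟨b, hb, hbZ⟩ := U.exists_B
    obtain ⟨m, -, h6, h7, h8⟩ := h9_central_invol_of_even (U.sqB hb) (Dsq (Dg g Dz)).1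
      (ncj hb hbZ (Dg g Dz))
    obtain ⟨h9, h10⟩ := h9_orderOf_eq_two_iff.1 h6
    generalize (b * (g * z * g⁻¹)) ^ m = u at h7 h8 h9 h10
    obtain ⟨c, hc, e⟩ := (U.sylB_C1 hB hb hbZ).exists_conj_le (p_zpowers h10)
      (zpowers_le.2 (mem_centralizer_singleton_iff.2 h7.eq))
    have h1 := e (conj_mem_conj (mem_zpowers u) c)
    have h2 : C1[c * u * c⁻¹] ≤ M := by
      by_cases h3 : c * u * c⁻¹ ∈ U.Z
      exacts [hCM _ (U.Z_leA h3) (by simpa using h9), k _ h1 h3]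
    rw [← conj_centralizer_singleton] at h2
    exact hg (hfix z (U.Z_leA hz) hz1 g (le_of_conj_le h2 (le_normalizer (k b hb hbZ hc))
      (mem_centralizer_singleton_iff.2 h8.eq.symm)))
  obtain ⟨α, β, x, y, hne, x2, y2, x1, y1, xy, cxy, f2, f3, f4, f5⟩ : ∃ (α β : G ⧸ M) (x y : G),
      α ≠ β ∧ x * x = 1 ∧ y * y = 1 ∧ x ≠ 1 ∧ y ≠ 1 ∧ x ≠ y ∧ x * y = y * x ∧ x • α = α ∧
      x • β = β ∧ y • α = α ∧ y • β = β := by
    obtain ⟨d, d1, d2, d3⟩ : ∃ d, D d ∧ d • γ = γ ∧ d * b = b * d := by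
      induction γ using QuotientGroup.induction_on with | _ g => ?_
      obtain ⟨m, hm, h1⟩ := U.conj_into hSM ((fx _ _).1 hbγ) (by
        rw [show g⁻¹ * b * g * (g⁻¹ * b * g) = g⁻¹ * (b * b) * g by group, U.sqB hb]; simp)
      refine ⟨_, Dg (g * m⁻¹) Dz, (fx _ _).2 ?_, ?_⟩
      · simpa [mul_assoc] using mul_mem (inv_mem hm) (mul_mem (hSM (U.Z_le hz)) hm)
      · have := U.commZ h1 hz
        calc _ = g * m⁻¹ * (z * (m * (g⁻¹ * b * g) * m⁻¹)) * (g * m⁻¹)⁻¹ := by group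
          _ = _ := by rw [← this]; group
    obtain ⟨b', h1, h2, h3⟩ : ∃ b' ∈ U.B, b' ∉ U.Z ∧ b' * b ∉ U.Z := by
      obtain ⟨s, t, rfl⟩ := hb
      obtain ⟨ω, hω⟩ := f_om U.hF
      simp only [uZ, true_and] at hbZ
      refine ⟨U.u 0 (ω * s) 0, by simp, ?_, ?_⟩
      · rintro h; simp [hbZ] at h; simp [h] at hω
      · rw [U.mul, uZ, ← add_one_mul]
        rintro ⟨-, h⟩
        have := (mul_eq_zero.1 h).resolve_right hbZ
        exact one_ne_zero (α := F) (by linear_combination hω - ω * this)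
    have h0 : b ≠ 1 := fun e => hbZ (e ▸ one_mem _)
    by_cases h4 : b' • γ = γ
    · exact ⟨_, γ, b, b', hγ, U.sqB hb, U.sqB h1, h0, fun e => h2 (e ▸ one_mem _),
        fun e => h3 (by rw [← e, U.sqB hb]; exact one_mem _), U.commB hb h1,
        (f1 _).2 (hSM (U.B_le hb)), hbγ, (f1 _).2 (hSM (U.B_le h1)), h4⟩
    have m1 := mem_centralizer_singleton_iff.2 (U.commB h1 hb)
    have m2 := mem_centralizer_singleton_iff.2 d3
    obtain ⟨u, u0, u1, u2, u3, u4, u5⟩ := dih_odd (U.sylB_C1 hB hb hbZ) (fun _ => U.sqB) m1 m2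
      (U.sqB h1) (Dsq d1).1 (ncj h1 h2 d1)
    replace u0 := mem_centralizer_singleton_iff.1 (zpowers_le.2 (mul_mem m1 m2) u0)
    have d4 := Dc d1 u5
    obtain ⟨δ, hδ⟩ := fe d4
    have h5 := fc d1 d2 u4
    refine ⟨γ, δ, b, u, ?_, U.sqB hb, u1, h0, u2, ?_, u0.symm, hbγ, fc d4 hδ ?_, h5, fc d4 hδ ?_⟩
    · rintro rfl
      exact h4 (by rwa [mul_smul, h5] at hδ)
    · rintro rfl
      exact h3 (DB d4 (mul_mem h1 hb))
    · rw [← mul_assoc, U.commB hb h1, mul_assoc, mul_assoc, u0]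
    · rw [← mul_assoc, u3]
  obtain ⟨hE, h4⟩ := card_pair x2 y2 x1 y1 xy cxy
  have hα : zpowers x ⊔ zpowers y ≤ stabilizer G α := sup_le (zpowers_le.2 f2) (zpowers_le.2 f4)
  have hβ : zpowers x ⊔ zpowers y ≤ stabilizer G β := sup_le (zpowers_le.2 f3) (zpowers_le.2 f5)
  generalize zpowers x ⊔ zpowers y = T at hE h4 hα hβ
  clear f2 f3 f4 f5 x1 y1 xy cxy x2 y2 x y hbγ hγ γ hbZ hb b
  obtain ⟨T, β, hne, hE, h4, hT, hβ⟩ : ∃ (T : Subgroup G) (β : G ⧸ M), ((1 : G) : G ⧸ M) ≠ β ∧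
      IsElementaryAbelian 2 T ∧ 2 ^ 2 ≤ Nat.card T ∧ T ≤ U.S ∧ T ≤ stabilizer G β := by
    induction α using QuotientGroup.induction_on with | _ g => ?_
    obtain ⟨m, hm, h1⟩ := (U.sylIn hSM).exists_conj_le (U := g⁻¹ •ᶜ T) ((elemAb_isPGroup hE).map _) (by
      rintro _ ⟨t, ht, rfl⟩; simpa using (fx _ _).1 (hα ht))
    rw [conj_conj] at h1
    refine ⟨_, (m * g⁻¹) • β, fun e => hne ?_, elemAb_conj hE _, by rwa [card_conj], h1, ?_⟩
    · rw [← inv_smul_eq_iff] at e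
      rw [← e, Quotient.smul_coe, QuotientGroup.eq]; simpa using hm
    · rintro _ ⟨t, ht, rfl⟩
      change (m * g⁻¹ * t * (m * g⁻¹)⁻¹) • _ = _
      rw [← mul_smul, inv_mul_cancel_right, mul_smul, show t • β = β from hβ ht]
  generalize hα : ((1 : G) : G ⧸ M) = α at f1 hne
  obtain ⟨d, d1, d2⟩ : ∃ d, D d ∧ d • β = β := by
    induction β using QuotientGroup.induction_on with | _ g => ?_
    exact ⟨_, Dg g Dz, (fx _ _).2 (by simpa [mul_assoc] using hSM (U.Z_le hz))⟩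
  have sw : ∀ e ∈ U.A, e ≠ 1 → ∃ s, D s ∧ s * e * s⁻¹ = d ∧ s • α = β ∧ s • β = α := by
    intro e he h1
    have h2 := (f1 e).2 (hSM (U.A_le he))
    have ho := odd (D1 he h1) d1 h2 d2 hne
    obtain ⟨k, hk⟩ := h9_conj_of_odd (U.sqA he) (Dsq d1).1 ho
    have e1 : (e * d) ^ k * e * ((e * d) ^ k * e) = 1 := by
      have := h9_conj_pow_of_inv (h9_invol_inverts_left (U.sqA he) (Dsq d1).1) k
      rw [inv_eq_of_mul_eq_one_right (U.sqA he)] at this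
      rw [mul_assoc, ← mul_assoc e, this, mul_inv_cancel]
    have e2 : (e * d) ^ k * e * e * ((e * d) ^ k * e)⁻¹ = d := Eq.trans (by group) hk
    have e3 : D ((e * d) ^ k * e) := Dc (D1 he h1) (h9_isConj_of_odd e1 (U.sqA he) (by
      rw [mul_assoc, U.sqA he, mul_one]; exact ho.of_dvd_nat (orderOf_pow_dvd k))).symm
    generalize (e * d) ^ k * e = s at e1 e2 e3
    have e4 : s • α = β := fu d1 (by rw [← e2, ← mul_smul, inv_mul_cancel_right, mul_smul, h2]) d2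
    exact ⟨s, e3, e2, e4, by rw [← e4, ← mul_smul, e1, one_smul]⟩
  let X : Subgroup G :=
    { carrier := {g | (g • α = α ∧ g • β = β) ∨ (g • α = β ∧ g • β = α)}
      one_mem' := Or.inl (by simp)
      mul_mem' := by rintro g k (h1 | h1) (h2 | h2) <;> simp [mul_smul, h1, h2]
      inv_mem' := by rintro g (h1 | h1) <;> simp [inv_smul_eq_iff, h1] }
  have sw2 : ∀ {P : Subgroup G} {s t}, IsPGroup 2 P → s ∈ P → t ∈ P → D s → D t → s ∈ X → t ∈ X →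
      s = t := by
    intro P s t hP h1 h2 h3 h4 h5 h6
    replace h5 := h5.resolve_left fun h => hne (fu h3 h.1 h.2)
    replace h6 := h6.resolve_left fun h => hne (fu h4 h.1 h.2)
    rcases Dm hP h1 h2 h3 h4 with h | h
    · rw [eq_inv_of_mul_eq_one_left h, inv_eq_of_mul_eq_one_right (Dsq h4).1]
    · exact absurd (fu h (by rw [mul_smul, h6.1, h5.2]) (by rw [mul_smul, h6.2, h5.1])) hne
  obtain ⟨s, s1, s2, s3⟩ := sw z (U.Z_leA hz) hz1
  have hs : s ∈ X := Or.inr s3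
  have zs := zstar (G := X) (t := ⟨s, hs⟩) (Subtype.ext (by simpa [sq] using (Dsq s1).1))
    fun g hg => Subtype.ext (sw2 (p_pair (Dsq (Dg g s1)).1 (Dsq s1).1 (congrArg Subtype.val hg.eq).symm)
      (mem_sup_left (mem_zpowers _)) (mem_sup_right (mem_zpowers _)) (Dg g s1) s1
      (mul_mem (mul_mem g.2 hs) (inv_mem g.2)) hs)
  obtain ⟨a, ha, haZ⟩ := U.exists_A
  obtain ⟨t, t1, t2, t3⟩ := sw a ha fun e => haZ (e ▸ one_mem _)
  have hR : t * s ∈ piCoreOf {2}ᶜ X ⊓ M := by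
    obtain ⟨P, hP, h1⟩ := exists_isSylowIn_ge (p_zpowers (Dsq s1).1) (zpowers_le.2 hs)
    obtain ⟨k, hk, h2⟩ := hP.exists_conj_le (p_zpowers (Dsq t1).1) (zpowers_le.2 (Or.inr t3))
    have h3 := sw2 hP.isPGroup (h2 (conj_mem_conj (mem_zpowers t) k)) (h1 (mem_zpowers s)) (Dg k t1)
      s1 (mul_mem (mul_mem hk (Or.inr t3)) (inv_mem hk)) hs
    refine ⟨?_, (f1 _).1 (by rw [mul_smul, s3.1, t3.2])⟩
    rw [piCoreOf_compl_singleton]
    refine ⟨_, zs ⟨k, hk⟩⁻¹, ?_⟩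
    change k⁻¹ * s * k⁻¹⁻¹ * s⁻¹ = _
    rw [inv_eq_of_mul_eq_one_right (Dsq s1).1, ← h3]; group
  have hTX : T ≤ X := fun x hx => Or.inl ⟨(f1 x).2 (hSM (hT hx)), hβ hx⟩
  have hJ := (CoprimeAct.of_isPGroup (K := piCoreOf {2}ᶜ X ⊓ M) (elemAb_isPGroup hE)
    (fun h => isPiSubgroup_compl_singleton_iff.1 (isPiSubgroup_piCoreOf _ X)
      (h.trans (card_dvd_of_le inf_le_left)))
    (le_normalizer_inf (hTX.trans (le_normalizer_piCoreOf _ _))
      ((hT.trans hSM).trans le_normalizer))).le_of_elemAb hE h4 (X := N[U.Z ⊔ W])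
    (fun v hv hv1 r hr => mem_N_of_le (by
      rw [conj_sup, conj_eq_iff_mem_normalizer.2 (hMW hr.1.2)]
      refine sup_le ?_ le_sup_right
      rintro _ ⟨y, hy, rfl⟩
      obtain ⟨c, hc, w, hw, e⟩ := (mem_sup_of_le_normalizer' ((U.A_le.trans hSM).trans hMW)).1
        ((mem_normalizer_iff.1 (hMA hr.1.2) y).1 (mem_sup_left (U.Z_leA hy)))
      refine mem_of_mem_of_eq (mul_mem (mem_sup_left (U.mem_Z_of_comm hc (hT hv) (fun h => hne
        (fu (D1 h hv1) ((f1 v).2 (hSM (hT hv))) (hβ hv))) ?_)) (mem_sup_right hw)) e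
      have e1 : v * (c * w) * v⁻¹ = c * w := by
        rw [e, show v * (r * y * r⁻¹) * v⁻¹ = v * r * y * (v * r)⁻¹ by group,
          ← mem_centralizer_singleton_iff.1 hr.2, show r * v * y * (r * v)⁻¹ =
            r * (v * y) * v⁻¹ * r⁻¹ by group, U.commZ (hT hv) hy]; group
      have e2 := hSW (c⁻¹ * (v * c * v⁻¹)) (mul_mem (inv_mem (U.A_le hc))
        (U.A_le (U.conj_mem_A (hT hv) hc))) (by
          rw [show c⁻¹ * (v * c * v⁻¹) = c⁻¹ * (v * (c * w) * v⁻¹) * (v * w⁻¹ * v⁻¹) by group, e1,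
            inv_mul_cancel_left]
          exact mul_mem hw ((mem_normalizer_iff.1 (hMW (hSM (hT hv))) _).1 (inv_mem hw)))
      rw [inv_mul_eq_one, eq_mul_inv_iff_mul_eq] at e2
      exact e2)) hR
  obtain ⟨y, hy, w, hw, e⟩ := (mem_sup_of_le_normalizer' ((U.Z_le.trans hSM).trans hMW)).1
    ((mem_normalizer_iff.1 hJ z).1 (mem_sup_left hz))
  rw [show t * s * z * (t * s)⁻¹ = t * (s * z * s⁻¹) * t⁻¹ by group, s2, ← t2,
    show t * (t * a * t⁻¹) * t⁻¹ = t * t * a * (t * t)⁻¹ by group, (Dsq t1).1] at e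
  simp only [one_mul, inv_one, mul_one] at e
  rw [hSW w ((mul_mem_cancel_left (U.Z_le hy)).1 (e ▸ U.A_le ha)) hw, mul_one] at e
  exact haZ (e ▸ hy)

end UT

end Cfsg.Lib.L34
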