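import Cfsg.Agent.Lib.L34.XW
import Cfsg.Agent.Lib.L34.Final

/-!
# Local analysis in `2^(1+4)_-.S₄`
-/

set_option autoImplicit false
set_option linter.unusedSectionVars false

namespace Cfsg.Lib.L34
open Subgroup Cfsg.Lib Cfsg.Lib.FT Equiv SW

variable {G : Type*} [Group G] {F : Type*} [Field F]

theorem exists_add (hF : Nat.card F = 4) {w : F} (hw : w ^ 2 + w + 1 = 0) {p q : G} (hp : p * p = 1)
    (hq : q * q = 1) (h : q * p = p * q) :
    ∃ α : F → G, (∀ s t, α (s + t) = α s * α t) ∧ α 1 = p ∧ α w = q := by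
  classical
  have two := f_two hF
  have h0 : w ≠ 0 := by rintro rfl; simp at hw
  have h1 : w ≠ 1 := by rintro rfl; exact one_ne_zero (α := F) (by linear_combination hw - two)
  have h2 : w + 1 ≠ 0 := fun e => h1 (by linear_combination e - two)
  have e1 : (1 : F) + 1 = 0 := by linear_combination two
  have e2 : w + w = 0 := by linear_combination w * two
  have e3 : 1 + (w + 1) = w ∧ w + 1 + 1 = w ∧ w + (w + 1) = 1 ∧ w + 1 + w = 1 ∧ w + 1 + (w + 1) = 0 :=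
    ⟨by linear_combination two, by linear_combination two, by linear_combination w * two,
      by linear_combination w * two, by linear_combination (w + 1) * two⟩
  have e6 : ∀ x, q * (q * x) = x := fun x => by rw [← mul_assoc, hq, one_mul]
  have e4 : ∀ x, p * (p * x) = x := fun x => by rw [← mul_assoc, hp, one_mul]
  have e5 : ∀ x, q * (p * x) = p * (q * x) := fun x => by rw [← mul_assoc, h, mul_assoc]
  refine ⟨fun s => if s = 0 then 1 else if s = 1 then p else if s = w then q else p * q,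
    fun s t => ?_, by simp, by simp [h0, h1]⟩
  rcases f_cases hF hw s with e' | e' | e' | e' <;> rcases f_cases hF hw t with e | e | e | e <;>
    simp [e, e', add_comm 1 w, e1, e2, e3, h0, h1, h2, e4, e5, e6, hp, hq, h, mul_assoc]

namespace SP
variable (P : SP G)

/-- the invariant singular vector -/
def v : G := P.x 0 * (P.x 1 * (P.x 2 * P.x 3))

theorem zinv : P.z⁻¹ = P.z := inv_eq_of_mul_eq_one_right P.zz
theorem xinv (i : Fin 4) : (P.x i)⁻¹ = P.x i := inv_eq_of_mul_eq_one_right (P.xx i)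
theorem sw {i j : Fin 4} (h : i ≠ j) (r : G) : P.x i * (P.x j * r) = P.z * (P.x j * (P.x i * r)) := by
  rw [← mul_assoc, P.anti i j h, P.cz]; group
theorem r1 {i j : Fin 4} (h : j < i) (r : G) : P.x i * (P.x j * r) = P.z * (P.x j * (P.x i * r)) :=
  P.sw h.ne' r
theorem r1' {i j : Fin 4} (h : j < i) : P.x i * P.x j = P.z * (P.x j * P.x i) := by
  simpa using P.r1 h 1
theorem r2 (i : Fin 4) (r : G) : P.x i * (P.x i * r) = r := by rw [← mul_assoc, P.xx, one_mul]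
theorem r3 (g r : G) : g * (P.z * r) = P.z * (g * r) := by rw [← mul_assoc, P.cz, mul_assoc]
theorem r4 (r : G) : P.z * (P.z * r) = r := by rw [← mul_assoc, P.zz, one_mul]
theorem r5 (i : Fin 4) (r : G) : P.x i * (P.z * r) = P.z * (P.x i * r) := P.r3 ..
theorem r6 (i : Fin 4) : P.x i * P.z = P.z * P.x i := P.cz _

theorem θ_eq {g : G} {w : SW} (h : ∀ i, g * P.x i * g⁻¹ = P.x (w.p i) * iv P.z (w.a i)) : P.θ g = w :=
  have k := fun i => anti_inj P.zz P.z1 P.cz P.anti ((P.act g i).symm.trans (h i))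
  SW.ext (Equiv.ext fun i => (k i).1) (funext fun i => (k i).2)
@[simp] theorem θz : P.θ P.z = 1 := P.θ_eq fun i => by simp [← P.cz]
@[simp] theorem θx (j : Fin 4) : P.θ (P.x j) = xi j := P.θ_eq fun i => by
  by_cases h : i = j
  · simp [h, xi]
  · simp [h, xi, P.anti j i (Ne.symm h), P.cz, mul_assoc]
@[simp] theorem θv : P.θ P.v = neg := by simp only [v, map_mul, θx]; decide
theorem θiv (g : G) (s : ZMod 2) : P.θ (iv g s) = iv (P.θ g) s := map_pow ..
theorem eq_or {g h : G} (e : P.θ g = P.θ h) : g = h ∨ g = h * P.z :=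
  (P.ker (h⁻¹ * g) (by simp [e])).imp (fun e => (inv_mul_eq_one.1 e).symm) fun e => by rw [← e]; simp
theorem vv : P.v * P.v = 1 := by simp [v, mul_assoc, P.r1, P.r1', P.r2, P.r4, P.r5, P.r6, P.xx, P.zz]

theorem conj_v (g : G) : g * P.v * g⁻¹ = P.v * iv P.z (P.θ g).lam := by
  have k : ∀ a b, a ≠ b → ∀ c, a ≠ c → b ≠ c → ∀ d, a ≠ d → b ≠ d → c ≠ d →
      P.x a * (P.x b * (P.x c * P.x d)) = P.v * iv P.z
        (if (b < a ^^ c < a ^^ d < a ^^ c < b ^^ d < b ^^ d < c) then 1 else 0) := by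
    intro a b h1 c h2 h3 d h4 h5 h6
    fin_cases a <;> fin_cases b <;> first | exact absurd rfl h1 | fin_cases c <;>
      first | exact absurd rfl h2 | exact absurd rfl h3 | fin_cases d <;>
      first | exact absurd rfl h4 | exact absurd rfl h5 | exact absurd rfl h6 |
      simp [v, mul_assoc, P.r1, P.r1', P.r4, P.r5, P.r6]
  have c := iv_cz P.cz
  have c' : ∀ g s r, iv P.z s * (g * r) = g * (iv P.z s * r) := fun g s r => by
    rw [← mul_assoc, ← c, mul_assoc]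
  have i := fun {a b} => (P.θ g).p.injective.ne_iff (x := a) (y := b)
  rw [lam, add_comm, iv_add P.zz, ← mul_assoc, ε, pe, ← k _ _ (i.2 (by simp)) _ (i.2 (by simp))
    (i.2 (by simp)) _ (i.2 (by simp)) (i.2 (by simp)) (i.2 (by simp)), v, ← conj_mul, ← conj_mul,
    ← conj_mul]
  simp only [P.act, σ_def, iv_add P.zz, mul_assoc, c' (P.x _)]

theorem comm_v {g : G} : g * P.v = P.v * g ↔ (P.θ g).lam = 0 := by
  rw [← mul_inv_eq_iff_eq_mul, conj_v]
  rcases h9_zmod2_cases (P.θ g).lam with e | e <;> simp [e, P.z1]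

theorem conj_v' {g : G} (h : (P.θ g).lam = 1) : g * P.v = P.v * P.z * g := by
  rw [← mul_inv_eq_iff_eq_mul, conj_v, h, iv_one]

theorem sq2 {i j : Fin 4} (h : i ≠ j) : P.x i * P.x j * (P.x i * P.x j) = P.z := by
  rw [mul_assoc, P.sw h.symm, P.xx, mul_one, P.r3, P.xx, mul_one]

theorem sq_root {t : G} (ht : t * t = 1) : ∃ k, k * t = t * k ∧ k * k = P.z := by
  have c : ∀ g s r, iv P.z s * (g * r) = g * (iv P.z s * r) := fun g s r => by
    rw [← mul_assoc, ← iv_cz P.cz, mul_assoc]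
  have c2 : ∀ s, iv P.z s * iv P.z s = 1 := fun s => by
    rw [← iv_add P.zz, CharTwo.add_self_eq_zero, iv_zero]
  rcases d1 (P.θ t) (by rw [← map_mul, ht, map_one]) with ⟨i, j, h, h1, h2, h3⟩ |
    ⟨i, j, k, h, h', h'', h1, h2, h3, h4, h5⟩ | ⟨i, j, h1, h2, h3, h4, h, h5⟩
  · refine ⟨P.x i * P.x j, Eq.symm (mul_inv_eq_iff_eq_mul.1 ?_), P.sq2 h⟩
    rw [← conj_mul, P.act, P.act, h1, h2, h3, mul_assoc, c, c2, mul_one]
  · refine ⟨P.x i * (P.x j * P.x k), Eq.symm (mul_inv_eq_iff_eq_mul.1 ?_), ?_⟩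
    · rw [← conj_mul, ← conj_mul, P.act, P.act, P.act, h1, h2, h3, h4, h5, mul_assoc, mul_assoc, c,
        ← mul_assoc (iv ..), c2, one_mul, iv_one, P.sw h.symm, P.r6, P.r5, P.r5, P.r4]
    · rw [mul_assoc, mul_assoc, P.sw h'.symm, P.sw h''.symm, P.xx, mul_one, P.r5 i (P.x j),
        P.r4, ← mul_assoc, P.sq2 h]
  obtain ⟨f, hf⟩ := P.surj ⟨swap i j, 0⟩
  have k : ∀ f, f * t = t * f → P.θ f * P.θ f = 1 → (P.θ f).lam = 1 →
      ∃ k, k * t = t * k ∧ k * k = P.z := fun f e1 e2 e3 => by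
    rcases P.ker (f * f) (by rw [map_mul, e2]) with e | e
    · refine ⟨P.v * f, ?_, ?_⟩
      · rw [mul_assoc, e1, ← mul_assoc, ← P.comm_v.2 h4, mul_assoc]
      · rw [mul_assoc, ← mul_assoc f, P.conj_v' e3, mul_assoc, e, mul_one, ← mul_assoc, P.vv, one_mul]
    · exact ⟨f, e1, e⟩
  obtain ⟨h6, h7, h8⟩ := h5 _ (.inl rfl)
  obtain ⟨-, h9, h10⟩ := h5 _ (.inr rfl)
  rw [← hf] at h6 h7 h8 h9 h10
  rcases P.eq_or (g := f * t * f⁻¹) (h := t) (by simpa using h6) with e | e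
  · exact k f (mul_inv_eq_iff_eq_mul.1 e) h7 h8
  refine k (f * (P.x i * P.x j)) ?_ (by simpa using h9) (by simpa using h10)
  have : t * (P.x i * P.x j) * t⁻¹ = P.z * (P.x i * P.x j) := by
    rw [← conj_mul, P.act, P.act, h1, h2, h3, mul_assoc, c, c2, mul_one, P.anti j i h.symm, P.cz]
  rw [mul_inv_eq_iff_eq_mul] at this e
  have e2 : P.x i * P.x j * t = P.z * (t * (P.x i * P.x j)) := by rw [this, mul_assoc P.z, P.r4]
  rw [mul_assoc, e2, P.r3, ← mul_assoc f, e, P.cz t]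
  simp only [mul_assoc, P.r4]

theorem z_mem {N : Subgroup G} (hN : ∀ i, P.x i ∈ N[N]) {g : G} (hg : g ∈ N) (h1 : g ≠ 1) :
    P.z ∈ N := by
  by_contra h
  have k : ∀ i, g * P.x i * g⁻¹ * P.x i ∈ N := fun i => by
    have := mul_mem hg ((mem_normalizer_iff.1 (hN i) _).1 (inv_mem hg))
    rwa [P.xinv, ← mul_assoc, ← mul_assoc] at this
  have k1 : ∀ i, (P.θ g).p i = i := fun i => by_contra fun e => h (by
    have := mul_mem (k i) (k i)
    rw [P.act, mul_assoc _ (iv ..), ← iv_cz P.cz, ← mul_assoc (P.x _),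
      (Commute.mul_mul_mul_comm (iv_cz P.cz _ _).symm _ _), P.sq2 e, ← iv_add P.zz,
      CharTwo.add_self_eq_zero] at this
    simpa using this)
  refine (P.ker g (SW.ext (Equiv.ext k1) (funext fun i =>
    (h9_zmod2_cases _).resolve_right fun e => h ?_))).elim h1 fun e => h (e ▸ hg)
  have := k i
  rwa [P.act, e, k1, iv_one, P.r6, mul_assoc, P.xx, mul_one] at this

theorem eq_of_comm {g : G} (h : ∀ i, g * P.x i = P.x i * g) : g = 1 ∨ g = P.z :=
  P.ker g (P.θ_eq fun i => by simp [h])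

/-- the Sylow subgroup of the simple group -/
def S : Subgroup G := SW.S.comap P.θ
/-- the first `E₁₆` -/
def A : Subgroup G := SW.A.comap P.θ
/-- the Sylow subgroup -/
def T : Subgroup G := SW.T.comap P.θ
/-- the normal four-group -/
def InZ (g : G) : Prop := P.θ g = 1 ∨ P.θ g = neg

theorem mem_S {g : G} : g ∈ P.S ↔ P.θ g ∈ SW.S := Iff.rfl
theorem mem_A {g : G} : g ∈ P.A ↔ P.θ g ∈ SW.A := Iff.rfl
theorem mem_T {g : G} : g ∈ P.T ↔ P.θ g ∈ SW.T := Iff.rfl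

theorem inZ {g : G} : P.InZ g ↔ g = 1 ∨ g = P.z ∨ g = P.v ∨ g = P.v * P.z := by
  refine ⟨fun h => ?_, by rintro (rfl | rfl | rfl | rfl) <;> simp [InZ]⟩
  rcases h with h | h
  · exact (P.ker g h).imp_right .inl
  · exact .inr (.inr (P.eq_or (h.trans P.θv.symm)))

theorem invol_S {t : G} (h : t ∈ P.S) (ht : t * t = 1) :
    P.InZ t ∨ (P.θ t).p ≠ 1 ∧ ∃ k, P.θ (k * t * k⁻¹) = t0 := by
  rcases d4 _ h (by rw [← map_mul, ht, map_one]) with e | e | ⟨i, j, h1, e⟩ | ⟨i, j, k, e⟩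
  · exact .inl (.inl e)
  · exact .inl (.inr e)
  · have := P.sq2 h1
    rcases P.eq_or (g := t) (h := P.x i * P.x j) (by simpa using e) with rfl | rfl
    · exact absurd (this.symm.trans ht) P.z1
    · rw [P.cz, mul_assoc, P.r3 (_ * _), P.r4, this] at ht; exact absurd ht P.z1
  · obtain ⟨u, e⟩ : ∃ u, P.θ t = u * t0 * u⁻¹ := e.elim (⟨_, ·⟩) (⟨_, ·⟩)
    obtain ⟨k, rfl⟩ := P.surj u
    refine .inr ⟨fun e1 => ?_, k⁻¹, by simp [e, mul_assoc]⟩
    rw [e, mul_p, mul_p, inv_p, conj_eq_one_iff] at e1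
    exact absurd e1 (by decide)

theorem S_le_of_sq {M : Subgroup G} (h : ∀ k, k * P.v = P.v * k → k * k ∈ M) : P.S ≤ M := by
  have hz : P.z ∈ M := P.sq2 (i := 0) (j := 1) (by simp) ▸ h _ (P.comm_v.2 (by
    simp only [map_mul, θx]; decide))
  have hv : P.v ∈ M := by
    obtain ⟨k, hk⟩ := P.surj (t0 * (xi 0 * xi 1))
    have h1 := h k (P.comm_v.2 (by rw [hk]; decide))
    rcases P.eq_or (g := k * k) (h := P.v) (by rw [map_mul, hk, θv]; decide) with e | e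
    · exact e ▸ h1
    · exact (M.mul_mem_cancel_right hz).1 (e ▸ h1)
  have h3 : ∀ k, (P.θ k).lam = 0 → P.InZ (k ^ 3) → k ∈ M := fun k h1 h2 => by
    refine (M.mul_mem_cancel_left (h k (P.comm_v.2 h1))).1 ?_
    rw [← pow_three']
    rcases P.inZ.1 h2 with e | e | e | e <;> simp [e, hz, hv, mul_mem]
  obtain ⟨ρ, hρ⟩ := P.surj r
  intro s hs
  refine (M.mul_mem_cancel_right (h3 ρ (by rw [hρ]; decide) (.inl (by rw [map_pow, hρ]; decide)))).1
    (h3 _ ?_ (by simpa [InZ, hρ] using d5 _ hs))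
  rw [map_mul, lam_mul, hρ, lam, hs.1, hs.2.1]; decide

theorem no_move (h0 : ∀ a, P.θ a = t0 → a * a ≠ 1) {α : G → G} (hS : ∀ y ∈ P.S, α y ∈ P.S)
    (hm : ∀ y ∈ P.S, ∀ y' ∈ P.S, α (y * y') = α y * α y') (hz : P.θ (α P.z) = neg)
    (hZ : ∀ y ∈ P.S, P.InZ (α y) → P.InZ y) : False := by
  obtain ⟨a, ha⟩ := P.surj t0
  have k : ∀ {y}, y ∈ P.S → y * y = P.z → P.θ (α y) * P.θ (α y) = neg := fun hy e => by
    rw [← map_mul, ← hm _ hy _ hy, e, hz]
  have k' : ∀ {y}, y ∈ P.S → P.θ y * P.θ y = 1 → P.θ y ≠ 1 → P.θ y ≠ neg →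
      P.θ (α y) * P.θ (α y) = neg := fun {y} hy e h1 h2 => k hy ((P.ker _ (by
    rw [map_mul, e])).resolve_left fun e1 => by
      rcases P.invol_S hy e1 with h | ⟨-, g, h⟩
      exacts [h.elim h1 h2, h0 _ h (by rw [conj_mul, e1]; simp)])
  have m1 : P.x 0 * P.x 3 ∈ P.S := by simp only [mem_S, map_mul, θx]; decide
  have m2 : P.x 0 * P.x 1 ∈ P.S := by simp only [mem_S, map_mul, θx]; decide
  have m3 : a ∈ P.S := by simp only [mem_S, ha]; decide
  have one : P.θ (α 1) = 1 := by simpa using congrArg P.θ (hm 1 (one_mem _) 1 (one_mem _))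
  have fin : ∀ y ∈ P.S, P.InZ ((α y)⁻¹ * α a) → P.InZ (y⁻¹ * a) := fun y hy h =>
    hZ _ (mul_mem (inv_mem hy) m3) (by
      have := congrArg P.θ (hm _ (inv_mem hy) _ hy)
      rw [inv_mul_cancel, one, map_mul, eq_comm, mul_eq_one_iff_eq_inv] at this
      simpa only [InZ, hm _ (inv_mem hy) _ m3, map_mul, this, map_inv] using h)
  have := d6 _ (hS _ m1) (k m1 (P.sq2 (by simp))) _ (hS _ m2) (k m2 (P.sq2 (by simp))) (by
    rw [← map_mul, ← hm _ m1 _ m2]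
    refine k' (mul_mem m1 m2) ?_ ?_ ?_ <;> simp only [map_mul, θx] <;> decide) _ (hS _ m3)
    (by refine k' m3 ?_ ?_ ?_ <;> rw [ha] <;> decide) (by
    rw [← map_mul, ← hm _ m1 _ m3]
    refine k' (mul_mem m1 m3) ?_ ?_ ?_ <;> simp only [map_mul, θx, ha] <;> decide)
  rw [← or_assoc, ← map_mul, ← hm _ m1 _ m2] at this
  simp only [← map_inv, ← map_mul] at this
  rcases this with h | h
  · have := fin _ m2 h
    simp only [InZ, map_mul, map_inv, θx, ha] at this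
    exact absurd this (by decide)
  · have := fin _ (mul_mem m1 m2) h
    simp only [InZ, map_mul, map_inv, θx, ha] at this
    exact absurd this (by decide)

/-- coordinates on `S` -/
structure Co (F : Type*) [Field F] (w : F) where
  u : F → F → F → G
  mul : ∀ a b c a' b' c', u a b c * u a' b' c' = u (a + a') (b + b') (c + c' + a * b')
  inj1 : ∀ a b c, u a b c = 1 → a = 0 ∧ b = 0 ∧ c = 0
  memS : ∀ g, g ∈ P.S ↔ ∃ a b c, u a b c = g
  memA : ∀ g, g ∈ P.A ↔ ∃ a c, u a 0 c = g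
  uz : u 0 0 1 = P.z
  uv : u 0 0 w = P.v
  xc : ∀ a c, P.x 3 * u a 0 c * (P.x 3)⁻¹ = u 0 (a ^ 2) (c ^ 2)
  rho : ∃ ρ, P.θ ρ = r ∧ ∀ a b c, ρ * u a b c * ρ⁻¹ = u (w * a) (w ^ 2 * b) c

theorem exists_co (hF : Nat.card F = 4) {w : F} (hw : w ^ 2 + w + 1 = 0) {a : G} (ha : P.θ a = t0)
    (ha2 : a * a = 1) : Nonempty (P.Co F w) := by
  have two := f_two hF
  obtain ⟨ρ, hρ⟩ := P.surj r
  have r3 : ∀ g, ρ * (ρ * (ρ * g * ρ⁻¹) * ρ⁻¹) * ρ⁻¹ = g := fun g => by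
    rw [show ρ * (ρ * (ρ * g * ρ⁻¹) * ρ⁻¹) * ρ⁻¹ = ρ ^ 3 * g * (ρ ^ 3)⁻¹ by simp only [pow_three]; group]
    rcases P.ker (ρ ^ 3) (by rw [map_pow, hρ]; decide) with e | e <;> simp [e, ← P.cz]
  have cz : ∀ g k, k * (g * P.z) * k⁻¹ = k * g * k⁻¹ * P.z := fun g k => by
    rw [← mul_assoc, mul_assoc _ _ k⁻¹, ← P.cz, mul_assoc, mul_assoc, mul_assoc]
  obtain ⟨a, ha, ha2, h3⟩ : ∃ a, P.θ a = t0 ∧ a * a = 1 ∧
      ρ * (ρ * a * ρ⁻¹) * ρ⁻¹ = a * (ρ * a * ρ⁻¹) := by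
    rcases P.eq_or (g := ρ * (ρ * a * ρ⁻¹) * ρ⁻¹) (h := a * (ρ * a * ρ⁻¹)) (by
      simp only [map_mul, map_inv, ha, hρ]; decide) with e | e
    · exact ⟨a, ha, ha2, e⟩
    · refine ⟨a * P.z, by simp [ha], by rw [P.cz, mul_assoc, P.r3 a, P.r4, ha2], ?_⟩
      rw [cz, cz, e, P.cz a, P.cz (ρ * a * ρ⁻¹)]
      simp only [mul_assoc, P.zz, mul_one, P.r3 a, P.r4]
  obtain ⟨b, hb⟩ : ∃ b, b = ρ * a * ρ⁻¹ := ⟨_, rfl⟩
  rw [← hb] at h3
  have hb2 : b * b = 1 := by rw [hb, conj_mul, ha2]; simp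
  have θb : P.θ b = r * t0 * r⁻¹ := by simp [hb, ha, hρ]
  have ba : b * a = a * b := by
    have : a * b * (a * b) = 1 := by rw [← h3, conj_mul, hb2]; simp
    rw [← inv_eq_of_mul_eq_one_right this, mul_inv_rev, inv_eq_of_mul_eq_one_right ha2,
      inv_eq_of_mul_eq_one_right hb2]
  have zv : P.v * P.z = P.z * P.v := P.cz _
  obtain ⟨α, α1, α2, α3⟩ := exists_add hF hw ha2 hb2 ba
  obtain ⟨ζ, ζ1, ζ2, ζ3⟩ := exists_add hF hw P.zz P.vv zv
  have α0 : α 0 = 1 := by simpa using α1 0 0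
  have ζ0 : ζ 0 = 1 := by simpa using ζ1 0 0
  have w2 : w ^ 2 = w + 1 := by linear_combination hw - (w + 1) * two
  have w3 : (w + 1) ^ 2 = w := by linear_combination hw
  have w4 : w * (w + 1) = 1 := by linear_combination hw - two
  have ind : ∀ {Q : F → Prop}, Q 0 → Q 1 → Q w → Q (w + 1) → ∀ s, Q s := fun h0 h1 h2 h3 s => by
    rcases f_cases hF hw s with e | e | e | e <;> rwa [e]
  have θζ : ∀ c, P.InZ (ζ c) := ind (by simp [ζ0, InZ]) (by simp [ζ2, InZ]) (by simp [ζ3, InZ])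
    (by simp [ζ1, ζ2, ζ3, InZ])
  have cζ : ∀ c g, (P.θ g).lam = 0 → g * ζ c = ζ c * g := fun c g hg => by
    rcases P.inZ.1 (θζ c) with e | e | e | e <;> rw [e]
    exacts [by simp, P.cz g, P.comm_v.2 hg, Commute.mul_right (P.comm_v.2 hg) (P.cz g)]
  have αA : ∀ s, P.θ (α s) ∈ SW.A := by
    refine ind ?_ ?_ ?_ ?_ <;> simp only [α0, α1, α2, α3, map_mul, map_one, ha, θb] <;> decide
  have ζA : ∀ s, P.θ (ζ s) ∈ SW.A := fun s => by rcases θζ s with e | e <;> rw [e] <;> decide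
  have lamS : ∀ {w}, w ∈ SW.S → w.lam = 0 := fun h => by simp [lam, h.1, h.2.1]
  obtain ⟨β, hβ⟩ : ∃ β : F → G, ∀ s, β s = P.x 3 * α (s ^ 2) * (P.x 3)⁻¹ := ⟨_, fun _ => rfl⟩
  have sq : ∀ s t : F, (s + t) ^ 2 = s ^ 2 + t ^ 2 := fun s t => by linear_combination s * t * two
  have β1 : ∀ s t, β (s + t) = β s * β t := fun s t => by rw [hβ, hβ, hβ, sq, α1, conj_mul]
  have β0 : β 0 = 1 := by simpa using β1 0 0
  have βS : ∀ s, P.θ (β s) ∈ SW.S := fun s => by simpa [hβ] using d16 _ (αA _).1 _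
  have ax : ∀ (g : G) (π : Perm (Fin 4)), P.θ g = ⟨π, fun _ => 0⟩ → ∀ i j r, π i = j →
      g * (P.x i * r) = P.x j * (g * r) := fun g π hg i j r e => by
    have := P.act g i
    rw [hg, mul_inv_eq_iff_eq_mul] at this
    rw [← mul_assoc, this, ← e]; simp [mul_assoc]
  have a0 := fun r => ax a _ ha 0 3 r rfl
  have a1 := fun r => ax a _ ha 1 2 r rfl
  have a2 := fun r => ax a _ ha 2 1 r rfl
  have a3 := fun r => ax a _ ha 3 0 r rfl
  have θb' : P.θ b = ⟨pm 2 3 0 1 2 3 0 1, fun _ => 0⟩ := θb.trans (by decide)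
  have b0 := fun r => ax b _ θb' 0 2 r rfl
  have b1 := fun r => ax b _ θb' 1 3 r rfl
  have b2 := fun r => ax b _ θb' 2 0 r rfl
  have b3 := fun r => ax b _ θb' 3 1 r rfl
  have aa : ∀ r, a * (a * r) = r := fun r => by rw [← mul_assoc, ha2, one_mul]
  have bb : ∀ r, b * (b * r) = r := fun r => by rw [← mul_assoc, hb2, one_mul]
  have ba' : ∀ r, b * (a * r) = a * (b * r) := fun r => by rw [← mul_assoc, ba, mul_assoc]
  have rel : ∀ s t, α s * β t = ζ (s * t) * (β t * α s) := by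
    have k1 : ∀ s, (∀ t ∈ ({1, w} : Set F), α s * β t = ζ (s * t) * (β t * α s)) → ∀ t,
        α s * β t = ζ (s * t) * (β t * α s) := fun s h => by
      refine ind (by simp [β0, ζ0]) (h 1 (by simp)) (h w (by simp)) ?_
      rw [β1, ← mul_assoc, h w (by simp), mul_assoc, mul_assoc, h 1 (by simp), mul_add, ζ1,
        ← mul_assoc (β w), cζ _ _ (lamS (βS w))]
      simp only [mul_assoc]
    have k2 : ∀ s ∈ ({1, w} : Set F), ∀ t, α s * β t = ζ (s * t) * (β t * α s) := by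
      have ww : w * w = w + 1 := by rw [← w2, pow_two]
      rintro s (e | e) <;> refine k1 _ ?_ <;> rintro t (e' | e') <;>
        rw [e, e', ← mul_one (_ * β _), ← mul_one (ζ _ * _)] <;>
        simp only [hβ, one_pow, mul_one (1 : F), one_mul, mul_one w, ww, w2, α1, α2, α3, ζ1, ζ2, ζ3,
          v, mul_assoc, P.xinv, a0, a1, a2, a3, b0, b1, b2, b3, aa, bb, ba', P.r3 a, P.r3 b] <;>
        simp [P.r1, P.r1', P.r2, P.r4, P.r5]
    intro s t
    refine ind (Q := fun s => α s * β t = ζ (s * t) * (β t * α s)) (by simp [α0, ζ0])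
      (k2 1 (by simp) t) (k2 w (by simp) t) ?_ s
    rw [α1, mul_assoc, k2 1 (by simp), ← mul_assoc, cζ _ _ (lamS (αA w).1), mul_assoc,
      ← mul_assoc (α w), k2 w (by simp), add_mul, add_comm, ζ1]
    simp only [mul_assoc]
  obtain ⟨u, hu⟩ : ∃ u : F → F → F → G, ∀ s t c, u s t c = ζ c * (β t * α s) := ⟨_, fun _ _ _ => rfl⟩
  have mul : ∀ a b c a' b' c', u a b c * u a' b' c' = u (a + a') (b + b') (c + c' + a * b') := by
    intro s t c s' t' c'
    simp only [hu, α1, β1, ζ1, mul_assoc]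
    rw [← mul_assoc (α s), cζ _ _ (lamS (αA s).1), ← mul_assoc (β t), ← mul_assoc (β t),
      cζ _ _ (lamS (βS t)), mul_assoc, mul_assoc, ← mul_assoc (α s), rel, ← mul_assoc (β t),
      ← mul_assoc (β t), cζ _ _ (lamS (βS t))]
    simp only [mul_assoc]
  have uS : ∀ s t c, u s t c ∈ P.S := fun s t c => by
    rw [hu]; exact mul_mem (ζA c).1 (mul_mem (βS t) (αA s).1)
  have uA : ∀ s t c, u s t c ∈ P.A → t = 0 := fun s t c h => by
    rw [hu, P.A.mul_mem_cancel_left (ζA c), P.A.mul_mem_cancel_right (αA s), mem_A] at h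
    revert h t
    refine ind (fun _ => rfl) ?_ ?_ ?_ <;>
      simp only [hβ, one_pow, w2, w3, α1, α2, α3, map_mul, map_inv, θx, ha, θb] <;>
      exact fun h => absurd h (by decide)
  let R := (MonoidHom.mk' (fun x : Heis3 F => u x.a x.b x.c) fun x y => (mul ..).symm).range
  have R1 : ∀ s, α s ∈ R := fun s => ⟨⟨s, 0, 0⟩, by simp [hu, β0, ζ0]⟩
  have R2 : ∀ s, β s ∈ R := fun s => ⟨⟨0, s, 0⟩, by simp [hu, α0, ζ0]⟩
  have R3 : ∀ s, ζ s ∈ R := fun s => ⟨⟨0, 0, s⟩, by simp [hu, α0, β0]⟩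
  have AR : P.A ≤ R := fun g hg => by
    obtain ⟨i, j, k, e⟩ := d11 _ hg
    have : iv a i * iv b j * iv P.v k ∈ R :=
      mul_mem (mul_mem (pow_mem (α2 ▸ R1 1) _) (pow_mem (α3 ▸ R1 w) _)) (pow_mem (ζ3 ▸ R3 w) _)
    rcases P.eq_or (g := g) (h := iv a i * iv b j * iv P.v k) (by simp [e, θiv, ha, θb]) with e | e
    exacts [e ▸ this, e ▸ mul_mem this (ζ2 ▸ R3 1)]
  have SR : P.S ≤ R := fun g hg => by
    obtain ⟨i, j, e⟩ := d12 _ hg
    have h1 : P.x 0 * P.x 3 ∈ R := by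
      have := mul_mem (R1 1) (R2 1)
      rwa [hβ, one_pow, α2, mul_assoc, a3, aa, P.xinv] at this
    have h2 : P.x 1 * P.x 3 ∈ R := by
      have := mul_mem (R1 w) (R2 (w + 1))
      rwa [hβ, w3, α3, mul_assoc, b3, bb, P.xinv] at this
    exact (R.mul_mem_cancel_right (pow_mem h1 _)).1 ((R.mul_mem_cancel_right (pow_mem h2 _)).1
      (AR (x := g * iv _ i * iv _ j) (by simpa [mem_A, θiv] using e)))
  refine ⟨⟨u, mul, fun s t c h => ?_, fun g => ⟨fun h => ?_, ?_⟩, fun g => ⟨fun h => ?_, ?_⟩,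
    by simp [hu, α0, β0, ζ2], by simp [hu, α0, β0, ζ3], fun s c => ?_, ρ, hρ, fun s t c => ?_⟩⟩
  · obtain rfl := uA s t c (h ▸ one_mem _)
    rw [hu, β0, one_mul] at h
    have h1 : s = 0 := by
      have := θζ c
      rw [eq_inv_of_mul_eq_one_left h] at this
      revert this s
      refine ind (fun _ _ => rfl) ?_ ?_ ?_ <;>
        simp only [InZ, α1, α2, α3, map_mul, map_inv, ha, θb] <;> exact fun _ h => absurd h (by decide)
    rw [h1, α0, mul_one] at h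
    refine ⟨h1, rfl, ?_⟩
    have h2 : ∀ g, P.θ g = neg → g ≠ 1 := fun g e e' => by rw [e', map_one] at e; revert e; decide
    revert h c
    exact ind (fun _ => rfl) (fun e => absurd (ζ2 ▸ e) P.z1) (fun e => absurd e (h2 _ (by simp [ζ3])))
      fun e => absurd e (h2 _ (by simp [ζ1, ζ2, ζ3]))
  · obtain ⟨x, rfl⟩ := SR h; exact ⟨_, _, _, rfl⟩
  · rintro ⟨s, t, c, rfl⟩; exact uS ..
  · obtain ⟨⟨s, t, c⟩, rfl⟩ := AR h
    obtain rfl := uA _ _ _ h
    exact ⟨_, _, rfl⟩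
  · rintro ⟨s, c, rfl⟩; rw [hu, β0, one_mul]; exact mul_mem (ζA c) (αA s)
  · rw [hu, hu, β0, α0, one_mul, mul_one, hβ, ← pow_mul, f_pow hF, ← conj_mul]
    congr 1
    have : P.x 3 * P.v * (P.x 3)⁻¹ = P.v * P.z := by rw [conj_v, θx, show (xi 3).lam = 1 by decide, iv_one]
    revert c
    refine ind (by simp [ζ0]) (by simp [ζ2, P.cz]) (by rw [w2, ζ1, ζ2, ζ3, this]) ?_
    rw [w3, ζ1, ζ2, ζ3, cz, this, mul_assoc, P.zz, mul_one]
  · have k1 : ∀ s, ρ * α s * ρ⁻¹ = α (w * s) := ind (by simp [α0]) (by simp [α2, α3, hb])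
      (by rw [← pow_two, w2, α1, α2, α3, h3, ba]) (by
        rw [w4, α1, α2, α3, ba, ← h3, hb, r3])
    have k2 : ρ * P.x 3 * ρ⁻¹ = P.x 3 := by rw [P.act, hρ]; exact (congrArg _ (iv_zero _)).trans (mul_one _)
    rw [hu, hu, ← conj_mul, ← conj_mul, k1, cζ _ _ (by rw [hρ]; decide), mul_inv_cancel_right, hβ, hβ,
      ← conj_mul, ← conj_mul, k1, ← conj_inv, k2, mul_pow, ← pow_mul, f_pow hF]

end SP

end Cfsg.Lib.L34
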