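import Cfsg.Agent.Lib.L34.X2
import Cfsg.Agent.Lib.Transfer.Alperin
import Cfsg.Agent.Lib.InvChar.Basic
import Cfsg.Agent.Lib.BSW.Local

/-!
# Fusion in a group with involution centralizer `2^(1+4)_-.S₄`
-/

set_option autoImplicit false
set_option linter.unusedSectionVars false

namespace Cfsg.Lib.L34
open Subgroup Cfsg.Lib Cfsg.Lib.FT Equiv SW

variable {Γ : Type*} [Group Γ] {F : Type*} [Field F]

namespace SP
variable {P : SP Γ}

theorem InZ.conj {g k : Γ} (h : P.InZ g) : P.InZ (k * g * k⁻¹) := by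
  rcases h with h | h <;> simp [InZ, h, (d14 _).1]

theorem σ_conj (u w : SW) : (u * w * u⁻¹).σ = w.σ ∧ (u * w * u⁻¹).ε = w.ε :=
  φ_eq.1 (by simp [mul_comm (φ u)])

/-- the properties of the two `E₁₆` -/
structure Good (P : SP Γ) (A : Subgroup Γ) : Prop where
  card : Nat.card A = 16
  comm : ∀ a ∈ A, ∀ b ∈ A, a * b = b * a
  le : A ≤ P.S
  loc : ∀ d ∈ A, ¬ P.InZ d → ∀ y, y * d = d * y → (P.θ y).σ = 0 ∧ ((P.θ y).ε = 0 → y ∈ A) ∧
    (y ∉ A → ∀ k ∈ A, k * y = y * k → k = 1 ∨ k = P.z ∨ k = d⁻¹ ∨ k = d⁻¹ * P.z)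

theorem Good.conj {A : Subgroup Γ} (h : P.Good A) (g : Γ) : P.Good (g •ᶜ A) := by
  refine ⟨by rw [card_map_of_injective (MulAut.conj g).injective, h.card], ?_, ?_, ?_⟩
  · rintro _ ⟨a, ha, rfl⟩ _ ⟨b, hb, rfl⟩
    rw [← map_mul, h.comm a ha b hb, map_mul]
  · rintro _ ⟨a, ha, rfl⟩
    simpa [mem_S] using d16 _ (h.le ha) _
  rintro _ ⟨d, hd, rfl⟩ h1 y h2
  obtain ⟨y, rfl⟩ := (MulAut.conj g).surjective y
  simp only [MulEquiv.coe_toMonoidHom, MulAut.conj_apply, conj_mul, mul_left_inj, mul_right_inj] at h1 h2 ⊢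
  obtain ⟨h3, h4, h5⟩ := h.loc d hd (fun e => h1 e.conj) y h2
  simp only [map_mul, map_inv, σ_conj, conj_mem_conj_iff]
  refine ⟨h3, h4, ?_⟩
  rintro h6 _ ⟨k, hk, rfl⟩ h7
  simp only [MulEquiv.coe_toMonoidHom, MulAut.conj_apply, conj_mul, mul_left_inj, mul_right_inj] at h7 ⊢
  rcases h5 h6 k hk h7 with e | e | e | e <;> simp [e, mul_assoc, P.cz g, ← P.cz g⁻¹]

namespace Co
variable {w : F} (C : P.Co F w) (hF : Nat.card F = 4)

/-- coordinates in the abstract Sylow subgroup -/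
def ut : UT F P.S where
  u a b c := ⟨C.u a b c, (C.memS _).2 ⟨_, _, _, rfl⟩⟩
  mul a b c a' b' c' := Subtype.ext (C.mul ..)
  inj1 a b c h := C.inj1 _ _ _ (congrArg Subtype.val h)
  hF := hF
  max _ _ _ x _ := let ⟨a, b, c, e⟩ := (C.memS _).1 x.2; ⟨a, b, c, Subtype.ext e⟩

include hF in
theorem u_inj {a b c a' b' c' : F} : C.u a b c = C.u a' b' c' ↔ a = a' ∧ b = b' ∧ c = c' :=
  Subtype.ext_iff.symm.trans (C.ut hF).u_inj

include hF in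
theorem inZ (hw : w ^ 2 + w + 1 = 0) (c : F) : P.InZ (C.u 0 0 c) := by
  have e1 : C.u 0 0 0 = 1 := congrArg Subtype.val (C.ut hF).u_zero
  have e2 : C.u 0 0 (w + 1) = P.v * P.z := by rw [← C.uv, ← C.uz, C.mul]; simp
  rcases f_cases hF hw c with e | e | e | e <;> simp [e, e1, e2, C.uz, C.uv, InZ]

include C hF in
theorem good (hw : w ^ 2 + w + 1 = 0) : P.Good P.A := by
  refine ⟨?_, fun a ha b hb => ?_, fun _ h => h.1, fun d hd h1 y h2 => ?_⟩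
  · rw [Nat.card_congr (Equiv.ofBijective (fun p : F × F =>
      (⟨C.u p.1 0 p.2, (C.memA _).2 ⟨_, _, rfl⟩⟩ : P.A))
      ⟨fun p q h => by simpa [C.u_inj hF, Prod.ext_iff] using h, fun x =>
        let ⟨a, c, e⟩ := (C.memA _).1 x.2; ⟨(a, c), Subtype.ext e⟩⟩).symm, Nat.card_prod, hF]
  · obtain ⟨a, c, rfl⟩ := (C.memA _).1 ha
    obtain ⟨a', c', rfl⟩ := (C.memA _).1 hb
    simp [C.mul, add_comm]
  obtain ⟨h3, h4, h5⟩ := d7 _ hd (fun e => h1 (.inl e)) (fun e => h1 (.inr e)) (P.θ y)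
    (by rw [← map_mul, h2, map_mul])
  have h6 : (P.θ y).ε = 0 → y ∈ P.A := fun e => by
    obtain ⟨a, b, c, rfl⟩ := (C.memS _).1 (h4 e)
    obtain ⟨a', c', rfl⟩ := (C.memA _).1 hd
    rw [C.mul, C.mul, C.u_inj hF] at h2
    obtain rfl : b = 0 := (mul_eq_zero.1 (show a' * b = 0 by linear_combination -h2.2.2)).resolve_left
      fun e => h1 (e ▸ C.inZ hF hw c')
    exact (C.memA _).2 ⟨_, _, rfl⟩
  refine ⟨h3, h6, fun h7 k hk e => ?_⟩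
  have h8 : ∀ m, P.InZ m → m * y = y * m → m = 1 ∨ m = P.z := fun m hm e => by
    have : y * P.v ≠ P.v * y := fun e => h7 (h6 (by simpa [lam, h3] using P.comm_v.1 e))
    rcases P.inZ.1 hm with rfl | rfl | rfl | rfl
    exacts [.inl rfl, .inr rfl, absurd e.symm this, absurd (by
      rwa [mul_assoc, ← P.cz, ← mul_assoc, ← mul_assoc, mul_left_inj, eq_comm] at e) this]
  rcases or_assoc.2 (h5 (mt h6 h7) _ hk (by rw [← map_mul, e, map_mul])) with e1 | e1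
  · exact (h8 k e1 e).imp_right .inl
  · rw [← map_mul] at e1
    refine .inr (.inr ((h8 _ e1 (by rw [mul_assoc, e, ← mul_assoc, ← h2, mul_assoc])).imp
      (fun e => eq_inv_of_mul_eq_one_right e) fun e => by rw [← e]; simp))

end Co

theorem pow8 {s : Γ} (h : s ∈ P.S) : s ^ 8 = 1 := by
  have : P.θ (s ^ 4) = 1 := by
    rw [map_pow, show P.θ s ^ 4 = (P.θ s * P.θ s) ^ 2 by simp only [pow_succ, pow_zero, one_mul, mul_assoc]]
    rcases (d14 _).2 h with e | e <;> rw [e] <;> decide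
  rw [show 8 = 4 * 2 from rfl, pow_mul]
  rcases P.ker _ this with e | e <;> simp [e, sq, P.zz]

theorem xT (i : Fin 4) : P.x i ∈ P.T := by rw [mem_T, θx]; revert i; decide

theorem InZ.neg {t : Γ} (h : P.InZ t) (h1 : t ≠ 1) (h2 : t ≠ P.z) : P.θ t = neg :=
  h.resolve_left fun e => (P.ker t e).elim h1 h2

theorem comm_iff {t k : Γ} (h : P.θ t = neg) : k * t = t * k ↔ k * P.v = P.v * k := by
  rcases P.eq_or (h.trans P.θv.symm) with rfl | rfl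
  · rfl
  · rw [mul_assoc, ← P.cz, ← mul_assoc, ← mul_assoc, mul_left_inj]

variable {G : Type*} [Group G] [Finite G]

/-- `Γ` is the centralizer of `z` -/
structure In (P : SP Γ) (ι : Γ →* G) : Prop where
  inj : Function.Injective ι
  rng : ∀ y, y * ι P.z = ι P.z * y → ∃ k, ι k = y

namespace In
variable {ι : Γ →* G} (h : P.In ι)
include h

theorem cm {a b : Γ} : ι a * ι b = ι b * ι a ↔ a * b = b * a := by
  rw [← map_mul, ← map_mul, h.inj.eq_iff]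

theorem syl : ∃ T : Sylow 2 G, (T : Subgroup G) = P.T.map ι := by
  refine IC.exists_sylow_of_normalizer (IsPGroup.map (fun g => ⟨4, Subtype.ext ?_⟩) _)
    fun _ _ _ g _ hg => ?_
  · change g.1 ^ (8 * 2) = 1
    rw [pow_mul]
    rcases P.ker (g.1 ^ 8) (by rw [map_pow, (d10 _ g.2).1]) with e | e <;> simp [e, sq, P.zz]
  obtain ⟨k, -, e⟩ := (mem_normalizer_iff.1 hg (ι P.z)).1 ⟨_, by simp [mem_T], rfl⟩
  obtain rfl : k = P.z := (P.eq_of_comm fun i => h.cm.1 (e ▸ (IC.comm_conj_of_mem_normalizer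
    (by rintro _ ⟨y, -, rfl⟩; exact h.cm.2 (P.cz y)) hg ⟨_, xT i, rfl⟩).symm)).resolve_left fun e1 => by
      rw [e1, map_one, eq_comm, conj_eq_one_iff, ← map_one ι, h.inj.eq_iff] at e
      exact P.z1 e
  obtain ⟨m, rfl⟩ := h.rng g (mul_inv_eq_iff_eq_mul.1 e.symm)
  refine ⟨m, d9 _ fun u hu => ?_, rfl⟩
  obtain ⟨y, rfl⟩ := P.surj u
  have : y ∈ P.T := by rcases hu with e | e <;> rw [mem_T, e] <;> decide
  obtain ⟨y', h1, e⟩ := (mem_normalizer_iff.1 hg (ι y)).1 ⟨_, this, rfl⟩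
  rw [← map_inv, ← map_mul, ← map_mul, h.inj.eq_iff] at e
  simpa [e, mem_T] using h1

theorem back {g : G} {t : Γ} (e : g * ι P.z * g⁻¹ = ι t) : ∃ t', g⁻¹ * ι P.z * g⁻¹⁻¹ = ι t' := by
  obtain ⟨t', e1⟩ := h.rng (g⁻¹ * ι P.z * g⁻¹⁻¹) (by
    have := h.cm.2 (P.cz t)
    rw [← e] at this
    calc _ = g⁻¹ * (ι P.z * (g * ι P.z * g⁻¹)) * g := by group
      _ = _ := by rw [← this]; group)
  exact ⟨t', e1.symm⟩

theorem fwd {g : G} {t' k : Γ} (e : g⁻¹ * ι P.z * g⁻¹⁻¹ = ι t') (hk : k * t' = t' * k) :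
    ∃ k', g * ι k * g⁻¹ = ι k' := by
  obtain ⟨k', e1⟩ := h.rng (g * ι k * g⁻¹) (by
    have := h.cm.2 hk
    rw [← e] at this
    calc _ = g * (ι k * (g⁻¹ * ι P.z * g⁻¹⁻¹)) * g⁻¹ := by group
      _ = _ := by rw [this]; group)
  exact ⟨k', e1.symm⟩

theorem cj_mul {g : G} {a b a' b' : Γ} (e1 : g * ι a * g⁻¹ = ι a') (e2 : g * ι b * g⁻¹ = ι b') :
    g * ι (a * b) * g⁻¹ = ι (a' * b') := by rw [map_mul, map_mul, ← e1, ← e2, conj_mul]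

theorem cj_eq {g : G} {a b a' b' : Γ} (e1 : g * ι a * g⁻¹ = ι a') (e2 : g * ι b * g⁻¹ = ι b') :
    a' = b' ↔ a = b := by
  rw [← h.inj.eq_iff, ← e1, ← e2, mul_left_inj, mul_right_inj, h.inj.eq_iff]

theorem cj_one (g : G) : g * ι 1 * g⁻¹ = ι 1 := by simp

theorem cj_symm {g : G} {a a' : Γ} (e1 : g * ι a * g⁻¹ = ι a') : g⁻¹ * ι a' * g⁻¹⁻¹ = ι a := by
  rw [← e1]; group

theorem conj_S {g : G} {t : Γ} (e : g * ι P.z * g⁻¹ = ι t) : t ∈ P.S ∧ t * t = 1 ∧ t ≠ 1 := by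
  have k : ∀ {g : G} {t : Γ}, g * ι P.z * g⁻¹ = ι t → t * t = 1 := fun e =>
    (h.cj_eq (h.cj_mul e e) (h.cj_one _)).2 P.zz
  obtain ⟨t', e'⟩ := h.back e
  obtain ⟨k1, h1, h2⟩ := P.sq_root (k e')
  obtain ⟨k', e1⟩ := h.fwd e' h1
  obtain rfl : k' * k' = t := (h.cj_eq (h.cj_mul e1 e1) e).2 h2
  refine ⟨?_, k e, mt (h.cj_eq e (h.cj_one _)).1 P.z1⟩
  simpa [mem_S] using d3 (P.θ k') (by simp only [← map_mul, k e, map_one])

theorem norm_S {g : G} {t t' : Γ} (e : g * ι P.z * g⁻¹ = ι t) (e' : g⁻¹ * ι P.z * g⁻¹⁻¹ = ι t')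
    (h1 : P.θ t = neg) (h2 : P.θ t' = neg) {s : Γ} (hs : s ∈ P.S) :
    ∃ s' ∈ P.S, g * ι s * g⁻¹ = ι s' := by
  let M : Subgroup Γ :=
    { carrier := {k | ∃ k', g * ι k * g⁻¹ = ι k' ∧ φ (P.θ k') = 1}
      one_mem' := ⟨1, h.cj_one g, by simp⟩
      mul_mem' := fun ⟨_, e1, h1⟩ ⟨_, e2, h2⟩ => ⟨_, h.cj_mul e1 e2, by simp [h1, h2]⟩
      inv_mem' := fun ⟨k, e1, h1⟩ => ⟨k⁻¹, by rw [map_inv, map_inv, ← e1, conj_inv], by simp [h1]⟩ }
  obtain ⟨s', e1, h3⟩ := P.S_le_of_sq (M := M) (fun k hk => by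
    obtain ⟨k', e1⟩ := h.fwd e' ((comm_iff h2).2 hk)
    refine ⟨_, h.cj_mul e1 e1, ?_⟩
    rw [map_mul, map_mul]
    generalize φ (P.θ k') = y
    revert y; decide) hs
  obtain ⟨h4, h5⟩ := φ_eq.1 (h3.trans (map_one φ).symm)
  refine ⟨s', d13 _ h5 (by rw [lam, h4, h5]; rfl) ?_, e1⟩
  rw [← map_pow, show s' ^ 8 = 1 from h.inj (by
    rw [map_pow, ← e1, conj_pow, ← map_pow, pow8 hs]; simp), map_one]

theorem exists_a {g : G} {t : Γ} (e : g * ι P.z * g⁻¹ = ι t) (h1 : t ≠ P.z) :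
    ∃ a, P.θ a = t0 ∧ a * a = 1 := by
  by_contra! h0
  have k : ∀ {g : G} {t : Γ}, g * ι P.z * g⁻¹ = ι t → t ≠ P.z → P.θ t = neg := fun e h1 => by
    obtain ⟨h2, h3, h4⟩ := h.conj_S e
    refine ((P.invol_S h2 h3).resolve_right fun ⟨_, k, hk⟩ => h0 _ hk ?_).neg h4 h1
    rw [conj_mul, h3]; simp
  obtain ⟨t', e'⟩ := h.back e
  have h2 := k e h1
  have h3 := k e' fun e1 => h1 ((h.cj_eq e' (h.cj_symm e)).1 e1).symm
  choose! α α1 α2 using fun s hs => h.norm_S e e' h2 h3 (s := s) hs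
  have hz : P.z ∈ P.S := by simp [mem_S]
  refine P.no_move h0 α1 (fun y hy y' hy' =>
    (h.cj_eq (α2 _ (mul_mem hy hy')) (h.cj_mul (α2 _ hy) (α2 _ hy'))).2 rfl)
    (by rw [(h.cj_eq (α2 _ hz) e).2 rfl, h2]) fun y hy h4 => ?_
  have e2 := h.cj_symm e'
  simp only [inv_inv] at e2
  rcases h4 with h4 | h4
  · rcases P.ker _ h4 with e1 | e1
    · rw [(h.cj_eq (α2 _ hy) (h.cj_one _)).1 e1]; simp [InZ]
    · rw [(h.cj_eq (α2 _ hy) e2).1 e1]; exact .inr h3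
  · rcases P.eq_or (h4.trans h2.symm) with e1 | e1
    · rw [(h.cj_eq (α2 _ hy) e).1 e1]; simp [InZ]
    · rw [(h.cj_eq (α2 _ hy) (h.cj_mul e e2)).1 e1]; exact .inr (by simpa)

theorem normA {A : Subgroup Γ} (hA : P.Good A) {d : Γ} (hd : d ∈ A) (hd' : ¬ P.InZ d) {n : G}
    (hn : ∀ a ∈ A, ∃ a', n * ι a * n⁻¹ = ι a' ∧ a' * d = d * a') {a a' : Γ} (ha : a ∈ A)
    (e : n * ι a * n⁻¹ = ι a') : a' ∈ A := by
  classical
  by_contra hy
  choose! f f1 f2 using hn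
  have h1 : a' * d = d * a' := (h.cj_eq (f1 a ha) e).2 rfl ▸ f2 a ha
  obtain ⟨-, h2, h3⟩ := hA.loc d hd hd' a' h1
  let s : Finset Γ := {1, P.z, d⁻¹, d⁻¹ * P.z}
  have h4 : ∀ b ∈ A, f b ∈ s ∪ s.image (· * a'⁻¹) := fun b hb => by
    have h5 : f b * a' = a' * f b :=
      (h.cj_eq (h.cj_mul (f1 b hb) e) (h.cj_mul e (f1 b hb))).2 (hA.comm _ hb _ ha)
    by_cases h6 : f b ∈ A
    · exact Finset.mem_union_left _ (by simpa [s] using h3 hy _ h6 h5)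
    refine Finset.mem_union_right _ (Finset.mem_image.2 ⟨f b * a', ?_, by simp⟩)
    have h7 := (hA.loc d hd hd' (f b * a') (Commute.mul_left (f2 b hb) h1)).2.1 (by
      rw [map_mul, ε_mul, (h9_zmod2_cases _).resolve_left (mt h2 hy), (h9_zmod2_cases _).resolve_left
        (mt (hA.loc d hd hd' _ (f2 b hb)).2.1 h6)]; rfl)
    simpa [s] using h3 hy _ h7 (Commute.mul_left h5 rfl)
  have h5 := Nat.card_le_card_of_injective (fun b : A => (⟨f b, h4 b b.2⟩ : ↥(s ∪ s.image (· * a'⁻¹))))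
    fun b b' e => Subtype.ext ((h.cj_eq (f1 _ b.2) (f1 _ b'.2)).1 (congrArg Subtype.val e))
  have h6 := Finset.card_union_le s (s.image (· * a'⁻¹))
  have h7 := Finset.card_image_le (s := s) (f := (· * a'⁻¹))
  have h8 : s.card ≤ 4 := Finset.card_le_four
  rw [hA.card, Nat.card_eq_fintype_card, Fintype.card_coe] at h5
  omega

theorem base (hA : P.Good P.A) {Q : Subgroup G} (hQ : Q ≤ P.T.map ι) (hz : ι P.z ∈ Q) {g : G}
    (hg : g ∈ N[Q]) {k : Γ} (hk : ι k ∈ Q) : ∃ k', g * ι k * g⁻¹ = ι k' ∧ φ (P.θ k') = φ (P.θ k) := by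
  by_cases hc : g * ι P.z = ι P.z * g
  · obtain ⟨m, rfl⟩ := h.rng g hc
    exact ⟨m * k * m⁻¹, by simp, φ_eq.2 (by simpa using σ_conj ..)⟩
  have cj : ∀ {n k}, n ∈ N[Q] → ι k ∈ Q → ∃ k', n * ι k * n⁻¹ = ι k' ∧ ι k' ∈ Q := fun hn hk =>
    have := (mem_normalizer_iff.1 hn _).1 hk
    let ⟨k', _, e⟩ := hQ this; ⟨k', e.symm, e ▸ this⟩
  have hT : ∀ {k}, ι k ∈ Q → k ∈ P.T := fun hk => let ⟨_, h1, e⟩ := hQ hk; h.inj e ▸ h1
  have cm : ∀ {n t k}, n ∈ N[Q] → n * ι P.z * n⁻¹ = ι t → ι k ∈ Q → k * t = t * k := fun hn e hk =>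
    h.cm.1 (e ▸ IC.comm_conj_of_mem_normalizer (fun y hy => by
      obtain ⟨y, -, rfl⟩ := hQ hy; exact h.cm.2 (P.cz y)) hn hk)
  obtain ⟨k', e, hk'⟩ := cj hg hk
  refine ⟨k', e, ?_⟩
  have fin : ∀ {a b : ZMod 2}, (a = 0 ↔ b = 0) → a = b := by decide
  by_cases hD : ∀ n ∈ N[Q], ∀ t, n * ι P.z * n⁻¹ = ι t → P.InZ t
  · obtain ⟨t, e1, -⟩ := cj hg hz
    obtain ⟨t', e2, -⟩ := cj (inv_mem hg) hz
    have h1 : t ≠ P.z := fun e => hc (mul_inv_eq_iff_eq_mul.1 (e ▸ e1))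
    have h2 := (hD _ hg _ e1).neg (h.conj_S e1).2.2 h1
    have h3 := (hD _ (inv_mem hg) _ e2).neg (h.conj_S e2).2.2 fun e3 =>
      h1 ((h.cj_eq e2 (h.cj_symm e1)).1 e3).symm
    have h4 : ∀ {k}, ι k ∈ Q → (P.θ k).σ = (P.θ k).ε ∧ ((P.θ k).ε = 0 ↔ k ∈ P.S) := fun {k} hk => by
      have h5 : (P.θ k).σ = (P.θ k).ε := CharTwo.add_eq_zero.1
        (P.comm_v.1 ((comm_iff h2).1 (cm hg e1 hk)))
      exact ⟨h5, by rw [mem_S, ← (d10 _ (hT hk)).2, ← map_one φ, φ_eq, h5]; exact and_self_iff.symm⟩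
    rw [φ_eq, (h4 hk).1, (h4 hk').1, and_self]
    refine fin ?_
    rw [(h4 hk).2, (h4 hk').2]
    constructor
    · intro hs
      obtain ⟨s, h5, e3⟩ := h.norm_S e2 (by simpa using e1) h3 h2 hs
      exact (h.cj_eq e3 (h.cj_symm e)).2 rfl ▸ h5
    · intro hs
      obtain ⟨s, h5, e3⟩ := h.norm_S e1 e2 h2 h3 hs
      exact (h.cj_eq e3 e).2 rfl ▸ h5
  push Not at hD
  obtain ⟨n, hn, d, e1, hd⟩ := hD
  obtain ⟨A, hA, hd'⟩ : ∃ A, P.Good A ∧ d ∈ A := by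
    obtain ⟨h1, h2, -⟩ := h.conj_S e1
    rcases d8 _ h1 (by rw [← map_mul, h2, map_one]) ((P.invol_S h1 h2).resolve_left hd).1 with e | e
    exacts [⟨_, hA, e⟩, ⟨_, hA.conj (P.x 3), mem_map_conj.2 (by simpa [mem_A] using e)⟩]
  have hdQ : ι d ∈ Q := e1 ▸ (mem_normalizer_iff.1 hn _).1 hz
  have h1 : ∀ {n t}, n ∈ N[Q] → n * ι P.z * n⁻¹ = ι t → t ∈ A := fun hn e =>
    (hA.loc d hd' hd _ (cm hn e hdQ).symm).2.1 (h.conj_S e).1.1
  have h2 : ∀ {m}, m ∈ N[Q] → ∀ a ∈ A, ∃ a', m * ι a * m⁻¹ = ι a' ∧ a' * d = d * a' := by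
    intro m hm a ha
    obtain ⟨t, e2, -⟩ := cj (inv_mem hm) hz
    obtain ⟨a', e3⟩ := h.fwd e2 (hA.comm _ ha _ (h1 (inv_mem hm) e2))
    obtain ⟨t', e4, -⟩ := cj (mul_mem (inv_mem hm) hn) hz
    have e5 : m * ι t' * m⁻¹ = ι d := by rw [← e4, ← e1]; group
    exact ⟨a', e3, (h.cj_eq (h.cj_mul e3 e5) (h.cj_mul e5 e3)).2
      (hA.comm _ ha _ (h1 (mul_mem (inv_mem hm) hn) e4))⟩
  obtain ⟨h3, h4, -⟩ := hA.loc d hd' hd _ (cm hn e1 hk)
  obtain ⟨h5, h6, -⟩ := hA.loc d hd' hd _ (cm hn e1 hk')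
  exact φ_eq.2 ⟨h5.trans h3.symm, fin ⟨fun e2 => (hA.le (h.normA hA hd' hd (h2 (inv_mem hg)) (h6 e2)
    (h.cj_symm e))).1, fun e2 => (hA.le (h.normA hA hd' hd (h2 hg) (h4 e2) e)).1⟩⟩

theorem transfer (hA : P.Good P.A) :
    ∃ (H : Subgroup G) (_ : H.Normal), Group.IsSolvable (G ⧸ H) ∧ IsSylowIn 2 (P.S.map ι) H ∧
      ∀ k, k ^ 3 ∈ P.S → ι k ∈ H := by
  obtain ⟨T, hT⟩ := h.syl
  have fus := alperin_fusion T (fun R g => ∀ k, ι k ∈ R → ∃ k', g * ι k * g⁻¹ = ι k' ∧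
    φ (P.θ k') = φ (P.θ k)) (fun R R' g h1 h2 k hk => h2 k (h1 hk)) (fun R g g' h1 h2 k hk => by
      obtain ⟨k', e1, e2⟩ := h1 k hk
      obtain ⟨k'', e3, e4⟩ := h2 k' (e1 ▸ conj_mem_conj hk g)
      exact ⟨k'', by rw [← e3, ← e1]; group, e4.trans e2⟩)
    (fun R c hc k hk => ⟨k, by rw [← hc _ hk]; simp, rfl⟩) fun Q h1 h2 h3 g hg k =>
      h.base hA (hT ▸ h1) (h3.centric h1 h2 ⟨hT ▸ ⟨_, by simp [mem_T], rfl⟩, fun y hy => by
        obtain ⟨y, -, rfl⟩ := (hT ▸ h1 : Q ≤ P.T.map ι) hy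
        exact h.cm.2 (P.cz y)⟩) hg
  let f : (T : Subgroup G) →* _ := ((φ.comp P.θ).comp (MonoidHom.ofInjective h.inj).symm.toMonoidHom).comp
    (inclusion (hT.le.trans (map_le_range _ _)))
  have hf : ∀ (x : (T : Subgroup G)) k, ι k = x → f x = φ (P.θ k) := fun x k e => by
    simp only [f, MonoidHom.comp_apply, MulEquiv.coe_toMonoidHom]
    congr 2
    exact (MulEquiv.symm_apply_eq _).2 (Subtype.ext e.symm)
  have sq : ∀ y : Multiplicative (ZMod 2 × ZMod 2), y ^ 2 = 1 := by decide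
  have h1 : ∀ k ∈ P.T, f.transfer (ι k) = φ (P.θ k) := fun k hk => by
    obtain ⟨n, hn⟩ := sylow_two_index_odd T
    have := transfer_eq_pow_of_fusion f (fun x g hx => by
      obtain ⟨k, -, e⟩ := hT.le x.2
      obtain ⟨k', e1, e2⟩ := fus (zpowers (ι k)) (zpowers_le.2 (e ▸ x.2)) g (by
        rw [MonoidHom.map_zpowers, zpowers_le, e]; exact hx) k (mem_zpowers _)
      rw [hf x k e, hf _ k' (by rw [← e1, e]), e2]) ⟨ι k, hT.ge ⟨k, hk, rfl⟩⟩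
    rwa [hn, pow_succ, pow_mul, sq, one_pow, one_mul, hf _ k rfl] at this
  have h2 : P.S ≤ P.T := fun s => (by decide +kernel : ∀ w ∈ SW.S, w ∈ SW.T) _
  refine ⟨f.transfer.ker, inferInstance, solvable_of_solvable_injective (QuotientGroup.kerLift_injective _),
    ?_, fun k hk => ?_⟩
  · convert (IsSylowIn.of_sylow_top T).inf_of_le_normalizer le_top (normalizer_eq_top f.transfer.ker).ge
    ext y
    constructor
    · rintro ⟨k, hk, rfl⟩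
      exact ⟨hT.ge ⟨k, h2 hk, rfl⟩, (h1 k (h2 hk)).trans ((d10 _ (h2 hk)).2.2 hk)⟩
    · rintro ⟨h4, h3⟩
      obtain ⟨k, hk, rfl⟩ := hT.le h4
      exact ⟨k, (d10 _ hk).2.1 ((h1 k hk).symm.trans h3), rfl⟩
  · have := (h1 _ (h2 hk)).trans ((d10 _ (h2 hk)).2.2 hk)
    rwa [map_pow, map_pow, pow_succ, sq, one_mul] at this

theorem eq_bot {N : Subgroup G} [N.Normal] (hz : ι P.z ∉ N) {k : Γ} (hk : ι k ∈ N) : k = 1 :=
  by_contra fun e => hz (P.z_mem (N := N.comap ι) (fun _ => (normalizer_eq_top _).ge trivial) hk e)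

theorem z_notMem : ι P.z ∉ pPrimeCore 2 G := fun hz => by
  have h1 := orderOf_dvd_natCard (⟨_, hz⟩ : pPrimeCore 2 G)
  rw [← orderOf_coe, orderOf_injective ι h.inj, h9_orderOf_eq_two_iff.2 ⟨P.z1, P.zz⟩] at h1
  exact not_dvd_card_pPrimeCore h1

theorem inverts {a : G} (ha : a ∈ pPrimeCore 2 G) : ι P.z * a * (ι P.z)⁻¹ = a⁻¹ :=
  BSW.inverts_of_fixedPointFree (by rw [← map_mul, P.zz, map_one]) ((normalizer_eq_top _).ge trivial)
    (fun b hb e => by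
      obtain ⟨k, rfl⟩ := h.rng b e.symm
      rw [h.eq_bot h.z_notMem hb, map_one]) ha

theorem core_bot {g : G} {t : Γ} (e : g * ι P.z * g⁻¹ = ι t) (h1 : t ≠ P.z) : pPrimeCore 2 G = ⊥ := by
  have hz : ι P.z ∈ C[pPrimeCore 2 G] := by_contra fun hz => h1 (by
    have := h.eq_bot hz (k := t * P.z) fun a ha => by
      have h2 := h.inverts (Normal.conj_mem inferInstance _ (inv_mem ha) g⁻¹)
      rw [map_mul, ← e, eq_comm, ← mul_inv_eq_iff_eq_mul]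
      calc _ = g * ι P.z * g⁻¹ * (ι P.z * a * (ι P.z)⁻¹) * (g * ι P.z * g⁻¹)⁻¹ := by group
        _ = g * (ι P.z * (g⁻¹ * a⁻¹ * g⁻¹⁻¹) * (ι P.z)⁻¹) * g⁻¹ := by rw [h.inverts ha]; group
        _ = a := by rw [h2]; group
    rw [eq_inv_of_mul_eq_one_left this, P.zinv])
  refine eq_bot_iff.2 fun a ha => ?_
  obtain ⟨k, rfl⟩ := h.rng a (hz a ha)
  rw [h.eq_bot h.z_notMem ha, map_one]
  exact one_mem _

end In

end SP

end Cfsg.Lib.L34
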