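import Cfsg.Agent.Lib.L34.Final

/-!
# Recognition of `PGL₃(4)` and of its automorphism group
-/

set_option autoImplicit false
set_option linter.unusedSectionVars false

namespace Cfsg.Lib.L34
open Subgroup Cfsg.Lib Cfsg.Lib.FT

variable {F : Type*} [Field F] {G : Type*} [Group G] [Finite G]

theorem card_pgl (hF : Nat.card F = 4) :
    Nat.card (GL (Fin 3) F ⧸ center (GL (Fin 3) F)) ≤ 60480 ∧ Finite (GL (Fin 3) F) := by
  have := f_fin hF
  have := Fintype.ofFinite F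
  have h1 := card_eq_card_quotient_mul_card_subgroup (center (GL (Fin 3) F))
  rw [Matrix.card_GL_field, Fin.prod_univ_three, ← Nat.card_eq_fintype_card, hF] at h1
  have h2 := Nat.card_le_card_of_injective (fun a : Fˣ => (⟨Matrix.GeneralLinearGroup.scalar _ a,
    Matrix.GeneralLinearGroup.mem_center_iff_val_mem_range_scalar.2 ⟨a, rfl⟩⟩ : center (GL (Fin 3) F)))
    fun a b e => Units.ext (by
      simpa using congrArg (fun x : center (GL (Fin 3) F) => x.1.1 0 0) e)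
  rw [Nat.card_units, hF] at h2
  refine ⟨?_, inferInstance⟩
  norm_num at h1
  nlinarith

theorem map_aut (α : MulAut G) (g : G) (X : Subgroup G) :
    (g •ᶜ X).map α.toMonoidHom = α g •ᶜ X.map α.toMonoidHom := by
  rw [map_map, map_map]; congr 1; ext; simp

theorem map_eq_of {α : MulAut G} {X : Subgroup G} (h : ∀ x ∈ X, α x ∈ X) : X.map α.toMonoidHom = X :=
  eq_of_le_of_card_ge (by rintro _ ⟨x, hx, rfl⟩; exact h x hx)
    (card_map_of_injective α.injective).ge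

theorem Cj.aut {α : MulAut G} {X p : Subgroup G} (h : ∀ x ∈ X, α x ∈ X) (hp : Cj X p) :
    Cj X (p.map α.toMonoidHom) := by
  obtain ⟨g, rfl⟩ := hp
  exact ⟨α g, by rw [map_aut, map_eq_of h]⟩

theorem inc_aut (α : MulAut G) {p l : Subgroup G} :
    Inc (p.map α.toMonoidHom) (l.map α.toMonoidHom) ↔ Inc p l := by
  refine ⟨?_, fun ⟨z, h1, h2, h3⟩ => ⟨α z, ⟨z, h1, rfl⟩, ⟨z, h2, rfl⟩, by simpa⟩⟩
  rintro ⟨_, ⟨z, h1, rfl⟩, ⟨y, h2, e⟩, h3⟩
  exact ⟨z, h1, α.injective e ▸ h2, by simpa using h3⟩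

namespace UT
variable {U : UT F G}

theorem trich (U : UT F G) (hO : pPrimeCore 2 G = ⊥) : ⊤ ≤ N[U.A] ∨ ⊤ ≤ N[U.B] ∨ U.Pl := by
  by_cases hA : N[U.A] ≤ N[U.Z] <;> by_cases hB : N[U.B] ≤ N[U.Z]
  · exact (U.case_one' hO hA hB).imp_right .inl
  · exact .inr (.inl (U.swap_A ▸ U.swap.case_two hO (by simpa using hB) (by simpa using hA)))
  · exact .inl (U.case_two hO hA hB)
  · exact .inr (.inr (U.pl hO hA hB))

theorem Act.mem {n : G} {l m : F} (h : U.Act n l m) : n ∈ N[U.S] := mem_N_of_le (by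
  rintro _ ⟨_, ⟨a, b, c, rfl⟩, rfl⟩
  obtain ⟨d, e⟩ := h.s a b c
  exact ⟨_, _, _, e.symm⟩)

namespace Pl
variable (h : U.Pl)
include h

theorem faithful (hO : pPrimeCore 2 G = ⊥) {g : G} (hg : ∀ p, Cj U.A p → g ∈ N[p]) : g = 1 := by
  have k : ∀ {g b : G}, g ∈ N[U.A].normalCore → g ∈ N[b •ᶜ U.A] := fun {g b} hg => by
    rw [← conj_normalizer, mem_map_conj]; simpa using hg b⁻¹
  refine mem_bot.1 (hO.le (le_pPrimeCore N[U.A].normalCore_normal ((Nat.Prime.coprime_iff_not_dvd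
    Nat.prime_two).2 (odd_of_no_invol fun z hz h2 => ?_)).symm fun b => ?_))
  · by_contra h1
    obtain ⟨g, hg⟩ := U.exZ h.hA h.hB h2
    obtain ⟨o, ⟨b, rfl⟩, ho⟩ := (h.conj g).exists_off
    exact ho ((h.conj g).inc_of_mem ⟨b, rfl⟩ (Cj.refl _) ((U.conj g).Z_leB hg) h1 (by
      rw [conj_A, conj_conj]; exact k hz))
  · have := hg _ ((Cj.refl U.A).conj b⁻¹)
    rwa [← conj_normalizer, mem_map_conj, inv_inv] at this

theorem act_surj {ρ : G} {w : F} (hw : w ^ 2 + w + 1 = 0) (hρ : U.Act ρ w (w ^ 2)) {l m : F}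
    (hl : l ≠ 0) (hm : m ≠ 0) : ∃ n, U.Act n l m := by
  have two := U.two
  have h0 := hρ.l0
  have h1 : w ≠ 1 := by rintro rfl; exact one_ne_zero (α := F) (by linear_combination hw - two)
  have cj : ∀ x ∈ U.A, x ∉ U.Z → IsConj (U.u 1 0 0) x := by
    rintro _ ⟨s, c, rfl⟩ hx
    obtain ⟨j, e⟩ := f_orbit U.hF h0 h1 one_ne_zero (y := s) (by simpa using hx)
    obtain ⟨d, e1⟩ := (hρ.pow j).s 1 0 0
    rw [e, mul_zero] at e1
    obtain ⟨k, -, e2⟩ := U.exists_conj_coset (x := U.u s 0 d) (z := U.u 0 0 (c - d)) (by simp)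
      (by simpa using hx) (by simp)
    exact (isConj_iff.2 ⟨_, e1⟩).trans (isConj_iff.2 ⟨k, by simpa [U.mul] using e2⟩)
  obtain ⟨k, hk, ⟨c, e⟩⟩ := U.spreadA h.hA (x := U.u 1 0 0) (by simp)
  have hc : c ≠ 0 := by
    rintro rfl
    rw [u_zero, eq_comm, conj_eq_one_iff, U.u_eq_one] at e
    simp at e
  have hz : U.u 0 0 (w * c) ≠ 1 := by simp [U.u_eq_one, h0, hc]
  obtain ⟨g, hg⟩ := isConj_iff.1 (((isConj_iff.2 ⟨k, e.symm⟩).symm.trans
    (cj (k⁻¹ * U.u 0 0 (w * c) * k⁻¹⁻¹) ((mem_normalizer_iff.1 (inv_mem hk) _).1 (by simp)) fun e1 => by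
      simpa [e, mul_assoc] using (mem_normalizer_iff.1 (U.ti (inv_mem hk) (by simp) hz e1) (U.u 0 0 c)).1
        (by simp))).trans (isConj_iff.2 ⟨k⁻¹, rfl⟩).symm)
  obtain ⟨l', m', h2⟩ := U.exists_act (n := g) (mem_N_of_le (h.le_S (by simp) hz (U.p_S.map _) (by
    rw [← hg, ← conj_centralizer_singleton]; exact map_mono (U.S_le_C1 (by simp)))))
  have h3 : l' * m' = w := by
    rw [h2.z, U.u_inj] at hg
    exact mul_right_cancel₀ hc hg.2.2
  obtain ⟨j, e1⟩ := f_orbit U.hF h0 h1 one_ne_zero (mul_ne_zero hl hm)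
  obtain ⟨i, e2⟩ := f_orbit U.hF h0 h1 (pow_ne_zero j h2.l0) hl
  refine ⟨ρ ^ i * g ^ j, ?_⟩
  convert (hρ.pow i).mul (h2.pow j) using 1
  · exact e2.symm
  refine mul_left_cancel₀ hl ?_
  rw [← e1, ← e2, show w ^ i * l' ^ j * ((w ^ 2) ^ i * m' ^ j) = (w ^ 3) ^ i * (l' * m') ^ j by ring,
    f_cube U.hF h0, h3]
  simp

theorem card_ge (hs : ∀ l m : F, l ≠ 0 → m ≠ 0 → ∃ n, U.Act n l m) : 64 * 576 ≤ Nat.card G := by
  have := f_fin U.hF
  obtain ⟨o, ho, ho'⟩ := h.exists_off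
  obtain ⟨l, hl, h1, h2⟩ : ∃ l, Cj U.B l ∧ Inc o l ∧ ¬ Inc U.A l := by
    obtain ⟨g, rfl⟩ := ho
    obtain ⟨l, hl, h1, h2⟩ := h.exists_other
    by_contra! h3
    exact (h.uniq_line (Cj.refl _) ⟨g, rfl⟩ ⟨g, rfl⟩ (hl.conj g) (h3 _ ⟨g, rfl⟩ (U.inc.conj g))
      (U.inc.conj g) (h3 _ (hl.conj g) (h1.conj g)) (h1.conj g)).elim (fun e => ho' (e ▸ U.inc))
      fun e => h2 (conj_inj.1 e)
  obtain ⟨g, rfl, rfl⟩ := h.flag ho hl h1
  have h3 : U.S ⊓ N[(U.conj g).S] = ⊥ := by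
    refine (eq_bot_iff_forall _).2 fun x hx => by_contra fun hx1 => ?_
    obtain ⟨k, hk⟩ := (U.p_S.to_le (zpowers_le.2 hx.1)).exists_card_eq
    refine odd_of_no_invol (X := zpowers x) (fun z hz hz2 => by_contra fun hz1 => ?_) (hk ▸ dvd_pow_self 2
      fun e => hx1 (by rwa [e, pow_zero, card_eq_one, zpowers_eq_bot] at hk))
    have h4 := zpowers_le.2 hx hz
    rcases U.invol h4.1 hz2 with h5 | h5
    · exact h2 (h.swap.inc_of_mem (by simpa using hl) (by simpa using Cj.refl _) h5 hz1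
        ((U.conj g).NS_le_NB h4.2)).symm
    · exact ho' (h.inc_of_mem ho (Cj.refl _) h5 hz1 ((U.conj g).NS_le_NA h4.2))
  choose n hn using fun p : Fˣ × Fˣ => hs p.1 p.2 p.1.ne_zero p.2.ne_zero
  have h4 := Nat.card_le_card_of_injective (fun p : U.S × Fˣ × Fˣ =>
    (⟨p.1 * n p.2, mul_mem (le_normalizer p.1.2) (hn _).mem⟩ : N[U.S])) fun p q e => by
      replace e : (p.1 : G) * n p.2 = q.1 * n q.2 := congrArg Subtype.val e
      obtain ⟨d, e1⟩ := ((U.act_S p.1.2).mul (hn p.2)).s 1 1 0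
      obtain ⟨d', e2⟩ := ((U.act_S q.1.2).mul (hn q.2)).s 1 1 0
      rw [e, e2, U.u_inj] at e1
      have : p.2 = q.2 := Prod.ext (Units.ext (by simpa using e1.1.symm))
        (Units.ext (by simpa using e1.2.1.symm))
      rw [this] at e
      exact Prod.ext (Subtype.ext (mul_right_cancel e)) this
  have h5 := Nat.card_le_card_of_injective (fun p : U.S × N[(U.conj g).S] => (p.1 : G) * p.2)
    (mul_injective_of_disjoint (disjoint_iff.2 h3))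
  rw [Nat.card_prod, conj_S, ← conj_normalizer, card_conj, U.card_S] at h5
  rw [Nat.card_prod, Nat.card_prod, Nat.card_units, U.card_S, U.hF] at h4
  omega

theorem iso (hO : pPrimeCore 2 G = ⊥) (hs : ∀ l m : F, l ≠ 0 → m ≠ 0 → ∃ n, U.Act n l m) :
    Nonempty (G ≃* GL (Fin 3) F ⧸ center (GL (Fin 3) F)) := by
  obtain ⟨f, hf⟩ := h.emb hO
  obtain ⟨h1, _⟩ := card_pgl U.hF
  have h2 := h.card_ge hs
  have h3 := f.range.index_mul_card
  rw [← Nat.card_congr (MonoidHom.ofInjective hf).toEquiv] at h3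
  have h4 := f.range.index_ne_zero_of_finite
  exact ⟨MulEquiv.ofBijective f ⟨hf, MonoidHom.range_eq_top.1 (index_eq_one.1 (by
    by_contra; have : 2 ≤ f.range.index := by omega
    nlinarith))⟩⟩

theorem fixB {α : MulAut G} (h1 : ∀ a b c, ∃ d, α (U.u a b c) = U.u a b d)
    (h2 : ∀ c, α (U.u 0 0 c) = U.u 0 0 c) : ∃ a ∈ U.A, ∀ b ∈ U.B, a * α b * a⁻¹ = b := by
  obtain ⟨p, hp, h3, h4⟩ := h.swap.exists_other
  rw [swap_B] at hp h4
  rw [swap_A] at h3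
  have k := U.compl inf_le_right (h.card_inf hp (Cj.refl _) h3.symm)
    (fun ⟨z, z1, z2, z3⟩ => h4 (h.uniq (Cj.refl _) hp (U.Z_leA z2) z1.1 z3))
  obtain ⟨t, ht⟩ := k 1
  obtain ⟨d, e⟩ := h1 0 1 t
  have hA : ∀ x ∈ U.A, (MulAut.conj (U.u (t - d) 0 0) * α) x ∈ U.A := by
    rintro _ ⟨a, c, rfl⟩
    obtain ⟨d, e⟩ := h1 a 0 c
    simp [e, U.u_conj]
  have h5 := h.uniq (hp.aut hA) hp ⟨_, ht.1, by simp [e, U.u_conj]⟩ ht.1 (by simp [U.u_eq_one])
  refine ⟨U.u (t - d) 0 0, by simp, ?_⟩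
  rintro _ ⟨s, c, rfl⟩
  obtain ⟨t', ht'⟩ := k s
  obtain ⟨d', e'⟩ := h1 0 s t'
  have h6 : U.u 0 s (d' + (t - d) * s) ∈ p := h5 ▸ ⟨_, ht'.1, by simp [e', U.u_conj]⟩
  have h7 : d' + (t - d) * s = t' := by_contra fun e => h4 (h.uniq (Cj.refl _) hp (by simp [U.mul, ← two_mul, U.two])
    (mul_mem h6 ht'.1) (by
      simp only [U.mul, Ne, U.u_eq_one]
      exact fun e1 => e (by linear_combination e1.2.2 - t' * U.two)))
  rw [show U.u 0 s c = U.u 0 s t' * U.u 0 0 (c - t') by simp [U.mul], map_mul, e', h2, U.mul, U.u_conj,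
    U.mul]
  exact U.u_congr (by simp) (by simp) (by linear_combination h7)

variable (hO : pPrimeCore 2 G = ⊥) {Y : Subgroup (MulAut G)} (hY : ∀ g, MulAut.conj g ∈ Y)
include hO hY

theorem mem1 {α : MulAut G} (h1 : ∀ x ∈ U.A, α x = x) (h2 : ∀ x ∈ U.B, α x = x) : α ∈ Y := by
  have hA : ∀ x ∈ U.A, α x ∈ U.A := fun x hx => (h1 x hx).symm ▸ hx
  have hB : ∀ x ∈ U.B, α x ∈ U.B := fun x hx => (h2 x hx).symm ▸ hx
  obtain ⟨o, ho, ho'⟩ := h.exists_off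
  obtain ⟨m, hm, ⟨y, y1, y2, y3⟩, h3⟩ := h.join (Cj.refl _) ho
  have h4 := h.uniqB (hm.aut hB) hm ⟨y, y2, h1 y y1⟩ y2 y3
  have h5 : ¬ Inc (o.map α.toMonoidHom) U.B := by rwa [← map_eq_of hB, inc_aut]
  obtain ⟨a, ha, e⟩ := h.trans_on (Cj.refl _) hm ⟨y, y1, y2, y3⟩ (Cj.refl _) U.inc
    (fun e => ho' (e ▸ h3)) (ho.aut hA) ho (h4 ▸ (inc_aut α).2 h3) h3 (fun e => h5 (e ▸ U.inc))
    fun e => ho' (e ▸ U.inc)
  obtain ⟨β, hβ⟩ : ∃ β, β = MulAut.conj a * α := ⟨_, rfl⟩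
  have b1 : ∀ x ∈ U.A, β x ∈ U.A := fun x hx => by
    simpa [hβ] using U.conj_mem_A (U.A_le ha.1) (hA x hx)
  have b2 : ∀ x ∈ U.B, β x = x := fun x hx => by simp [hβ, h2 x hx, U.commB ha.2 hx]
  have b3 : ∀ p, Cj U.A p → p.map β.toMonoidHom = p := fun p hp => by
    by_cases hi : Inc p U.B
    · obtain ⟨z, z1, z2, z3⟩ := hi
      exact h.uniq (hp.aut b1) hp ⟨z, z1, b2 z z2⟩ z1 z3
    obtain ⟨b, hb, rfl⟩ := h.trans_off ho hp ho' hi
    rw [map_aut, b2 b hb]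
    congr 1
    conv_rhs => rw [← e, map_map]
    exact hβ ▸ rfl
  have : β = 1 := MulEquiv.ext fun g => (inv_mul_eq_one.1 (h.faithful hO fun p hp =>
    conj_eq_iff_mem_normalizer.1 (by
      have := b3 _ (hp.conj g)
      rw [map_aut, b3 p hp] at this
      rw [← conj_conj, this]; exact map_conj_inv_map_conj _ _))).symm
  exact (Y.mul_mem_cancel_left (hY a)).1 (hβ ▸ this ▸ one_mem _)

theorem mem2 {α : MulAut G} (h1 : ∀ a b c, ∃ d, α (U.u a b c) = U.u a b d)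
    (h2 : ∀ c, α (U.u 0 0 c) = U.u 0 0 c) : α ∈ Y := by
  obtain ⟨a, ha, e⟩ := h.fixB h1 h2
  obtain ⟨b, hb, e'⟩ := h.swap.fixB (α := MulAut.conj a * α) (fun s t c => by
    obtain ⟨d, e⟩ := h1 t s (c + s * t)
    obtain ⟨d', e1⟩ := (U.act_S (U.A_le ha)).s t s d
    exact ⟨d' - s * t, by simpa [UT.swap, e] using e1⟩) fun c => by simpa [UT.swap] using e _ (by simp)
  rw [swap_A] at hb
  rw [swap_B] at e'
  exact (Y.mul_mem_cancel_left (hY a)).1 ((Y.mul_mem_cancel_left (hY b)).1 (h.mem1 hO hY e'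
    fun x hx => by simp [e x hx, U.commB hb hx]))

variable (hs : ∀ l m : F, l ≠ 0 → m ≠ 0 → ∃ n, U.Act n l m)
include hs

theorem mem3 {α : MulAut G} (hA : ∀ x ∈ U.A, α x ∈ U.A) (hB : ∀ x ∈ U.B, α x ∈ U.B)
    (h2 : ∀ c, α (U.u 0 0 c) = U.u 0 0 c) : α ∈ Y := by
  choose fA gA eA using fun a => hA (U.u a 0 0) (by simp)
  choose fB gB eB using fun a => hB (U.u 0 a 0) (by simp)
  have h1 : ∀ a b, a * b = fA a * fB b := fun a b => by
    have : U.u a 0 0 * U.u 0 b 0 = U.u 0 b 0 * U.u a 0 0 * U.u 0 0 (a * b) := by simp [U.mul]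
    replace this := congrArg α this
    simp only [map_mul] at this
    simp only [← eA, ← eB, h2, U.mul, U.u_inj] at this
    linear_combination -this.2.2
  have h3 := h1 1 1
  have h4 : fA 1 * fB 1 ≠ 0 := by simp [← h3]
  obtain ⟨n, hn⟩ := hs (fB 1) (fA 1) (right_ne_zero_of_mul h4) (left_ne_zero_of_mul h4)
  refine (Y.mul_mem_cancel_left (hY n)).1 (h.mem2 hO hY (fun a b c => ?_) fun c => ?_)
  · have : U.u a b c = U.u a 0 0 * U.u 0 b 0 * U.u 0 0 (c - a * b) := by simp [U.mul]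
    rw [MulAut.mul_apply, this, map_mul α, map_mul α, ← eA, ← eB, h2, U.mul, U.mul]
    obtain ⟨d, e⟩ := hn.s (fA a + 0 + 0) (0 + fB b + 0) _
    exact ⟨d, e.trans (U.u_congr (by linear_combination -h1 a 1) (by linear_combination -h1 1 b) rfl)⟩
  · rw [MulAut.mul_apply, h2]
    exact (hn.z c).trans (U.u_congr rfl rfl (by linear_combination -c * h3))

theorem aut_top {w : F} (hw : w ^ 2 + w + 1 = 0) {ξ φ : MulAut G} (hξ : ξ ∈ Y) (hφ : φ ∈ Y)
    (x1 : ∀ x ∈ U.A, ξ x ∈ U.B) (x2 : ∀ x ∈ U.B, ξ x ∈ U.A) (f1 : ∀ x ∈ U.A, φ x ∈ U.A)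
    (f2 : ∀ x ∈ U.B, φ x ∈ U.B) (f3 : φ (U.u 0 0 1) = U.u 0 0 1)
    (f4 : φ (U.u 0 0 (w + 1)) = U.u 0 0 w) : Y = ⊤ := by
  have k1 : ∀ α : MulAut G, (∀ x ∈ U.A, α x ∈ U.A) → (∀ x ∈ U.B, α x ∈ U.B) →
      α (U.u 0 0 1) = U.u 0 0 1 → α (U.u 0 0 w) = U.u 0 0 w → α ∈ Y := fun α hA hB h1 h2 =>
    h.mem3 hO hY hs hA hB fun c => by
      rcases f_cases U.hF hw c with e | e | e | e <;> rw [e]
      exacts [by simp, h1, h2, by
        rw [show U.u 0 0 (w + 1) = U.u 0 0 w * U.u 0 0 1 by simp [U.mul], map_mul, h1, h2]]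
  have k2 : ∀ α : MulAut G, (∀ x ∈ U.A, α x ∈ U.A) → (∀ x ∈ U.B, α x ∈ U.B) →
      α (U.u 0 0 1) = U.u 0 0 1 → α ∈ Y := fun α hA hB h1 => by
    obtain ⟨c, e⟩ := U.mem_Z_of (hA (U.u 0 0 w) (by simp)) (hB _ (by simp))
    rcases f_cases U.hF hw c with e1 | e1 | e1 | e1 <;> rw [e1] at e
    · simp only [u_zero, eq_comm (a := (1 : G)), EmbeddingLike.map_eq_one_iff, U.u_eq_one] at e
      simp [e.2.2] at hw
    · rw [← h1, α.injective.eq_iff, U.u_inj] at e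
      exact absurd (by rw [← e.2.2] at hw; linear_combination hw - U.two) (one_ne_zero (α := F))
    · exact k1 α hA hB h1 e.symm
    · exact (Y.mul_mem_cancel_left hφ).1 (k1 _ (fun x hx => f1 _ (hA x hx)) (fun x hx => f2 _ (hB x hx))
        (by simp [h1, f3]) (by simp [← e, f4]))
  have k3 : ∀ α : MulAut G, (∀ x ∈ U.A, α x ∈ U.A) → (∀ x ∈ U.B, α x ∈ U.B) → α ∈ Y := by
    intro α hA hB
    obtain ⟨c, e⟩ := U.mem_Z_of (hA (U.u 0 0 1) (by simp)) (hB _ (by simp))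
    have hc : c ≠ 0 := by rintro rfl; simp [eq_comm (a := (1 : G)), U.u_eq_one] at e
    obtain ⟨n, hn⟩ := hs c⁻¹ 1 (inv_ne_zero hc) one_ne_zero
    exact (Y.mul_mem_cancel_left (hY n)).1 (k2 _
      (fun x hx => (mem_normalizer_iff.1 (U.NS_le_NA hn.mem) _).1 (hA x hx))
      (fun x hx => (mem_normalizer_iff.1 (U.NS_le_NB hn.mem) _).1 (hB x hx))
      (by simp [← e, hn.z, hc]))
  refine eq_top_iff.2 fun α _ => ?_
  obtain ⟨g, -, e⟩ := U.syl.exists_conj_le (U.p_S.map α.toMonoidHom) le_top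
  rw [map_map] at e
  refine (Y.mul_mem_cancel_left (hY g)).1 ?_
  change U.S.map (MulAut.conj g * α).toMonoidHom ≤ _ at e
  generalize MulAut.conj g * α = β at e
  have k : ∀ V : UT F G, V.S = U.S → V.A.map β.toMonoidHom = U.A ∨ V.A.map β.toMonoidHom = U.B :=
    fun V e1 => U.e16 ((map_mono (e1 ▸ V.A_le)).trans e) (by
      rintro _ ⟨x, hx, rfl⟩; rw [← map_mul, V.sqA hx, map_one])
      (by rw [card_map_of_injective β.injective, V.card_A])
  have h1 := k U.swap U.swap_S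
  rw [swap_A] at h1
  have ne : U.A.map β.toMonoidHom ≠ U.B.map β.toMonoidHom := fun e =>
    U.A_ne_B (map_injective β.injective e)
  rcases k U rfl with e1 | e1 <;> rcases h1 with e2 | e2
  · exact absurd (e1.trans e2.symm) ne
  · exact k3 _ (fun x hx => e1.le ⟨x, hx, rfl⟩) fun x hx => e2.le ⟨x, hx, rfl⟩
  · exact (Y.mul_mem_cancel_left hξ).1 (k3 _ (fun x hx => x2 _ (e1.le ⟨x, hx, rfl⟩))
      fun x hx => x1 _ (e2.le ⟨x, hx, rfl⟩))
  · exact absurd (e1.trans e2.symm) ne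

end Pl

end UT

end Cfsg.Lib.L34
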