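import Cfsg.Agent.Lib.L34.X3
import Cfsg.Agent.Lib.L34.X4

/-!
# A characterization of `Aut(PGL₃(4))`
-/

set_option autoImplicit false
set_option linter.unusedSectionVars false

namespace Cfsg.Lib.L34
open Subgroup Cfsg.Lib Cfsg.Lib.FT Equiv SW

variable {Γ : Type*} [Group Γ] {F : Type*} [Field F] {G : Type*} [Group G] [Finite G]

theorem SP.In.main {P : SP Γ} {ι : Γ →* G} (h : P.In ι) (hF : Nat.card F = 4)
    (hns : ¬ Group.IsSolvable G) {g : G} {t : Γ} (e : g * ι P.z * g⁻¹ = ι t) (h1 : t ≠ P.z) :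
    Nonempty (G ≃* MulAut (GL (Fin 3) F ⧸ center (GL (Fin 3) F))) := by
  obtain ⟨a, ha, ha2⟩ := h.exists_a e h1
  obtain ⟨w, hw⟩ := f_om hF
  obtain ⟨C⟩ := P.exists_co hF hw ha ha2
  obtain ⟨H, _, s1, s2, s3⟩ := h.transfer (C.good hF hw)
  have hO : pPrimeCore 2 H = ⊥ := (map_eq_bot_iff_of_injective _ H.subtype_injective).1
    (eq_bot_iff.2 (h.core_bot e h1 ▸ le_pPrimeCore inferInstance (coprime_card_pPrimeCoreOf H)))
  have uS : ∀ a b c, ι (C.u a b c) ∈ P.S.map ι := fun a b c => ⟨_, (C.memS _).2 ⟨_, _, _, rfl⟩, rfl⟩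
  let U : UT F H :=
    { u := fun a b c => ⟨_, s2.le (uS a b c)⟩
      mul := fun a b c a' b' c' => Subtype.ext (by rw [coe_mul, ← map_mul, C.mul])
      inj1 := fun a b c e => C.inj1 _ _ _ (h.inj (by simpa using congrArg Subtype.val e))
      hF := hF
      max := fun R hR h2 x hx => by
        obtain ⟨k, hk, e⟩ := (s2.maximal (R.map H.subtype) (hR.map _) (map_subtype_le _) (by
          rintro _ ⟨k, hk, rfl⟩
          obtain ⟨a, b, c, rfl⟩ := (C.memS _).1 hk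
          exact ⟨_, h2 a b c, rfl⟩)).le ⟨x, hx, rfl⟩
        obtain ⟨a, b, c, rfl⟩ := (C.memS _).1 hk
        exact ⟨a, b, c, Subtype.ext e⟩ }
  have cj : ∀ {k a b c a' b' c'}, k * C.u a b c * k⁻¹ = C.u a' b' c' →
      MulAut.conjNormal (ι k) (U.u a b c) = U.u a' b' c' := fun e => Subtype.ext (by
    simp only [MulAut.conjNormal_apply, U, ← map_inv, ← map_mul, e])
  have xc : ∀ b c, P.x 3 * C.u 0 b c * (P.x 3)⁻¹ = C.u (b ^ 2) 0 (c ^ 2) := fun b c => by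
    have := C.xc (b ^ 2) (c ^ 2)
    rw [← pow_mul, ← pow_mul, f_pow hF, f_pow hF] at this
    rw [← this, P.xinv, ← mul_assoc, ← mul_assoc, P.xx, one_mul, mul_assoc, P.xx, mul_one]
  have x1 : ∀ x ∈ U.A, MulAut.conjNormal (ι (P.x 3)) x ∈ U.B := by
    rintro _ ⟨a, c, rfl⟩; rw [cj (C.xc a c)]; simp
  have x2 : ∀ x ∈ U.B, MulAut.conjNormal (ι (P.x 3)) x ∈ U.A := by
    rintro _ ⟨a, c, rfl⟩; rw [cj (xc a c)]; simp
  have hp : U.Pl := by
    have k : ∀ V : UT F H, (∀ x ∈ V.A, MulAut.conjNormal (ι (P.x 3)) x ∈ V.B) → ¬ ⊤ ≤ N[V.A] := by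
      intro V h2 h3
      have n1 : V.A.Normal := normalizer_eq_top_iff.1 (top_le_iff.1 h3)
      have n2 := n1.map (MulAut.conjNormal (ι (P.x 3))).toMonoidHom (MulEquiv.surjective _)
      rw [eq_of_le_of_card_ge (H := V.A.map _) (K := V.B) (by rintro _ ⟨x, hx, rfl⟩; exact h2 x hx)
        (by rw [card_map_of_injective (MulEquiv.injective _), V.card_A, V.card_B])] at n2
      refine hns (isSolvable_of_normal_quotient H (sc_solv_of_normal_sup V.syl ?_) s1)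
      rw [← V.sup_eq]; infer_instance
    exact ((U.trich hO).resolve_left (k U x1)).resolve_left (by simpa using k U.swap (by simpa using x2))
  obtain ⟨ρ, r1, r2⟩ := C.rho
  have w0 : w ≠ 0 := by rintro rfl; simp at hw
  have hs := fun l m => hp.act_surj hw (l := l) (m := m) (ρ := ⟨ι ρ, s3 ρ (by
    rw [SP.mem_S, map_pow, r1]; decide)⟩) ⟨w0, pow_ne_zero _ w0, fun a b c => ⟨c, cj (r2 ..)⟩, fun c =>
      (cj (r2 ..)).trans (U.u_congr (by simp) (by simp) (by linear_combination -c * f_cube hF w0))⟩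
  obtain ⟨f, hf⟩ := P.surj ⟨swap 0 1, 0⟩
  have fA : ∀ f, (P.θ f).σ = 0 → ∀ a c, ∃ a' c', C.u a' 0 c' = f * C.u a 0 c * f⁻¹ := fun f hf a c =>
    (C.memA _).1 (by simpa [SP.mem_A] using d15 _ hf _ ((C.memA _).2 ⟨a, c, rfl⟩))
  have top := hp.aut_top hO (Y := (MulAut.conjNormal : G →* MulAut H).range)
    (fun g => ⟨g, MulAut.conjNormal_val⟩) hs hw ⟨_, rfl⟩ ⟨ι f, rfl⟩ x1 x2 (by
      rintro _ ⟨a, c, rfl⟩
      obtain ⟨a', c', e⟩ := fA f (by rw [hf]; decide) a c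
      rw [cj e.symm]; simp) (by
      rintro _ ⟨a, c, rfl⟩
      obtain ⟨a', c', e⟩ := fA (P.x 3 * f * (P.x 3)⁻¹) (by
        simp only [map_mul, map_inv, hf, SP.θx]; decide) (a ^ 2) (c ^ 2)
      rw [cj (a' := 0) (b' := a' ^ 2) (c' := c' ^ 2) (by
        rw [← C.xc, e, ← xc]; simp only [mul_inv_rev, P.xinv, mul_assoc, P.r2, P.xx, mul_one])]
      simp) (cj (by rw [C.uz, P.cz, mul_inv_cancel_right])) (cj (by
      rw [show C.u 0 0 (w + 1) = P.v * P.z by rw [← C.uv, ← C.uz, C.mul]; simp, C.uv, ← conj_mul,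
        P.conj_v, hf, show SW.lam ⟨swap 0 1, 0⟩ = 1 by decide, P.cz f]
      simp [mul_assoc, P.zz]))
  obtain ⟨e1⟩ := hp.iso hO hs
  refine ⟨(MulEquiv.ofBijective MulAut.conjNormal ⟨(injective_iff_map_eq_one _).2 fun y hy => ?_,
    MonoidHom.range_eq_top.1 top⟩).trans (MulAut.congr e1)⟩
  have k : ∀ y : G, MulAut.conjNormal (H := H) y = 1 → ∀ x : H, y * x * y⁻¹ = x := fun y hy x =>
    congrArg Subtype.val (DFunLike.congr_fun hy x)
  obtain ⟨m, rfl⟩ := h.rng y (C.uz ▸ mul_inv_eq_iff_eq_mul.1 (k y hy (U.u 0 0 1)))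
  rw [h.eq_bot (N := (MulAut.conjNormal (H := H)).ker) (fun hz => ?_) hy, map_one]
  have := hp.faithful hO (g := U.u 0 0 1) fun p _ => mem_normalizer_iff.2 fun x => by
    rw [show U.u 0 0 1 * x * (U.u 0 0 1)⁻¹ = x from Subtype.ext (k (ι (C.u 0 0 1)) (by rw [C.uz]; exact hz) x)]
  simp [U.u_eq_one] at this

end Cfsg.Lib.L34
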